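import Cfsg.Agent.Lib.Suzuki.Group

/-!
# The invariant form and the independence of three points of the ovoid
-/

set_option autoImplicit false
set_option linter.unusedSectionVars false

namespace Cfsg.Agent.Suzuki

open Matrix MulAction

variable {F : Type*} [Field F] [Fintype F] [CharP F 2] {m : ℕ}
variable (hm : 1 ≤ m) (hF : Fintype.card F = 2 ^ (2 * m + 1))

include hF

theorem trans_form (a b : F) :
    (transMat m a b).transpose * swapMat * transMat m a b = swapMat := by
  have h2 : (2 : F) = 0 := CharTwo.two_eq_zero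
  ext i j
  fin_cases i <;> fin_cases j <;>
    simp [transMat, swapMat, Matrix.mul_apply, Fin.sum_univ_four, ← theta_def, ovf_eq] <;>
    grind

omit hF in
theorem torus_form (s : Fˣ) :
    (torusMat m s).transpose * swapMat * torusMat m s = swapMat := by
  have := s.ne_zero
  rw [torusMat, Matrix.diagonal_transpose]
  ext i j
  rw [Matrix.mul_diagonal, Matrix.diagonal_mul]
  fin_cases i <;> fin_cases j <;> simp [swapMat] <;> field_simp

omit hF in
theorem swap_form : (swapMat : Matrix (Fin 4) (Fin 4) F).transpose * swapMat * swapMat = swapMat := by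
  rw [mul_assoc, swapMat_mul_self, mul_one]
  ext i j
  fin_cases i <;> fin_cases j <;> simp [swapMat]

include hm

theorem preserves_form {g : SpecialLinearGroup (Fin 4) F} (hg : g ∈ Cfsg.Sz F m) :
    (g : Matrix (Fin 4) (Fin 4) F).transpose * Cfsg.suzukiForm F * (g : Matrix (Fin 4) (Fin 4) F) =
      Cfsg.suzukiForm F := by
  show _ * (swapMat : Matrix (Fin 4) (Fin 4) F) * _ = swapMat
  have hmul : ∀ A B : Matrix (Fin 4) (Fin 4) F, A.transpose * swapMat * A = swapMat →
      B.transpose * swapMat * B = swapMat → (A * B).transpose * swapMat * (A * B) = swapMat := by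
    intro A B hA hB
    rw [Matrix.transpose_mul,
      show Bᵀ * Aᵀ * swapMat * (A * B) = Bᵀ * (Aᵀ * swapMat * A) * B by simp only [mul_assoc], hA, hB]
  rcases bruhat hm hF ⟨g, hg⟩ with ⟨a, b, s, h⟩ | ⟨a, b, c, d, s, h⟩
  · have e : (g : Matrix (Fin 4) (Fin 4) F) = transMat m a b * torusMat m s :=
      congrArg (fun x : Cfsg.Sz F m => (x.1 : Matrix (Fin 4) (Fin 4) F)) h
    rw [e]
    exact hmul _ _ (trans_form hF a b) (torus_form s)
  · have e : (g : Matrix (Fin 4) (Fin 4) F) =
        transMat m a b * swapMat * (transMat m c d * torusMat m s) :=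
      congrArg (fun x : Cfsg.Sz F m => (x.1 : Matrix (Fin 4) (Fin 4) F)) h
    rw [e]
    exact hmul _ _ (hmul _ _ (trans_form hF a b) swap_form) (hmul _ _ (trans_form hF c d) (torus_form s))

theorem independent (p : Fin 3 ↪ Cfsg.suzukiOvoid F m) :
    Projectivization.Independent (fun i => (p i : Projectivization F (Fin 4 → F))) := by
  obtain ⟨g, hg0, hg1⟩ := (is_two_pretransitive_iff.1 (two_transitive hF))
    (p.injective.ne (show (0 : Fin 3) ≠ 1 by decide)) (point_ne_infty (m := m) (0 : F) 0).symm
  rcases cases_point (g • p 2) with h | ⟨x, y, h⟩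
  · exact absurd (smul_left_cancel g (hg0.trans h.symm)) (p.injective.ne (show (0 : Fin 3) ≠ 2 by decide))
  have hxy : ¬ (x = 0 ∧ y = 0) := by
    rintro ⟨rfl, rfl⟩
    exact p.injective.ne (show (1 : Fin 3) ≠ 2 by decide) (smul_left_cancel g (hg1.trans h.symm))
  set M := (g⁻¹ : Cfsg.Sz F m).1 with hM
  set v : Fin 3 → Fin 4 → F :=
    ![(M : Matrix (Fin 4) (Fin 4) F) *ᵥ ![1, 0, 0, 0], (M : Matrix (Fin 4) (Fin 4) F) *ᵥ vec m 0 0,
      (M : Matrix (Fin 4) (Fin 4) F) *ᵥ vec m x y] with hv
  have hinj : Function.Injective fun w => (M : Matrix (Fin 4) (Fin 4) F) *ᵥ w :=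
    Matrix.mulVec_injective_iff_isUnit.2 ((Matrix.isUnit_iff_isUnit_det _).2 (by rw [M.2]; exact isUnit_one))
  have hli : LinearIndependent F v := by
    have hbase : LinearIndependent F ![(![1, 0, 0, 0] : Fin 4 → F), vec m 0 0, vec m x y] := by
      rw [Fintype.linearIndependent_iff]
      intro c hc i
      have e0 := congrFun hc 0
      have e1 := congrFun hc 1
      have e2 := congrFun hc 2
      have e3 := congrFun hc 3
      simp [Fin.sum_univ_three, vec, ovf_zero] at e0 e1 e2 e3
      have hc2 : c 2 = 0 := by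
        by_contra h'
        exact hxy ⟨e2.resolve_left h', e1.resolve_left h'⟩
      rw [hc2] at e0 e3
      simp at e0 e3
      fin_cases i
      exacts [e0, e3, hc2]
    have := hbase.map' (Matrix.mulVecLin (M : Matrix (Fin 4) (Fin 4) F))
      (LinearMap.ker_eq_bot.2 hinj)
    rw [show v = (Matrix.mulVecLin (M : Matrix (Fin 4) (Fin 4) F)) ∘
      ![(![1, 0, 0, 0] : Fin 4 → F), vec m 0 0, vec m x y] from funext fun i => by fin_cases i <;> rfl]
    exact this
  rw [Projectivization.independent_iff]
  have hv0 : ∀ i, v i ≠ 0 := fun i => hli.ne_zero i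
  have hp : ∀ i, (p i : Projectivization F (Fin 4 → F)) = Projectivization.mk F (v i) (hv0 i) := by
    intro i
    have e : ∀ (w : Fin 4 → F) (hw : w ≠ 0) (j : Fin 3),
        (g • p j : Cfsg.suzukiOvoid F m).1 = Projectivization.mk F w hw →
        ∀ h0 : (M : Matrix (Fin 4) (Fin 4) F) *ᵥ w ≠ 0,
        (p j).1 = Projectivization.mk F ((M : Matrix (Fin 4) (Fin 4) F) *ᵥ w) h0 := by
      intro w hw j hj h0
      have e2 : (p j).1 = M • (g • p j : Cfsg.suzukiOvoid F m).1 := by
        conv_lhs => rw [← inv_smul_smul g (p j)]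
        rfl
      rw [e2, hj, Projectivization.smul_mk]
      rfl
    fin_cases i
    · exact e _ inf_ne_zero 0 (congrArg Subtype.val hg0) _
    · exact e _ (vec_ne_zero m 0 0) 1 (congrArg Subtype.val hg1) _
    · exact e _ (vec_ne_zero m x y) 2 (congrArg Subtype.val h) _
  let c : Fin 3 → Fˣ := fun i => (Projectivization.exists_smul_eq_mk_rep F (v i) (hv0 i)).choose
  have hrep : Projectivization.rep ∘ (fun i => (p i : Projectivization F (Fin 4 → F))) = c • v := by
    funext i
    simp only [Function.comp_apply, hp]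
    exact ((Projectivization.exists_smul_eq_mk_rep F (v i) (hv0 i)).choose_spec).symm
  rw [hrep]
  exact hli.units_smul c

end Cfsg.Agent.Suzuki
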