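import Cfsg.Agent.Lib.Suzuki.Group

/-!
# The Sylow 2-subgroup of translations
-/

set_option autoImplicit false
set_option linter.unusedSectionVars false

namespace Cfsg.Agent.Suzuki

open Matrix MulAction

variable {F : Type*} [Field F] [Fintype F] [CharP F 2] {m : ℕ}
variable (hm : 1 ≤ m) (hF : Fintype.card F = 2 ^ (2 * m + 1))

/-- The translations. -/
noncomputable def U : Subgroup (Cfsg.Sz F m) where
  carrier := {g | ∃ a b, g = tr hF a b}
  one_mem' := ⟨0, 0, (tr_zero hF).symm⟩
  mul_mem' := by
    rintro _ _ ⟨a, b, rfl⟩ ⟨c, d, rfl⟩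
    exact ⟨_, _, tr_mul hF a b c d⟩
  inv_mem' := by
    rintro _ ⟨a, b, rfl⟩
    exact ⟨_, _, tr_inv hF a b⟩

/-- A translation as an element of `U`. -/
noncomputable def ut (a b : F) : U (m := m) hF := ⟨tr hF a b, a, b, rfl⟩

include hF

theorem ut_surjective (u : U (m := m) hF) : ∃ a b, u = ut hF a b := by
  obtain ⟨g, a, b, rfl⟩ := u
  exact ⟨a, b, rfl⟩

theorem ut_mul (a b c d : F) :
    (ut hF a b * ut hF c d : U (m := m) hF) = ut hF (a + c) (b + d + a ^ 2 ^ (m + 1) * c) :=
  Subtype.ext (tr_mul hF a b c d)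

theorem ut_inv (a b : F) :
    ((ut hF a b)⁻¹ : U (m := m) hF) = ut hF a (b + a ^ 2 ^ (m + 1) * a) :=
  Subtype.ext (tr_inv hF a b)

theorem ut_zero : (ut hF 0 0 : U (m := m) hF) = 1 := Subtype.ext (tr_zero hF)

theorem ut_injective {a b c d : F} (h : (ut hF a b : U (m := m) hF) = ut hF c d) : a = c ∧ b = d :=
  tr_injective hF (congrArg Subtype.val h)

theorem card_U : Nat.card (U (m := m) hF) = Fintype.card F ^ 2 := by
  rw [← Nat.card_eq_of_bijective (fun p : F × F => (ut hF p.1 p.2 : U (m := m) hF))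
    ⟨fun p q h => Prod.ext (ut_injective hF h).1 (ut_injective hF h).2, fun u => by
      obtain ⟨a, b, rfl⟩ := ut_surjective hF u
      exact ⟨(a, b), rfl⟩⟩, Nat.card_prod, Nat.card_eq_fintype_card, sq]

/-- The central translations. -/
theorem mem_center_iff {a b : F} :
    ut hF a b ∈ Subgroup.center (U (m := m) hF) ↔ (∀ c : F, a ^ 2 ^ (m + 1) * c = c ^ 2 ^ (m + 1) * a) := by
  rw [Subgroup.mem_center_iff]
  constructor
  · intro h c
    have h1 := h (ut hF c 0)
    rw [ut_mul, ut_mul] at h1
    linear_combination -(ut_injective hF h1).2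
  · intro h u
    obtain ⟨c, d, rfl⟩ := ut_surjective hF u
    rw [ut_mul, ut_mul, add_comm c a]
    congr 1
    linear_combination -(h c)

theorem comm_eq (a b c d : F) :
    (ut hF a b * ut hF c d * (ut hF a b)⁻¹ * (ut hF c d)⁻¹ : U (m := m) hF) =
      ut hF 0 (a ^ 2 ^ (m + 1) * c + c ^ 2 ^ (m + 1) * a) := by
  have h2 : (2 : F) = 0 := CharTwo.two_eq_zero
  rw [ut_inv, ut_inv, ut_mul, ut_mul, ut_mul]
  congr 1
  · linear_combination (a + c) * h2
  · simp only [← theta_def, map_add]
    linear_combination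
      (b + d + theta F m a * a + theta F m a * c + theta F m c * c) * h2

include hm

theorem center_eq_zero {a b : F} (h : ut hF a b ∈ Subgroup.center (U (m := m) hF)) : a = 0 := by
  have h1 := (mem_center_iff hF).1 h
  have h2 := h1 1
  rw [one_pow, one_mul, mul_one] at h2
  rcases eq_zero_or_one_of_theta hF (m := m) (x := a) (by rw [theta_def]; exact h2) with h3 | h3
  · exact h3
  exfalso
  subst h3
  obtain ⟨s, hs⟩ := exists_unit_ne_one (F := F) hm hF
  have h4 := h1 s
  rw [one_pow, one_mul, mul_one] at h4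
  rcases eq_zero_or_one_of_theta hF (m := m) (x := (s : F)) (by rw [theta_def]; exact h4.symm) with h5 | h5
  · exact s.ne_zero h5
  · exact hs (Units.ext h5)

theorem mem_center_iff' {a b : F} : ut hF a b ∈ Subgroup.center (U (m := m) hF) ↔ a = 0 := by
  refine ⟨center_eq_zero hm hF, ?_⟩
  rintro rfl
  exact (mem_center_iff hF).2 fun c => by simp

theorem card_center : Nat.card (Subgroup.center (U (m := m) hF)) = Fintype.card F := by
  rw [← Nat.card_eq_fintype_card]
  refine (Nat.card_eq_of_bijective (fun b : F => (⟨ut hF 0 b, (mem_center_iff' hm hF).2 rfl⟩ :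
    Subgroup.center (U (m := m) hF))) ⟨fun b c h => (ut_injective hF (congrArg Subtype.val h)).2,
      fun ⟨u, hu⟩ => ?_⟩).symm
  obtain ⟨a, b, rfl⟩ := ut_surjective hF u
  obtain rfl := center_eq_zero hm hF hu
  exact ⟨b, rfl⟩

theorem commutator_eq : commutator (U (m := m) hF) = Subgroup.center (U (m := m) hF) := by
  refine le_antisymm ?_ ?_
  · rw [commutator_def, Subgroup.commutator_le]
    intro g _ h _
    obtain ⟨a, b, rfl⟩ := ut_surjective hF g
    obtain ⟨c, d, rfl⟩ := ut_surjective hF h
    rw [commutatorElement_def, comm_eq]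
    exact (mem_center_iff' hm hF).2 rfl
  · intro u hu
    obtain ⟨a, b, rfl⟩ := ut_surjective hF u
    obtain rfl := center_eq_zero hm hF hu
    by_cases hb : b = 0
    · rw [hb, ut_zero]; exact one_mem _
    obtain ⟨s, hs⟩ := exists_unit_ne_one (F := F) hm hF
    set h₀ := theta F m (s : F) + s with hh₀
    have hh : h₀ ≠ 0 := by
      intro e
      rcases eq_zero_or_one_of_theta hF (m := m) (x := (s : F)) (CharTwo.add_eq_zero.1 e) with h5 | h5
      · exact s.ne_zero h5
      · exact hs (Units.ext h5)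
    have hinj : Function.Injective (fun a : F => theta F m a * a) := by
      intro x y e
      have e' : theta F m x * x = theta F m y * y := e
      by_cases hy : y = 0
      · subst hy
        rw [mul_zero, mul_eq_zero, map_eq_zero, or_self] at e'
        exact e'
      · have h0 : theta F m y ≠ 0 := (map_ne_zero _).2 hy
        refine (div_eq_one_iff_eq hy).1 (eq_one_of_theta_mul hF (m := m) ?_)
        rw [map_div₀]
        field_simp
        linear_combination e'
    obtain ⟨a, ha⟩ := Finite.surjective_of_injective hinj (b / h₀)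
    have ha' : theta F m a * a = b / h₀ := ha
    have key : b = a ^ 2 ^ (m + 1) * (a * s) + (a * s) ^ 2 ^ (m + 1) * a := by
      simp only [← theta_def, map_mul]
      rw [show theta F m a * (a * s) + theta F m a * theta F m (s : F) * a =
        theta F m a * a * h₀ by rw [hh₀]; ring, ha', div_mul_cancel₀ _ hh]
    rw [key, ← comm_eq hF a 0 (a * s) 0, ← commutatorElement_def, commutator_def]
    exact Subgroup.commutator_mem_commutator (Subgroup.mem_top _) (Subgroup.mem_top _)

theorem exponent_eq : Monoid.exponent (U (m := m) hF) = 4 := by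
  have hsq : ∀ a b : F, (ut hF a b * ut hF a b : U (m := m) hF) = ut hF 0 (a ^ 2 ^ (m + 1) * a) := by
    intro a b
    rw [ut_mul, CharTwo.add_self_eq_zero, CharTwo.add_self_eq_zero, zero_add]
  have hdvd : Monoid.exponent (U (m := m) hF) ∣ 4 := by
    refine Monoid.exponent_dvd_of_forall_pow_eq_one fun u => ?_
    obtain ⟨a, b, rfl⟩ := ut_surjective hF u
    rw [pow_succ, pow_succ, pow_succ, pow_one, hsq, mul_assoc, hsq, ut_mul]
    simp [zero_pow, CharTwo.add_self_eq_zero, ut_zero]
  have h1 : ¬ Monoid.exponent (U (m := m) hF) ∣ 2 := by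
    intro h
    have h2 := Monoid.exponent_dvd_iff_forall_pow_eq_one.1 h (ut hF 1 0)
    rw [sq, hsq, ← ut_zero hF] at h2
    exact one_ne_zero (show (1 : F) = 0 by simpa using (ut_injective hF h2).2)
  obtain ⟨i, hi, he⟩ := (Nat.dvd_prime_pow Nat.prime_two (m := 2)).1 hdvd
  interval_cases i
  · exact absurd (he ▸ one_dvd 2) h1
  · exact absurd (he ▸ dvd_refl 2) h1
  · exact he

theorem two_pow_factorization : (Nat.card (Cfsg.Sz F m)).factorization 2 = 2 * (2 * m + 1) := by
  have h8 : 8 ≤ Fintype.card F := by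
    rw [hF, show (8 : ℕ) = 2 ^ 3 by norm_num]
    exact Nat.pow_le_pow_right (by norm_num) (by omega)
  have he : Even (Fintype.card F) := by rw [hF]; exact even_two.pow_of_ne_zero (by omega)
  have h1 : Odd (Fintype.card F - 1) := Nat.Even.sub_odd (by omega) he odd_one
  have h2 : Odd (Fintype.card F ^ 2 + 1) := (he.pow_of_ne_zero two_ne_zero).add_one
  rw [card_eq hm hF, Nat.factorization_mul (mul_ne_zero (by positivity) (by positivity)) (by omega),
    Nat.factorization_mul (by positivity) (by positivity), Finsupp.add_apply, Finsupp.add_apply,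
    Nat.factorization_eq_zero_of_not_dvd (fun hd => Nat.not_even_iff_odd.2 h2 (even_iff_two_dvd.2 hd)),
    Nat.factorization_eq_zero_of_not_dvd (fun hd => Nat.not_even_iff_odd.2 h1 (even_iff_two_dvd.2 hd)),
    hF, ← pow_mul, Nat.Prime.factorization_pow Nat.prime_two, Finsupp.single_eq_same]
  ring

/-- The translations as a Sylow subgroup. -/
theorem exists_sylow : ∃ P : Sylow 2 (Cfsg.Sz F m), (P : Subgroup (Cfsg.Sz F m)) = U hF := by
  haveI : Fact (Nat.Prime 2) := ⟨Nat.prime_two⟩
  exact ⟨Sylow.ofCard (U hF) (by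
    rw [card_U hF, two_pow_factorization hm hF, hF, ← pow_mul, mul_comm]), rfl⟩

theorem sylow_equiv (P : Sylow 2 (Cfsg.Sz F m)) : Nonempty (U (m := m) hF ≃* P) := by
  haveI : Fact (Nat.Prime 2) := ⟨Nat.prime_two⟩
  obtain ⟨P₀, hP₀⟩ := exists_sylow hm hF
  exact ⟨(MulEquiv.subgroupCongr hP₀.symm).trans (P₀.equiv P)⟩

theorem sylow_structure (P : Sylow 2 (Cfsg.Sz F m)) :
    Nat.card P = Fintype.card F ^ 2 ∧ Monoid.exponent P = 4 ∧
      Subgroup.center P = commutator P ∧ Nat.card (Subgroup.center P) = Fintype.card F := by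
  obtain ⟨e⟩ := sylow_equiv hm hF P
  have hc : (Subgroup.center (U (m := m) hF)).map e.toMonoidHom = Subgroup.center P := by
    ext p
    rw [Subgroup.mem_map_equiv, Subgroup.mem_center_iff, Subgroup.mem_center_iff]
    refine ⟨fun h g => ?_, fun h g => ?_⟩
    · have := congrArg e (h (e.symm g))
      simpa using this
    · have := congrArg e.symm (h (e g))
      simpa using this
  refine ⟨by rw [← Nat.card_congr e.toEquiv, card_U hF],
    by rw [← Monoid.exponent_eq_of_mulEquiv e, exponent_eq hm hF], ?_, ?_⟩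
  · rw [← hc, ← commutator_eq hm hF, commutator_def, Subgroup.map_commutator,
      Subgroup.map_top_of_surjective _ e.surjective, ← commutator_def]
  · rw [← hc, Subgroup.card_map_of_injective e.injective, card_center hm hF]

end Cfsg.Agent.Suzuki
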