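import Cfsg.Prelude.Def_Sz
import Cfsg.Agent.Lib.Suzuki.Form
import Cfsg.Agent.Lib.Suzuki.Sylow

/-!
# The two descriptions of the Suzuki group agree
-/

set_option autoImplicit false
set_option linter.unusedSectionVars false

namespace Cfsg.Agent.Suzuki

open Matrix MulAction

variable {F : Type*} [Field F] [Fintype F] [CharP F 2] {m : ℕ}
variable (hm : 1 ≤ m) (hF : Fintype.card F = 2 ^ (2 * m + 1))

/-- Defining property of the matrices of the Suzuki group. -/
def LieProp (m : ℕ) (g : Matrix (Fin 4) (Fin 4) F) : Prop :=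
  g.transpose * swapMat * g = swapMat ∧ Cfsg.Lie.star4 g = g.map fun x => x ^ 2 ^ (m + 1)

theorem altForm4_eq (u v : Fin 4 → F) :
    Cfsg.Lie.altForm4 u v = u ⬝ᵥ (swapMat *ᵥ v) := by
  rw [swap_mulVec]
  simp [Cfsg.Lie.altForm4, dotProduct, Fin.sum_univ_four]

theorem mem_Sp4_iff (g : GL (Fin 4) F) :
    g ∈ Cfsg.Lie.Sp4 F ↔ (g : Matrix (Fin 4) (Fin 4) F).transpose * swapMat *
      (g : Matrix (Fin 4) (Fin 4) F) = swapMat := by
  constructor
  · intro h
    refine Matrix.ext fun i j => ?_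
    have h1 := h (Pi.single i 1) (Pi.single j 1)
    rw [altForm4_eq, altForm4_eq] at h1
    simp only [Units.coeHom_apply] at h1
    rw [Matrix.mulVec_mulVec, Matrix.dotProduct_mulVec, ← Matrix.vecMul_transpose,
      Matrix.vecMul_vecMul, ← mul_assoc] at h1
    simpa [Matrix.vecMul, Matrix.mulVec, dotProduct, Fintype.sum_pi_single', Pi.single_apply] using h1
  · intro h u v
    rw [altForm4_eq, altForm4_eq]
    simp only [Units.coeHom_apply]
    rw [Matrix.mulVec_mulVec, Matrix.dotProduct_mulVec, ← Matrix.vecMul_transpose,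
      Matrix.vecMul_vecMul, ← mul_assoc, h, ← Matrix.dotProduct_mulVec]

theorem lieProp_iff (g : GL (Fin 4) F) :
    LieProp m (g : Matrix (Fin 4) (Fin 4) F) ↔
      (g ∈ Cfsg.Lie.Sp4 F ∧ Cfsg.Lie.star4 (g : Matrix (Fin 4) (Fin 4) F) =
        (g : Matrix (Fin 4) (Fin 4) F).map fun x => x ^ 2 ^ (m + 1)) := by
  rw [LieProp, mem_Sp4_iff]

theorem LieProp.det {g : Matrix (Fin 4) (Fin 4) F} (hg : LieProp m g) : g.det = 1 := by
  have h := congrArg Matrix.det hg.1
  rw [Matrix.det_mul, Matrix.det_mul, Matrix.det_transpose, det_swapMat, mul_one] at h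
  rcases mul_self_eq_one_iff.1 h with h' | h'
  · exact h'
  · rw [h', CharTwo.neg_eq]

theorem LieProp.row {g : Matrix (Fin 4) (Fin 4) F} (hg : LieProp m g) :
    g * swapMat * g.transpose = swapMat := by
  have h1 : (swapMat * g.transpose * swapMat) * g = 1 := by
    rw [mul_assoc, mul_assoc, ← mul_assoc g.transpose, hg.1, swapMat_mul_self]
  have h2 : g * (swapMat * g.transpose * swapMat) = 1 := mul_eq_one_comm.1 h1
  calc g * swapMat * g.transpose = g * (swapMat * g.transpose * swapMat) * swapMat := by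
        simp only [mul_assoc, swapMat_mul_self, mul_one]
    _ = swapMat := by rw [h2, one_mul]

theorem LieProp.star_mul {g h : Matrix (Fin 4) (Fin 4) F} (hg : LieProp m g) (hh : LieProp m h) :
    Cfsg.Lie.star4 (g * h) = Cfsg.Lie.star4 g * Cfsg.Lie.star4 h := by
  have h2 : (2 : F) = 0 := CharTwo.two_eq_zero
  have hr := hg.row
  have hc := hh.1
  ext p r
  set k := (Cfsg.Lie.pairOf p).1 with hk
  set l := (Cfsg.Lie.pairOf p).2 with hl
  set i := (Cfsg.Lie.pairOf r).1 with hi
  set j := (Cfsg.Lie.pairOf r).2 with hj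
  have hkl : (swapMat : Matrix (Fin 4) (Fin 4) F) k l = 0 := by
    rw [hk, hl]; fin_cases p <;> simp [swapMat, Cfsg.Lie.pairOf]
  have hij : (swapMat : Matrix (Fin 4) (Fin 4) F) i j = 0 := by
    rw [hi, hj]; fin_cases r <;> simp [swapMat, Cfsg.Lie.pairOf]
  have e1 := congrFun (congrFun hr k) l
  have e2 := congrFun (congrFun hc i) j
  rw [hkl] at e1
  rw [hij] at e2
  simp [Matrix.mul_apply, Fin.sum_univ_four, swapMat] at e1 e2
  simp only [Cfsg.Lie.star4, Matrix.of_apply, Matrix.mul_apply, Fin.sum_univ_four, ← hk, ← hl, ← hi,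
    ← hj, show Cfsg.Lie.pairOf 0 = (0, 1) from rfl, show Cfsg.Lie.pairOf 1 = (0, 2) from rfl,
    show Cfsg.Lie.pairOf 2 = (1, 3) from rfl, show Cfsg.Lie.pairOf 3 = (2, 3) from rfl]
  linear_combination (norm := ring_nf) (h 0 i * h 3 j + h 3 i * h 0 j) * e1
    + (g k 1 * g l 2 + g l 1 * g k 2) * e2
  simp only [h2, mul_zero, zero_mul, add_zero, zero_add, sub_zero, zero_sub, neg_zero]

theorem LieProp.mul {g h : Matrix (Fin 4) (Fin 4) F} (hg : LieProp m g) (hh : LieProp m h) :
    LieProp m (g * h) := by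
  refine ⟨?_, ?_⟩
  · rw [Matrix.transpose_mul,
      show hᵀ * gᵀ * swapMat * (g * h) = hᵀ * (gᵀ * swapMat * g) * h by simp only [mul_assoc], hg.1, hh.1]
  · rw [LieProp.star_mul hg hh, hg.2, hh.2]
    have : (fun x : F => x ^ 2 ^ (m + 1)) = theta F m := funext fun x => (theta_def x).symm
    rw [this, Matrix.map_mul]

include hF

theorem lieProp_trans (a b : F) : LieProp m (transMat m a b) := by
  refine ⟨trans_form hF a b, ?_⟩
  have h2 : (2 : F) = 0 := CharTwo.two_eq_zero
  ext p r
  fin_cases p <;> fin_cases r <;>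
    simp [Cfsg.Lie.star4, Cfsg.Lie.pairOf, transMat, ovf_eq, ← theta_def, theta_theta hF, map_mul,
      map_pow, map_add] <;> grind

theorem lieProp_torus (s : Fˣ) : LieProp m (torusMat m s) := by
  refine ⟨torus_form s, ?_⟩
  have hs := s.ne_zero
  have hs' : theta F m (s : F) ≠ 0 := (map_ne_zero _).2 hs
  ext p r
  fin_cases p <;> fin_cases r <;>
    simp [Cfsg.Lie.star4, Cfsg.Lie.pairOf, torusMat, ← theta_def, theta_theta hF, map_mul, map_inv₀,
      map_pow] <;> field_simp

omit hF in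
theorem lieProp_swap : LieProp m (swapMat : Matrix (Fin 4) (Fin 4) F) := by
  refine ⟨swap_form, ?_⟩
  ext p r
  fin_cases p <;> fin_cases r <;>
    simp [Cfsg.Lie.star4, Cfsg.Lie.pairOf, swapMat, zero_pow, CharTwo.neg_eq]

theorem lieProp_col {g : Matrix (Fin 4) (Fin 4) F} (hg : LieProp m g) :
    (∃ c : F, g *ᵥ ![1, 0, 0, 0] = c • (![1, 0, 0, 0] : Fin 4 → F)) ∨
      ∃ c x y : F, g *ᵥ ![1, 0, 0, 0] = c • vec m x y := by
  have h2 : (2 : F) = 0 := CharTwo.two_eq_zero
  have hB := congrFun (congrFun hg.1 0) 1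
  simp [Matrix.mul_apply, Fin.sum_univ_four, swapMat] at hB
  have e0 := congrFun (congrFun hg.2 0) 0
  have e1 := congrFun (congrFun hg.2 1) 0
  have e2 := congrFun (congrFun hg.2 2) 0
  have e3 := congrFun (congrFun hg.2 3) 0
  simp [Cfsg.Lie.star4, Cfsg.Lie.pairOf, ← theta_def] at e0 e1 e2 e3
  have hcol : g *ᵥ ![1, 0, 0, 0] = fun i => g i 0 := by
    funext i; simp [Matrix.mulVec, dotProduct, Fin.sum_univ_four]
  rw [hcol]
  by_cases h3 : g 3 0 = 0
  · left
    refine ⟨g 0 0, ?_⟩
    rw [h3] at hB e2 e3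
    simp at hB e2 e3
    have h20 : g 2 0 = 0 := by
      by_contra h
      rw [e3.resolve_left h, mul_zero] at e2
      exact h ((map_eq_zero _).1 e2.symm)
    rw [h20] at hB e1 e2
    simp at hB e1 e2
    have h10 : g 1 0 = 0 := by
      by_contra h
      rw [e2.resolve_left h] at hB
      simp [h] at hB
      rw [hB, mul_zero] at e1
      exact h ((map_eq_zero _).1 e1.symm)
    funext i
    fin_cases i <;> simp [h3, h20, h10]
  · right
    refine ⟨g 3 0, g 2 0 / g 3 0, g 1 0 / g 3 0, ?_⟩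
    have h3' : theta F m (g 3 0) ≠ 0 := (map_ne_zero _).2 h3
    funext i
    fin_cases i <;> simp [vec]
    · simp only [ovf_eq, map_div₀]
      field_simp
      linear_combination (norm := ring_nf)
        (g 3 0 ^ 2) * e1 + (g 3 0 * g 0 0) * e3 + (g 3 0 * g 2 0) * hB + (g 2 0 * g 1 0) * e3 +
          (g 2 0 ^ 2) * e2
      simp only [h2, mul_zero, zero_mul, add_zero, zero_add, sub_zero, zero_sub, neg_zero]
    all_goals field_simp

omit hF in
theorem lieProp_of_mem {g : GL (Fin 4) F} (hg : g ∈ Cfsg.Lie.Sz F (2 ^ (m + 1))) :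
    LieProp m (g : Matrix (Fin 4) (Fin 4) F) := by
  have hone : LieProp m (1 : Matrix (Fin 4) (Fin 4) F) := by
    have h := LieProp.mul (lieProp_swap (F := F) (m := m)) lieProp_swap
    rwa [swapMat_mul_self] at h
  induction hg using Subgroup.closure_induction with
  | mem x hx => exact (lieProp_iff x).2 hx
  | one => simpa using hone
  | mul x y _ _ hx hy =>
    rw [Units.val_mul]
    exact hx.mul hy
  | inv x _ hx =>
    have hfin : IsOfFinOrder x := isOfFinOrder_of_finite x
    obtain ⟨n, hn⟩ : ∃ n : ℕ, x⁻¹ = x ^ n := ⟨orderOf x - 1, inv_eq_of_mul_eq_one_right (by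
      rw [← pow_succ', Nat.sub_add_cancel (orderOf_pos x), pow_orderOf_eq_one])⟩
    rw [hn, Units.val_pow_eq_pow_val]
    clear hn
    induction n with
    | zero => rw [pow_zero]; exact hone
    | succ n ih => rw [pow_succ]; exact ih.mul hx

include hm

omit hm in
theorem lie_mem_Sz {g : SpecialLinearGroup (Fin 4) F}
    (hg : LieProp m (g : Matrix (Fin 4) (Fin 4) F)) : g ∈ Cfsg.Sz F m := by
  have hinf : ∀ h : SpecialLinearGroup (Fin 4) F, LieProp m (h : Matrix (Fin 4) (Fin 4) F) →
      h • (infty (F := F) m).1 ∈ Cfsg.suzukiOvoid F m := by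
    intro h hh
    rcases lieProp_col hF hh with ⟨c, hc⟩ | ⟨c, x, y, hc⟩
    · rw [show h • (infty (F := F) m).1 = (infty m).1 from smul_mk_eq _ _ hc]
      exact (infty m).2
    · rw [show h • (infty (F := F) m).1 = (point m x y).1 from smul_mk_eq _ (vec_ne_zero m x y) hc]
      exact (point m x y).2
  refine mem_Sz_of_maps fun p hp => ?_
  rcases cases_point (⟨p, hp⟩ : Cfsg.suzukiOvoid F m) with h | ⟨x, y, h⟩ <;>
    obtain rfl : p = _ := congrArg Subtype.val h
  · exact hinf g hg
  · have e : (point (F := F) m x y).1 = (transSL m x y * swapSL) • (infty (F := F) m).1 :=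
      (congrArg Subtype.val (by rw [mul_smul, sw_smul_infty, tr_smul_zero] :
        (tr hF x y * sw hF) • infty (F := F) m = point m x y)).symm
    rw [e, ← mul_smul]
    exact hinf _ (LieProp.mul hg (LieProp.mul (lieProp_trans hF x y) lieProp_swap))

theorem Sz_mem_lie {g : SpecialLinearGroup (Fin 4) F} (hg : g ∈ Cfsg.Sz F m) :
    LieProp m (g : Matrix (Fin 4) (Fin 4) F) := by
  rcases bruhat hm hF ⟨g, hg⟩ with ⟨a, b, s, h⟩ | ⟨a, b, c, d, s, h⟩
  · rw [show (g : Matrix (Fin 4) (Fin 4) F) = transMat m a b * torusMat m s from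
      congrArg (fun x : Cfsg.Sz F m => (x.1 : Matrix (Fin 4) (Fin 4) F)) h]
    exact (lieProp_trans hF a b).mul (lieProp_torus hF s)
  · rw [show (g : Matrix (Fin 4) (Fin 4) F) =
        transMat m a b * swapMat * (transMat m c d * torusMat m s) from
      congrArg (fun x : Cfsg.Sz F m => (x.1 : Matrix (Fin 4) (Fin 4) F)) h]
    exact ((lieProp_trans hF a b).mul lieProp_swap).mul ((lieProp_trans hF c d).mul (lieProp_torus hF s))

/-- The two Suzuki groups are isomorphic. -/
theorem lieEquiv : Nonempty (Cfsg.Sz F m ≃* Cfsg.Lie.Sz F (2 ^ (m + 1))) := by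
  refine ⟨MulEquiv.ofBijective (MonoidHom.mk' (fun g => (⟨SpecialLinearGroup.toGL g.1, ?_⟩ :
    Cfsg.Lie.Sz F (2 ^ (m + 1)))) (fun g h => Subtype.ext (map_mul _ _ _))) ⟨?_, ?_⟩⟩
  · exact Subgroup.subset_closure ((lieProp_iff _).1 (Sz_mem_lie hm hF g.2))
  · intro g h e
    exact Subtype.ext (Subtype.ext (congrArg (fun x : Cfsg.Lie.Sz F (2 ^ (m + 1)) =>
      ((x : GL (Fin 4) F) : Matrix (Fin 4) (Fin 4) F)) e))
  · rintro ⟨g, hg⟩
    have hp := lieProp_of_mem hg
    exact ⟨⟨⟨(g : Matrix (Fin 4) (Fin 4) F), hp.det⟩, lie_mem_Sz hF hp⟩, Subtype.ext (Units.ext rfl)⟩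

omit hm in
theorem tr_fixes_only_infty {p : Cfsg.suzukiOvoid F m} (h : tr hF 1 0 • p = p) : p = infty m := by
  rcases cases_point p with rfl | ⟨x, y, rfl⟩
  · rfl
  · rw [tr_smul_point] at h
    have h1 := (point_injective h).1
    exact absurd (show (1 : F) = 0 by linear_combination h1) one_ne_zero

/-- The normalizer of the translations is the stabilizer of infinity. -/
theorem normalizer_U :
    Subgroup.normalizer (U (m := m) hF : Set (Cfsg.Sz F m)) =
      stabilizer (Cfsg.Sz F m) (infty (F := F) m) := by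
  have hfix : ∀ u ∈ U (m := m) hF, u • infty (F := F) m = infty m := by
    rintro _ ⟨a, b, rfl⟩; exact tr_smul_infty hF a b
  refine le_antisymm (fun g hg => ?_) ?_
  · have h1 : g⁻¹ * tr hF 1 0 * g ∈ U (m := m) hF := by
      refine (Subgroup.mem_set_normalizer_iff.1 hg _).2 ?_
      rw [show g * (g⁻¹ * tr hF 1 0 * g) * g⁻¹ = tr hF 1 0 by group]
      exact ⟨1, 0, rfl⟩
    have h2 := hfix _ h1
    rw [mul_smul, mul_smul, inv_smul_eq_iff] at h2
    exact mem_stabilizer_iff.2 (tr_fixes_only_infty hF h2)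
  · rw [Subgroup.le_normalizer_iff]
    rintro g hg _ ⟨a, b, rfl⟩
    obtain ⟨c, d, s, rfl⟩ := exists_tr_to hm hF (mem_stabilizer_iff.1 hg)
    rw [show tr hF c d * tor hF s * tr hF a b * (tr hF c d * tor hF s)⁻¹ =
      tr hF c d * (tor hF s * tr hF a b * (tor hF s)⁻¹) * (tr hF c d)⁻¹ by group, conj_tr,
      tr_inv, tr_mul, tr_mul]
    exact ⟨_, _, rfl⟩

/-- The Sylow normalizer in any group isomorphic to the Suzuki group. -/
theorem sylow_normalizer_structure {G : Type*} [Group G] (e : G ≃* Cfsg.Sz F m) :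
    ∃ S : Sylow 2 G,
      Nat.card (Subgroup.normalizer ((S : Subgroup G) : Set G)) =
        Fintype.card F ^ 2 * (Fintype.card F - 1) ∧
      (Subgroup.normalizer ((S : Subgroup G) : Set G)).index = Fintype.card F ^ 2 + 1 ∧
      IsMultiplyPretransitive G (G ⧸ Subgroup.normalizer ((S : Subgroup G) : Set G)) 2 ∧
      ∀ x y : G ⧸ Subgroup.normalizer ((S : Subgroup G) : Set G),
        x ≠ QuotientGroup.mk 1 → y ≠ QuotientGroup.mk 1 → ∃! s : (S : Subgroup G), (s : G) • x = y := by
  haveI : Finite G := Finite.of_equiv _ e.toEquiv.symm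
  haveI : Fact (Nat.Prime 2) := ⟨Nat.prime_two⟩
  let U' : Subgroup G := (U (m := m) hF).comap e.toMonoidHom
  have hU' : ∀ g, g ∈ U' ↔ e g ∈ U (m := m) hF := fun g => Iff.rfl
  have hcardG : Nat.card G = Nat.card (Cfsg.Sz F m) := Nat.card_congr e.toEquiv
  have hcardU : Nat.card U' = Fintype.card F ^ 2 := by
    rw [← card_U hF]
    exact Nat.card_congr ((e.toEquiv.subtypeEquiv fun g => hU' g))
  let S : Sylow 2 G := Sylow.ofCard U' (by
    rw [hcardU, hcardG, two_pow_factorization hm hF, hF, ← pow_mul, mul_comm])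
  have hN : ∀ g, g ∈ Subgroup.normalizer ((S : Subgroup G) : Set G) ↔ e g • infty (F := F) m = infty m := by
    intro g
    rw [← mem_stabilizer_iff, ← normalizer_U hm hF, Subgroup.mem_set_normalizer_iff,
      Subgroup.mem_set_normalizer_iff]
    show (∀ n, n ∈ U' ↔ g * n * g⁻¹ ∈ U') ↔ _
    constructor
    · intro h u
      have := h (e.symm u)
      simpa [hU'] using this
    · intro h n
      have := h (e n)
      simpa [hU'] using this
  refine ⟨S, ?_⟩
  set N := Subgroup.normalizer ((S : Subgroup G) : Set G) with hNdef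
  let f : G ⧸ N → Cfsg.suzukiOvoid F m := fun q => Quotient.liftOn' q (fun g => e g • infty m)
    (fun g h hgh => by
      rw [QuotientGroup.leftRel_apply, hN, map_mul, map_inv, mul_smul, inv_smul_eq_iff] at hgh
      exact hgh.symm)
  have hfmk : ∀ g : G, f (g : G ⧸ N) = e g • infty m := fun _ => rfl
  have hf : Function.Bijective f := by
    refine ⟨fun p q h => ?_, fun p => ?_⟩
    · induction p using QuotientGroup.induction_on with
      | H g =>
        induction q using QuotientGroup.induction_on with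
        | H g' =>
          rw [hfmk, hfmk] at h
          rw [QuotientGroup.eq, hN, map_mul, map_inv, mul_smul, inv_smul_eq_iff]
          exact h.symm
    · obtain ⟨x, hx⟩ := exists_to_infty hF p
      exact ⟨(e.symm x : G), by rw [hfmk, MulEquiv.apply_symm_apply, hx]⟩
  have heq : ∀ (g : G) (q : G ⧸ N), f (g • q) = e g • f q := by
    intro g q
    induction q using QuotientGroup.induction_on with
    | H h =>
      show f ((g * h : G) : G ⧸ N) = _
      rw [hfmk, hfmk, map_mul, mul_smul]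
  refine ⟨?_, ?_, ?_, ?_⟩
  · rw [← card_stabilizer hm hF]
    exact Nat.card_congr (e.toEquiv.subtypeEquiv fun g => hN g)
  · rw [Subgroup.index, Nat.card_eq_of_bijective f hf, card_ovoid]
  · rw [is_two_pretransitive_iff]
    intro p q p' q' hpq hpq'
    obtain ⟨x, h1, h2⟩ := (is_two_pretransitive_iff.1 (two_transitive hF))
      (hf.1.ne hpq) (hf.1.ne hpq')
    exact ⟨e.symm x, hf.1 (by rw [heq, MulEquiv.apply_symm_apply, h1]),
      hf.1 (by rw [heq, MulEquiv.apply_symm_apply, h2])⟩
  · intro p q hp hq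
    have h0 : f (QuotientGroup.mk 1) = infty m := by rw [hfmk, map_one, one_smul]
    have haff : ∀ r : G ⧸ N, r ≠ QuotientGroup.mk 1 → ∃ x y, f r = point m x y := fun r hr => by
      rcases cases_point (f r) with h | h
      · exact absurd (hf.1 (h.trans h0.symm)) hr
      · exact h
    obtain ⟨x, y, hx⟩ := haff p hp
    obtain ⟨x', y', hx'⟩ := haff q hq
    refine ⟨⟨e.symm (tr hF (x' + x) (y' + y + (x' + x) ^ 2 ^ (m + 1) * x)), ?_⟩, ?_, ?_⟩
    · show e (e.symm _) ∈ U (m := m) hF
      rw [MulEquiv.apply_symm_apply]; exact ⟨_, _, rfl⟩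
    · refine hf.1 ?_
      show f (e.symm _ • p) = f q
      rw [heq, MulEquiv.apply_symm_apply, hx, hx', tr_smul_point]
      have hz : ∀ z : F, z + z = 0 := CharTwo.add_self_eq_zero
      congr 1
      · linear_combination hz x
      · linear_combination hz y + hz ((x' + x) ^ 2 ^ (m + 1) * x)
    · rintro ⟨s, hs⟩ he
      obtain ⟨a, b, hab⟩ := (hU' s).1 hs
      have he' := congrArg f (show s • p = q from he)
      rw [heq, hab, hx, hx', tr_smul_point] at he'
      obtain ⟨e1, e2⟩ := point_injective he'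
      refine Subtype.ext (e.injective ?_)
      show e s = e (e.symm _)
      rw [MulEquiv.apply_symm_apply, hab]
      have hz : ∀ z : F, z + z = 0 := CharTwo.add_self_eq_zero
      have ea : a = x' + x := by linear_combination e1 - hz x
      subst ea
      congr 1
      linear_combination e2 - hz y - hz ((x' + x) ^ 2 ^ (m + 1) * x)

end Cfsg.Agent.Suzuki
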