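import Cfsg.Agent.Lib.Suzuki.Partition

/-!
# Tori of the Suzuki group and their normalizers, treated uniformly
-/

set_option autoImplicit false
set_option linter.unusedSectionVars false

namespace Cfsg.Agent.Suzuki

open Matrix MulAction

theorem map_conj_of_eq {G : Type*} [Group G] {A B C : Subgroup G} {h h' : G}
    (e : A.map (MulAut.conj h).toMonoidHom = C) (e' : B.map (MulAut.conj h').toMonoidHom = C) :
    A.map (MulAut.conj (h'⁻¹ * h)).toMonoidHom = B := by
  ext x
  constructor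
  · rintro ⟨a, ha, rfl⟩
    have h1 : h * a * h⁻¹ ∈ C := e ▸ ⟨a, ha, rfl⟩
    rw [← e'] at h1
    obtain ⟨b, hb, hb'⟩ := h1
    have hb'' : h' * b * h'⁻¹ = h * a * h⁻¹ := hb'
    show h'⁻¹ * h * a * (h'⁻¹ * h)⁻¹ ∈ B
    rwa [show h'⁻¹ * h * a * (h'⁻¹ * h)⁻¹ = h'⁻¹ * (h * a * h⁻¹) * h' by group, ← hb'',
      show h'⁻¹ * (h' * b * h'⁻¹) * h' = b by group]
  · intro hx
    have h1 : h' * x * h'⁻¹ ∈ C := e' ▸ ⟨x, hx, rfl⟩
    rw [← e] at h1
    obtain ⟨a, ha, ha'⟩ := h1
    have ha'' : h * a * h⁻¹ = h' * x * h'⁻¹ := ha'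
    refine ⟨a, ha, ?_⟩
    show h'⁻¹ * h * a * (h'⁻¹ * h)⁻¹ = x
    rw [show h'⁻¹ * h * a * (h'⁻¹ * h)⁻¹ = h'⁻¹ * (h * a * h⁻¹) * h' by group, ha'']
    group

variable {F : Type*} [Field F] [Fintype F] [CharP F 2] {m : ℕ}
variable (hm : 1 ≤ m) (hF : Fintype.card F = 2 ^ (2 * m + 1))

/-- A non-trivial cyclic subgroup of odd order, the centralizer of each of its non-identity
elements. -/
def IsTor (T : Subgroup (Cfsg.Sz F m)) : Prop :=
  T ≠ ⊥ ∧ IsCyclic T ∧ Odd (Nat.card T) ∧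
    ∀ t ∈ T, t ≠ 1 → Subgroup.centralizer ({t} : Set (Cfsg.Sz F m)) = T

/-- Conjugate to a non-trivial translation. -/
def IsTrType (hF : Fintype.card F = 2 ^ (2 * m + 1)) (g : Cfsg.Sz F m) : Prop :=
  ∃ (h : Cfsg.Sz F m) (a b : F), (a ≠ 0 ∨ b ≠ 0) ∧ h * g * h⁻¹ = tr hF a b

include hm hF

theorem IsTrType.pow_four {g : Cfsg.Sz F m} (hg : IsTrType hF g) : g ^ 4 = 1 := by
  obtain ⟨h, a, b, -, he⟩ := hg
  have hh : (h * g * h⁻¹) ^ 4 = 1 := by
    have hmul : tr hF a b * tr hF a b = (tr hF 0 (a ^ 2 ^ (m + 1) * a) : Cfsg.Sz F m) := by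
      rw [tr_mul, CharTwo.add_self_eq_zero, CharTwo.add_self_eq_zero, zero_add]
    rw [he, pow_succ, pow_succ, pow_succ, pow_one, hmul, mul_assoc, hmul, tr_mul]
    simp [CharTwo.add_self_eq_zero, tr_zero]
  rw [conj_pow, conj_eq_one_iff] at hh
  exact hh

theorem IsTrType.ne_one {g : Cfsg.Sz F m} (hg : IsTrType hF g) : g ≠ 1 := by
  obtain ⟨h, a, b, hab, he⟩ := hg
  rintro rfl
  rw [mul_one, mul_inv_cancel, ← tr_zero hF] at he
  obtain ⟨e1, e2⟩ := tr_injective hF he
  rcases hab with h' | h'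
  exacts [h' e1.symm, h' e2.symm]

theorem IsTrType.even_orderOf {g : Cfsg.Sz F m} (hg : IsTrType hF g) : 2 ∣ orderOf g := by
  have hd : orderOf g ∣ 2 ^ 2 := orderOf_dvd_of_pow_eq_one (hg.pow_four hm hF)
  obtain ⟨i, -, hi⟩ := (Nat.dvd_prime_pow Nat.prime_two).1 hd
  rcases i with _ | i
  · exact absurd (orderOf_eq_one_iff.1 (by simpa using hi)) (hg.ne_one hm hF)
  · exact hi ▸ dvd_pow_self 2 i.succ_ne_zero

theorem IsTrType.exists_fixed {g : Cfsg.Sz F m} (hg : IsTrType hF g) :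
    ∃ p : Cfsg.suzukiOvoid F m, g • p = p ∧ ∀ p', g • p' = p' → p' = p := by
  obtain ⟨h, a, b, hab, he⟩ := hg
  refine ⟨h⁻¹ • infty m, ?_, fun p' hp' => ?_⟩
  · rw [eq_inv_smul_iff]
    calc h • g • h⁻¹ • infty (F := F) m = (h * g * h⁻¹) • infty m := by rw [mul_smul, mul_smul]
      _ = infty m := by rw [he, tr_smul_infty]
  · rw [eq_inv_smul_iff]
    refine eq_infty_of_tr_fixed hF hab ?_
    rw [← he, mul_smul, mul_smul, inv_smul_smul, hp']

theorem isTor_torusSubgroup : IsTor (torusSubgroup (m := m) hF) := by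
  refine ⟨fun e => ?_, torusSubgroup_cyclic hF, ?_, fun t ht ht1 => ?_⟩
  · obtain ⟨s, hs⟩ := exists_unit_ne_one (F := F) hm hF
    have h1 : tor hF s ∈ torusSubgroup (m := m) hF := (mem_torusSubgroup hF).2 ⟨s, rfl⟩
    rw [e, Subgroup.mem_bot] at h1
    exact hs (tor_injective hF (h1.trans (tor_one hF).symm))
  · rw [card_torusSubgroup hF]; exact odd_card_units hm hF
  · obtain ⟨s, rfl⟩ := (mem_torusSubgroup hF).1 ht
    exact centralizer_tor hm hF fun e => ht1 (e ▸ tor_one hF)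

theorem isTor_of_fpf {g : Cfsg.Sz F m} (hg : FPF g) :
    IsTor (Subgroup.centralizer ({g} : Set (Cfsg.Sz F m))) := by
  obtain ⟨hc, hd, hk, -⟩ := fpf_torus hm hF hg
  refine ⟨fun e => ?_, hc, ?_, fun t ht ht1 => (hk t ht ht1).2⟩
  · have : g ∈ Subgroup.centralizer ({g} : Set (Cfsg.Sz F m)) :=
      Subgroup.mem_centralizer_singleton_iff.2 rfl
    rw [e, Subgroup.mem_bot] at this
    exact hg.ne_one this
  · rcases hd with h | h
    exacts [(odd_kPlus hm).of_dvd_nat h, (odd_kMinus hm).of_dvd_nat h]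

theorem IsTor.map_conj {T : Subgroup (Cfsg.Sz F m)} (hT : IsTor T) (h : Cfsg.Sz F m) :
    IsTor (T.map (MulAut.conj h).toMonoidHom) := by
  obtain ⟨h1, h2, h3, h4⟩ := hT
  refine ⟨fun e => h1 ?_, ?_, ?_, ?_⟩
  · rwa [Subgroup.map_eq_bot_iff_of_injective _ (MulAut.conj h).injective] at e
  · haveI := h2
    exact isCyclic_of_surjective (T.equivMapOfInjective _ (MulAut.conj h).injective) (MulEquiv.surjective _)
  · rwa [Subgroup.card_map_of_injective (MulAut.conj h).injective]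
  · rintro _ ⟨t, ht, rfl⟩ hne
    show Subgroup.centralizer ({h * t * h⁻¹} : Set (Cfsg.Sz F m)) = _
    rw [centralizer_conj hm hF, h4 t ht fun e => hne (by rw [e, map_one])]

/-- Every non-identity element is of translation type or has a torus as centralizer. -/
theorem trType_or_isTor {g : Cfsg.Sz F m} (hg : g ≠ 1) :
    IsTrType hF g ∨ IsTor (Subgroup.centralizer ({g} : Set (Cfsg.Sz F m))) := by
  rcases element_cases hm hF hg with hf | ⟨h, a, b, hab, he⟩ | ⟨h, s, hs, he⟩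
  · exact Or.inr (isTor_of_fpf hm hF hf)
  · exact Or.inl ⟨h, a, b, hab, he⟩
  · right
    have h1 := (isTor_torusSubgroup hm hF).map_conj hm hF h⁻¹
    rw [← centralizer_tor hm hF hs, ← centralizer_conj hm hF, ← he] at h1
    rwa [show h⁻¹ * (h * g * h⁻¹) * h⁻¹⁻¹ = g by group] at h1

theorem IsTor.not_trType {T : Subgroup (Cfsg.Sz F m)} (hT : IsTor T) {t : Cfsg.Sz F m} (ht : t ∈ T) :
    ¬ IsTrType hF t := fun htr => by
  have h1 := (htr.even_orderOf hm hF).trans (Subgroup.orderOf_dvd_natCard T ht)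
  exact Nat.not_even_iff_odd.2 hT.2.2.1 (even_iff_two_dvd.2 h1)

theorem IsTor.eq_of_mem {T T' : Subgroup (Cfsg.Sz F m)} (hT : IsTor T) (hT' : IsTor T')
    {t : Cfsg.Sz F m} (ht : t ∈ T) (ht' : t ∈ T') (h1 : t ≠ 1) : T = T' := by
  rw [← hT.2.2.2 t ht h1, hT'.2.2.2 t ht' h1]

theorem IsTor.mem_normalizer {T : Subgroup (Cfsg.Sz F m)} (hT : IsTor T) {n t : Cfsg.Sz F m}
    (ht : t ∈ T) (ht1 : t ≠ 1) (hn : n * t * n⁻¹ ∈ T) :
    n ∈ Subgroup.normalizer (T : Set (Cfsg.Sz F m)) := by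
  rw [Subgroup.mem_normalizer_iff_map_conj_eq]
  have e := hT.2.2.2 _ hn fun e => ht1 (conj_eq_one_iff.1 e)
  rw [centralizer_conj hm hF, hT.2.2.2 t ht ht1] at e
  exact e

theorem card_normalizer_torusSubgroup :
    Nat.card (Subgroup.normalizer ((torusSubgroup (m := m) hF) : Set (Cfsg.Sz F m))) =
      2 * (Fintype.card F - 1) := by
  set T := torusSubgroup (m := m) hF with hTdef
  set N := Subgroup.normalizer (T : Set (Cfsg.Sz F m)) with hN
  have hT := isTor_torusSubgroup (m := m) hm hF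
  obtain ⟨s, hs⟩ := exists_unit_ne_one (F := F) hm hF
  have hsT : tor hF s ∈ T := (mem_torusSubgroup hF).2 ⟨s, rfl⟩
  have hsw : sw hF ∈ N := by
    refine hT.mem_normalizer hm hF hsT (fun e => hs (tor_injective hF (e.trans (tor_one hF).symm))) ?_
    rw [sw_inv, tor_swap]
    exact (mem_torusSubgroup hF).2 ⟨_, rfl⟩
  have horbit : orbit N (infty (F := F) m) = {infty m, point m 0 0} := by
    refine Set.Subset.antisymm ?_ ?_
    · rintro _ ⟨n, rfl⟩
      have hmem : (n : Cfsg.Sz F m)⁻¹ * tor hF s * n ∈ T :=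
        (Subgroup.mem_set_normalizer_iff''.1 n.2 _).1 hsT
      obtain ⟨t, ht⟩ := (mem_torusSubgroup hF).1 hmem
      refine tor_fixed hF hs ?_
      show tor hF s • (n : Cfsg.Sz F m) • infty (F := F) m = (n : Cfsg.Sz F m) • infty m
      rw [← mul_smul, show tor hF s * (n : Cfsg.Sz F m) = n * ((n : Cfsg.Sz F m)⁻¹ * tor hF s * n) by
        group, ht, mul_smul, tor_smul_infty]
    · rintro x (rfl | rfl)
      · exact mem_orbit_self _
      · exact ⟨⟨sw hF, hsw⟩, sw_smul_infty hF⟩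
  have hstab : Nat.card (stabilizer N (infty (F := F) m)) = Fintype.card F - 1 := by
    rw [← card_torusSubgroup (m := m) hF]
    refine Nat.card_congr
      { toFun := fun n => ⟨((n : N) : Cfsg.Sz F m), ?_⟩
        invFun := fun t => ⟨⟨t, Subgroup.le_normalizer t.2⟩, ?_⟩
        left_inv := fun n => rfl
        right_inv := fun t => rfl }
    · have h0 : ((n : N) : Cfsg.Sz F m) • infty (F := F) m = infty m := n.2
      have h1 : ((n : N) : Cfsg.Sz F m) • point (F := F) m 0 0 = point m 0 0 := by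
        have hmem : ((n : N) : Cfsg.Sz F m)⁻¹ * tor hF s * (n : N) ∈ T :=
          (Subgroup.mem_set_normalizer_iff''.1 (n : N).2 _).1 hsT
        obtain ⟨t, ht⟩ := (mem_torusSubgroup hF).1 hmem
        refine (tor_fixed hF hs ?_).resolve_left fun e =>
          point_ne_infty (F := F) (m := m) 0 0 (smul_left_cancel _ (e.trans h0.symm))
        rw [← mul_smul, show tor hF s * ((n : N) : Cfsg.Sz F m) =
          (n : N) * (((n : N) : Cfsg.Sz F m)⁻¹ * tor hF s * (n : N)) by group, ht, mul_smul, tor_smul_zero]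
      exact (mem_torusSubgroup hF).2 (exists_to hm hF h0 h1)
    · obtain ⟨u, hu⟩ := (mem_torusSubgroup hF).1 t.2
      show (t : Cfsg.Sz F m) • infty (F := F) m = infty m
      rw [hu, tor_smul_infty]
  have hoc := Subgroup.card_mul_index (stabilizer N (infty (F := F) m))
  rw [index_stabilizer, horbit, Set.ncard_pair (point_ne_infty (F := F) (m := m) 0 0).symm, hstab] at hoc
  rw [← hoc, mul_comm]

/-- A torus is conjugate to the diagonal one, or has order `q ± r + 1`. -/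
theorem IsTor.cases {T : Subgroup (Cfsg.Sz F m)} (hT : IsTor T) :
    (Nat.card T = Fintype.card F - 1 ∧
      (∃ h, T.map (MulAut.conj h).toMonoidHom = torusSubgroup hF) ∧
      Nat.card (Subgroup.normalizer (T : Set (Cfsg.Sz F m))) = 2 * Nat.card T) ∨
    ((Nat.card T = kPlus m ∨ Nat.card T = kMinus m) ∧ (∀ t ∈ T, t ≠ 1 → FPF t) ∧
      Nat.card (Subgroup.normalizer (T : Set (Cfsg.Sz F m))) = 4 * Nat.card T) := by
  obtain ⟨t, ht, ht1⟩ := T.bot_or_exists_ne_one.resolve_left hT.1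
  rcases element_cases hm hF ht1 with hf | ⟨h, a, b, hab, he⟩ | ⟨h, s, hs, he⟩
  · right
    obtain ⟨x, x', hx, hx', e1, e2, n1, n2, hcov⟩ := exists_two_tori hm hF
    have hTt := hT.2.2.2 t ht ht1
    have main : ∀ z k, FPF z → Nat.card (Subgroup.centralizer ({z} : Set (Cfsg.Sz F m))) = k →
        Nat.card (Subgroup.normalizer
          ((Subgroup.centralizer ({z} : Set (Cfsg.Sz F m))) : Set (Cfsg.Sz F m))) = 4 * k →
        t ∈ classSet (Subgroup.centralizer ({z} : Set (Cfsg.Sz F m))) →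
        Nat.card T = k ∧ Nat.card (Subgroup.normalizer (T : Set (Cfsg.Sz F m))) = 4 * Nat.card T := by
      rintro z k hz hk hn ⟨-, h, hh⟩
      have e := ((fpf_torus hm hF hz).2.2.1 _ hh fun e => ht1 (conj_eq_one_iff.1 e)).2
      rw [centralizer_conj hm hF, hTt] at e
      rw [← e, Subgroup.card_map_of_injective (MulAut.conj h).injective] at hk
      rw [← e, ← Subgroup.map_equiv_normalizer_eq,
        Subgroup.card_map_of_injective (MulAut.conj h).injective] at hn
      exact ⟨hk, by rw [hk]; exact hn⟩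
    refine ⟨?_, fun u hu hu1 => ?_, ?_⟩
    · rcases hcov t hf with hh | hh
      exacts [Or.inl (main x _ hx e1 n1 hh).1, Or.inr (main x' _ hx' e2 n2 hh).1]
    · rw [← hTt] at hu
      exact ((fpf_torus hm hF hf).2.2.1 u hu hu1).1
    · rcases hcov t hf with hh | hh
      exacts [(main x _ hx e1 n1 hh).2, (main x' _ hx' e2 n2 hh).2]
  · exact absurd ⟨h, a, b, hab, he⟩ (hT.not_trType hm hF ht)
  · left
    have e : T.map (MulAut.conj h).toMonoidHom = torusSubgroup hF := by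
      rw [← hT.2.2.2 t ht ht1, ← centralizer_conj hm hF, he, centralizer_tor hm hF hs]
    have hc : Nat.card T = Fintype.card F - 1 := by
      rw [← card_torusSubgroup (m := m) hF, ← e,
        Subgroup.card_map_of_injective (MulAut.conj h).injective]
    refine ⟨hc, ⟨h, e⟩, ?_⟩
    rw [hc, ← card_normalizer_torusSubgroup hm hF, ← e, ← Subgroup.map_equiv_normalizer_eq,
      Subgroup.card_map_of_injective (MulAut.conj h).injective]

theorem kPlus_ne : kPlus m ≠ Fintype.card F - 1 ∧ kMinus m ≠ Fintype.card F - 1 ∧ kPlus m ≠ kMinus m := by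
  have := two_mul_r_le hm
  have := four_le_r hm
  rw [hF]
  unfold kPlus kMinus
  omega

/-- Tori of the same order are conjugate. -/
theorem IsTor.conj_of_card_eq {T T' : Subgroup (Cfsg.Sz F m)} (hT : IsTor T) (hT' : IsTor T')
    (hc : Nat.card T = Nat.card T') : ∃ h, T.map (MulAut.conj h).toMonoidHom = T' := by
  obtain ⟨hk1, hk2, hk3⟩ := kPlus_ne (F := F) hm hF
  rcases hT.cases hm hF with ⟨c, ⟨h, e⟩, -⟩ | ⟨c, hfp, -⟩
  · rcases hT'.cases hm hF with ⟨-, ⟨h', e'⟩, -⟩ | ⟨c', -, -⟩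
    · exact ⟨h'⁻¹ * h, map_conj_of_eq e e'⟩
    · rcases c' with c' | c' <;> omega
  · rcases hT'.cases hm hF with ⟨c', -, -⟩ | ⟨c', hfp', -⟩
    · rcases c with c | c <;> omega
    · obtain ⟨t, ht, ht1⟩ := T.bot_or_exists_ne_one.resolve_left hT.1
      obtain ⟨u, hu, hu1⟩ := T'.bot_or_exists_ne_one.resolve_left hT'.1
      obtain ⟨x, x', hx, hx', e1, e2, -, -, hcov⟩ := exists_two_tori hm hF
      have main : ∀ {S : Subgroup (Cfsg.Sz F m)}, IsTor S → ∀ w ∈ S, w ≠ 1 → FPF w →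
          ∃ y, S.map (MulAut.conj y).toMonoidHom =
            if Nat.card S = kPlus m then Subgroup.centralizer ({x} : Set (Cfsg.Sz F m))
            else Subgroup.centralizer ({x'} : Set (Cfsg.Sz F m)) := by
        intro S hS w hw hw1 hwf
        rcases hcov w hwf with ⟨-, y, hy⟩ | ⟨-, y, hy⟩
        · have e := ((fpf_torus hm hF hx).2.2.1 _ hy fun e => hw1 (conj_eq_one_iff.1 e)).2
          rw [centralizer_conj hm hF, hS.2.2.2 w hw hw1] at e
          refine ⟨y, ?_⟩
          rw [if_pos (by rw [← e1, ← e, Subgroup.card_map_of_injective (MulAut.conj y).injective]), e]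
        · have e := ((fpf_torus hm hF hx').2.2.1 _ hy fun e => hw1 (conj_eq_one_iff.1 e)).2
          rw [centralizer_conj hm hF, hS.2.2.2 w hw hw1] at e
          refine ⟨y, ?_⟩
          rw [if_neg (fun h => hk3 (by
            rw [← e2, ← h, ← e, Subgroup.card_map_of_injective (MulAut.conj y).injective])), e]
      obtain ⟨y, hy⟩ := main hT t ht ht1 (hfp t ht ht1)
      obtain ⟨y', hy'⟩ := main hT' u hu hu1 (hfp' u hu hu1)
      exact ⟨y'⁻¹ * y, map_conj_of_eq (hy.trans (by rw [hc])) hy'⟩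

/-- Odd order elements normalizing a torus lie in it. -/
theorem IsTor.mem_of_normalizer {T : Subgroup (Cfsg.Sz F m)} (hT : IsTor T) {y : Cfsg.Sz F m}
    (hy : y ∈ Subgroup.normalizer (T : Set (Cfsg.Sz F m))) (ho : Odd (orderOf y)) : y ∈ T := by
  set N := Subgroup.normalizer (T : Set (Cfsg.Sz F m)) with hN
  have hidx : (T.subgroupOf N).index ∣ 4 := by
    have h1 := Subgroup.card_mul_index (T.subgroupOf N)
    rw [Nat.card_congr (Subgroup.subgroupOfEquivOfLe Subgroup.le_normalizer).toEquiv] at h1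
    have hpos : 0 < Nat.card T := Nat.card_pos
    rcases hT.cases hm hF with ⟨-, -, e⟩ | ⟨-, -, e⟩ <;> rw [← hN] at e <;> rw [e, mul_comm] at h1 <;>
      rw [Nat.eq_of_mul_eq_mul_right hpos h1]
    exact ⟨2, rfl⟩
  haveI : (T.subgroupOf N).Normal := Subgroup.normal_in_normalizer
  have h2 : orderOf (QuotientGroup.mk' (T.subgroupOf N) ⟨y, hy⟩) = 1 := by
    refine Nat.eq_one_of_dvd_coprimes (coprime_of_two_pow ho (j := 2)) ?_ ?_
    · refine (orderOf_map_dvd _ _).trans ?_
      rw [Subgroup.orderOf_mk]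
    · exact (orderOf_dvd_natCard _).trans (by rwa [← Subgroup.index_eq_card])
  rw [orderOf_eq_one_iff, QuotientGroup.mk'_apply, QuotientGroup.eq_one_iff] at h2
  exact h2

theorem IsTor.normalizer_solvable {T : Subgroup (Cfsg.Sz F m)} (hT : IsTor T) :
    Group.IsSolvable (Subgroup.normalizer (T : Set (Cfsg.Sz F m))) := by
  set N := Subgroup.normalizer (T : Set (Cfsg.Sz F m)) with hN
  haveI := hT.2.1
  haveI : (T.subgroupOf N).Normal := Subgroup.normal_in_normalizer
  haveI : IsCyclic (T.subgroupOf N) :=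
    isCyclic_of_surjective (Subgroup.subgroupOfEquivOfLe Subgroup.le_normalizer).symm
      (MulEquiv.surjective _)
  letI : CommGroup (T.subgroupOf N) := IsCyclic.commGroup
  have hq : IsPGroup 2 (N ⧸ T.subgroupOf N) := by
    have h1 := Subgroup.card_mul_index (T.subgroupOf N)
    rw [Nat.card_congr (Subgroup.subgroupOfEquivOfLe Subgroup.le_normalizer).toEquiv] at h1
    have hpos : 0 < Nat.card T := Nat.card_pos
    rcases hT.cases hm hF with ⟨-, -, e⟩ | ⟨-, -, e⟩ <;> rw [← hN] at e <;> rw [e, mul_comm] at h1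
    · exact IsPGroup.of_card (n := 1) (by
        rw [← Subgroup.index_eq_card, Nat.eq_of_mul_eq_mul_right hpos h1, pow_one])
    · exact IsPGroup.of_card (n := 2) (by
        rw [← Subgroup.index_eq_card, Nat.eq_of_mul_eq_mul_right hpos h1]; rfl)
  haveI : Fact (Nat.Prime 2) := ⟨Nat.prime_two⟩
  haveI := hq.isNilpotent
  exact Group.isSolvable_of_ker_le_range (T.subgroupOf N).subtype (QuotientGroup.mk' (T.subgroupOf N))
    (by rw [QuotientGroup.ker_mk', Subgroup.range_subtype])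

end Cfsg.Agent.Suzuki
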