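import Cfsg.Agent.Lib.Suzuki.Rigidity

/-!
# The Suzuki group: order, double transitivity, simplicity
-/

set_option autoImplicit false
set_option linter.unusedSectionVars false

namespace Cfsg.Agent.Suzuki

open Matrix MulAction

variable {F : Type*} [Field F] [Fintype F] [CharP F 2] {m : ℕ}
variable (hm : 1 ≤ m) (hF : Fintype.card F = 2 ^ (2 * m + 1))

/-- The translations in the Suzuki group. -/
def tr (a b : F) : Cfsg.Sz F m := ⟨transSL m a b, transSL_mem hF a b⟩

/-- The torus in the Suzuki group. -/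
def tor (s : Fˣ) : Cfsg.Sz F m := ⟨torusSL m s, torusSL_mem hF s⟩

/-- The antidiagonal in the Suzuki group. -/
def sw : Cfsg.Sz F m := ⟨swapSL, swapSL_mem hF⟩

include hF

theorem tr_smul_point (a b x y : F) :
    tr hF a b • point (F := F) m x y = point m (x + a) (y + a ^ 2 ^ (m + 1) * x + b) :=
  Subtype.ext (transSL_smul_point hF a b x y)

theorem tr_smul_infty (a b : F) : tr hF a b • infty (F := F) m = infty m :=
  Subtype.ext (transSL_smul_infty a b)

theorem tr_smul_zero (a b : F) : tr hF a b • point (F := F) m 0 0 = point m a b := by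
  rw [tr_smul_point]; simp

theorem tor_smul_point (s : Fˣ) (x y : F) :
    tor hF s • point (F := F) m x y =
      point m ((s : F) ^ 2 ^ (m + 1) * x) ((s : F) ^ 2 ^ (m + 1) * (s : F) ^ 2 * y) :=
  Subtype.ext (torusSL_smul_point hF s x y)

theorem tor_smul_infty (s : Fˣ) : tor hF s • infty (F := F) m = infty m :=
  Subtype.ext (torusSL_smul_infty s)

theorem tor_smul_zero (s : Fˣ) : tor hF s • point (F := F) m 0 0 = point m 0 0 := by
  rw [tor_smul_point]; simp

theorem sw_smul_infty : sw hF • infty (F := F) m = point m 0 0 := Subtype.ext swapSL_smul_infty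

theorem sw_smul_zero : sw hF • point (F := F) m 0 0 = infty m := Subtype.ext swapSL_smul_zero

theorem sw_smul_point {x y : F} (h : ovf m x y ≠ 0) :
    sw hF • point (F := F) m x y = point m (y / ovf m x y) (x / ovf m x y) :=
  Subtype.ext (swapSL_smul_point hF h)

theorem sw_mul_self : sw hF * sw hF = (1 : Cfsg.Sz F m) := Subtype.ext swapSL_mul_self

theorem sw_inv : (sw hF)⁻¹ = (sw hF : Cfsg.Sz F m) := inv_eq_of_mul_eq_one_right (sw_mul_self hF)

theorem tr_zero : tr hF 0 0 = (1 : Cfsg.Sz F m) := Subtype.ext transSL_zero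

theorem tr_mul (a b c d : F) :
    tr hF a b * tr hF c d = (tr hF (a + c) (b + d + a ^ 2 ^ (m + 1) * c) : Cfsg.Sz F m) :=
  Subtype.ext (transSL_mul hF a b c d)

theorem tr_inv (a b : F) :
    (tr hF a b)⁻¹ = (tr hF a (b + a ^ 2 ^ (m + 1) * a) : Cfsg.Sz F m) :=
  Subtype.ext (transSL_inv hF a b)

theorem tr_injective {a b c d : F} (h : (tr hF a b : Cfsg.Sz F m) = tr hF c d) : a = c ∧ b = d := by
  refine point_injective (m := m) ?_
  rw [← tr_smul_zero hF, h, tr_smul_zero]

theorem tor_mul (s t : Fˣ) : (tor hF (s * t) : Cfsg.Sz F m) = tor hF s * tor hF t :=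
  Subtype.ext (torusSL_mul s t)

theorem tor_one : (tor hF 1 : Cfsg.Sz F m) = 1 := by
  have h := tor_mul hF (1 : Fˣ) 1
  rw [one_mul] at h
  exact mul_eq_left.1 h.symm

theorem tor_inv (s : Fˣ) : ((tor hF s)⁻¹ : Cfsg.Sz F m) = tor hF s⁻¹ :=
  inv_eq_of_mul_eq_one_right (by rw [← tor_mul, mul_inv_cancel, tor_one])

theorem tor_injective : Function.Injective (tor hF : Fˣ → Cfsg.Sz F m) := fun _ _ h =>
  torusSL_injective (congrArg Subtype.val h)

theorem tor_mul_tr (s : Fˣ) (a b : F) :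
    tor hF s * tr hF a b = (tr hF ((s : F) ^ 2 ^ (m + 1) * a)
      ((s : F) ^ 2 ^ (m + 1) * (s : F) ^ 2 * b) * tor hF s : Cfsg.Sz F m) := by
  apply Subtype.ext
  apply Subtype.ext
  show torusMat m s * transMat m a b = transMat m _ _ * torusMat m s
  have hs := s.ne_zero
  have hs' : theta F m (s : F) ≠ 0 := (map_ne_zero _).2 hs
  ext i j
  rw [torusMat, Matrix.diagonal_mul, Matrix.mul_diagonal]
  fin_cases i <;> fin_cases j <;>
    simp [transMat, ← theta_def, ovf_eq, map_mul, map_pow, theta_theta hF] <;>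
    field_simp <;> ring

theorem conj_tr (s : Fˣ) (a b : F) :
    tor hF s * tr hF a b * (tor hF s)⁻¹ = (tr hF ((s : F) ^ 2 ^ (m + 1) * a)
      ((s : F) ^ 2 ^ (m + 1) * (s : F) ^ 2 * b) : Cfsg.Sz F m) := by
  rw [tor_mul_tr, mul_inv_cancel_right]

include hm

theorem exists_to {g : Cfsg.Sz F m} (hi : g • infty (F := F) m = infty m)
    (h0 : g • point (F := F) m 0 0 = point m 0 0) : ∃ s, g = tor hF s := by
  obtain ⟨s, hs⟩ := exists_torus hm hF g.2 (congrArg Subtype.val hi) (congrArg Subtype.val h0)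
  exact ⟨s, Subtype.ext hs⟩

/-- The stabilizer of the point at infinity consists of the products `tr a b * to s`. -/
theorem exists_tr_to {g : Cfsg.Sz F m} (hi : g • infty (F := F) m = infty m) :
    ∃ a b s, g = tr hF a b * tor hF s := by
  rcases cases_point (g • point (F := F) m 0 0) with h | ⟨a, b, h⟩
  · exact absurd (smul_left_cancel g (h.trans hi.symm)) (point_ne_infty 0 0)
  · obtain ⟨s, hs⟩ := exists_to hm hF (g := (tr hF a b)⁻¹ * g)
      (by rw [mul_smul, hi, inv_smul_eq_iff, tr_smul_infty])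
      (by rw [mul_smul, h, inv_smul_eq_iff, tr_smul_zero])
    exact ⟨a, b, s, by rw [← hs, mul_inv_cancel_left]⟩

/-- The Bruhat decomposition. -/
theorem bruhat (g : Cfsg.Sz F m) :
    (∃ a b s, g = tr hF a b * tor hF s) ∨
      ∃ a b c d s, g = tr hF a b * sw hF * (tr hF c d * tor hF s) := by
  rcases cases_point (g • infty (F := F) m) with h | ⟨a, b, h⟩
  · exact Or.inl (exists_tr_to hm hF h)
  · obtain ⟨c, d, s, hs⟩ := exists_tr_to hm hF (g := sw hF * (tr hF a b)⁻¹ * g) (by
      rw [mul_smul, h, mul_smul, show (tr hF a b)⁻¹ • point (F := F) m a b = point m 0 0 by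
        rw [inv_smul_eq_iff, tr_smul_zero], sw_smul_zero])
    refine Or.inr ⟨a, b, c, d, s, ?_⟩
    rw [← hs, show tr hF a b * sw hF * (sw hF * (tr hF a b)⁻¹ * g) =
      tr hF a b * (sw hF * sw hF) * (tr hF a b)⁻¹ * g by group, sw_mul_self]
    group

omit hm in
theorem exists_to_infty (p : Cfsg.suzukiOvoid F m) : ∃ g : Cfsg.Sz F m, g • infty (F := F) m = p := by
  rcases cases_point p with rfl | ⟨x, y, rfl⟩
  · exact ⟨1, one_smul _ _⟩
  · exact ⟨tr hF x y * sw hF, by rw [mul_smul, sw_smul_infty, tr_smul_zero]⟩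

omit hm in
theorem pretransitive : IsPretransitive (Cfsg.Sz F m) (Cfsg.suzukiOvoid F m) :=
  ⟨fun p q => by
    obtain ⟨g, rfl⟩ := exists_to_infty hF p
    obtain ⟨h, rfl⟩ := exists_to_infty hF q
    exact ⟨h * g⁻¹, by rw [mul_smul, inv_smul_smul]⟩⟩

omit hm in
theorem two_transitive : IsMultiplyPretransitive (Cfsg.Sz F m) (Cfsg.suzukiOvoid F m) 2 := by
  rw [is_two_pretransitive_iff]
  have key : ∀ p q : Cfsg.suzukiOvoid F m, p ≠ q →
      ∃ g : Cfsg.Sz F m, g • infty (F := F) m = p ∧ g • point (F := F) m 0 0 = q := by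
    intro p q hpq
    obtain ⟨g, hg⟩ := exists_to_infty hF p
    rcases cases_point (g⁻¹ • q) with h | ⟨x, y, h⟩
    · exact absurd (by rw [← hg, ← h, smul_inv_smul]) hpq
    · refine ⟨g * tr hF x y, by rw [mul_smul, tr_smul_infty, hg], ?_⟩
      rw [mul_smul, tr_smul_zero, ← h, smul_inv_smul]
  intro p q p' q' hpq hpq'
  obtain ⟨g, hg1, hg2⟩ := key p q hpq
  obtain ⟨h, hh1, hh2⟩ := key p' q' hpq'
  exact ⟨h * g⁻¹, by rw [← hg1, mul_smul, inv_smul_smul, hh1],
    by rw [← hg2, mul_smul, inv_smul_smul, hh2]⟩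

omit hm in
theorem tr_tor_injective {a b c d : F} {s t : Fˣ}
    (h : (tr hF a b * tor hF s : Cfsg.Sz F m) = tr hF c d * tor hF t) : a = c ∧ b = d ∧ s = t := by
  have h1 : point (F := F) m a b = point m c d := by
    rw [← tr_smul_zero hF a b, ← tr_smul_zero hF c d]
    conv_lhs => rw [← tor_smul_zero hF s, ← mul_smul, h, mul_smul, tor_smul_zero]
  obtain ⟨rfl, rfl⟩ := point_injective h1
  exact ⟨rfl, rfl, tor_injective hF (mul_left_cancel h)⟩

/-- The point stabilizer as a product. -/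
noncomputable def stabEquiv :
    (F × F) × Fˣ ≃ stabilizer (Cfsg.Sz F m) (infty (F := F) m) :=
  Equiv.ofBijective (fun p => ⟨tr hF p.1.1 p.1.2 * tor hF p.2, by
      rw [mem_stabilizer_iff, mul_smul, tor_smul_infty, tr_smul_infty]⟩) ⟨by
    rintro ⟨⟨a, b⟩, s⟩ ⟨⟨c, d⟩, t⟩ h
    obtain ⟨rfl, rfl, rfl⟩ := tr_tor_injective hF (congrArg Subtype.val h)
    rfl, fun g => by
    obtain ⟨a, b, s, h⟩ := exists_tr_to hm hF (mem_stabilizer_iff.1 g.2)
    exact ⟨⟨(a, b), s⟩, Subtype.ext h.symm⟩⟩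

theorem card_stabilizer :
    Nat.card (stabilizer (Cfsg.Sz F m) (infty (F := F) m)) =
      Fintype.card F ^ 2 * (Fintype.card F - 1) := by
  rw [← Nat.card_congr (stabEquiv hm hF), Nat.card_prod, Nat.card_prod, Nat.card_units,
    Nat.card_eq_fintype_card, sq]

theorem card_eq :
    Nat.card (Cfsg.Sz F m) =
      Fintype.card F ^ 2 * (Fintype.card F ^ 2 + 1) * (Fintype.card F - 1) := by
  haveI := pretransitive hF
  rw [← Subgroup.card_mul_index (stabilizer (Cfsg.Sz F m) (infty (F := F) m)),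
    index_stabilizer_of_transitive, card_stabilizer hm hF, card_ovoid]
  ring

theorem exists_unit_ne_one : ∃ s : Fˣ, s ≠ 1 := by
  classical
  haveI : Nontrivial Fˣ := by
    rw [← Fintype.one_lt_card_iff_nontrivial, Fintype.card_units, hF]
    have : 2 ^ 3 ≤ 2 ^ (2 * m + 1) := Nat.pow_le_pow_right (by norm_num) (by omega)
    omega
  exact exists_ne 1

theorem eq_top_of_tr_mem {N : Subgroup (Cfsg.Sz F m)} [N.Normal]
    (h : ∀ a b, tr hF a b ∈ N) : N = ⊤ := by
  have hinj : ∀ s s₁ : Fˣ, theta F m (s : F) * s = theta F m (s₁ : F) * s₁ → s = s₁ := by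
    intro s s₁ h
    have h0 : (s₁ : F) ≠ 0 := s₁.ne_zero
    have h0' : theta F m (s₁ : F) ≠ 0 := (map_ne_zero _).2 h0
    have h2 : theta F m ((s : F) / s₁) * ((s : F) / s₁) = 1 := by
      rw [map_div₀]; field_simp; linear_combination h
    exact Units.ext ((div_eq_one_iff_eq h0).1 (eq_one_of_theta_mul hF h2))
  have key : ∀ s : Fˣ, tor hF s * sw hF ∈ N := by
    intro s₁
    obtain ⟨y, hy⟩ := exists_theta hF (theta F m (s₁ : F) * s₁)
    have hy0 : y ≠ 0 := fun e => by
      rw [e, map_zero] at hy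
      exact mul_ne_zero ((map_ne_zero _).2 s₁.ne_zero) s₁.ne_zero hy.symm
    have hf : ovf m 0 y = theta F m y := by rw [ovf_eq]; simp
    have hf0 : ovf m 0 y ≠ 0 := by rw [hf]; exact (map_ne_zero _).2 hy0
    set x' := y / ovf m 0 y with hx'
    set A := (tr hF x' 0)⁻¹ with hA
    set L := sw hF * A * sw hF * tr hF 0 y * sw hF with hL
    have h1 : L • infty (F := F) m = infty m := by
      rw [hL, mul_smul, sw_smul_infty, mul_smul, tr_smul_zero, mul_smul, sw_smul_point hF hf0, zero_div,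
        mul_smul, show A • point (F := F) m x' 0 = point m 0 0 by
          rw [hA, inv_smul_eq_iff, tr_smul_zero], sw_smul_zero]
    obtain ⟨a, b, s, hs⟩ := exists_tr_to hm hF h1
    have hLe : (L.1 : Matrix (Fin 4) (Fin 4) F) *ᵥ ![1, 0, 0, 0] = theta F m y • ![1, 0, 0, 0] := by
      rw [hL, hA, tr_inv]
      show (swapMat * transMat m x' _ * swapMat * transMat m 0 y * swapMat) *ᵥ _ = _
      rw [← Matrix.mulVec_mulVec, ← Matrix.mulVec_mulVec, ← Matrix.mulVec_mulVec,
        ← Matrix.mulVec_mulVec]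
      have e1 : (swapMat : Matrix (Fin 4) (Fin 4) F) *ᵥ ![1, 0, 0, 0] = vec m 0 0 := by
        rw [swap_mulVec]; simp [vec, ovf_zero]
      rw [e1, trans_mulVec_vec hF]
      simp only [zero_add, mul_zero, add_zero]
      rw [swap_mulVec_vec hF hf0, zero_div, Matrix.mulVec_smul, trans_mulVec_vec hF,
        Matrix.mulVec_smul, swap_mulVec, ← hx', hf]
      have hz : ∀ z : F, z + z = 0 := CharTwo.add_self_eq_zero
      have hx : (x' + x') = 0 := hz x'
      have hy' : (0 : F) + x' ^ 2 ^ (m + 1) * x' + (0 + x' ^ 2 ^ (m + 1) * x') = 0 := by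
        rw [zero_add]; exact hz _
      simp only [hx, hy', zero_add, hz]
      simp [vec, ovf_zero]
    have hse : theta F m (s : F) * s = theta F m y := by
      have h2 : (L.1 : Matrix (Fin 4) (Fin 4) F) *ᵥ ![1, 0, 0, 0] =
          (transMat m a b * torusMat m s) *ᵥ ![1, 0, 0, 0] := by rw [hs]; rfl
      rw [hLe, ← Matrix.mulVec_mulVec, torus_mulVec_inf, Matrix.mulVec_smul, trans_mulVec_inf,
        ← theta_def] at h2
      simpa using (congrFun h2 0).symm
    obtain rfl : s = s₁ := hinj _ _ (hse.trans hy)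
    have hmem : sw hF * A * sw hF * tr hF 0 y ∈ N := by
      refine N.mul_mem ?_ (h 0 y)
      have := Subgroup.Normal.conj_mem (H := N) inferInstance A (N.inv_mem (h x' 0)) (sw hF)
      rwa [sw_inv] at this
    have e : tor hF s * sw hF = (tr hF a b)⁻¹ * (sw hF * A * sw hF * tr hF 0 y) := by
      calc tor hF s * sw hF = (tr hF a b)⁻¹ * (tr hF a b * tor hF s) * sw hF := by group
        _ = (tr hF a b)⁻¹ * L * sw hF := by rw [hs]
        _ = (tr hF a b)⁻¹ * (sw hF * A * sw hF * tr hF 0 y) * (sw hF * sw hF) := by rw [hL]; group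
        _ = _ := by rw [sw_mul_self]; group
    rw [e]
    exact N.mul_mem (N.inv_mem (h a b)) hmem
  have hsw : sw hF ∈ N := by simpa [tor_one] using key 1
  have hto : ∀ s, tor hF s ∈ N := fun s => by
    simpa [mul_assoc, sw_mul_self] using N.mul_mem (key s) hsw
  rw [Subgroup.eq_top_iff']
  intro g
  rcases bruhat hm hF g with ⟨a, b, s, rfl⟩ | ⟨a, b, c, d, s, rfl⟩
  · exact N.mul_mem (h a b) (hto s)
  · exact N.mul_mem (N.mul_mem (h a b) hsw) (N.mul_mem (h c d) (hto s))

theorem tr_mem_commutator (a b : F) : tr hF a b ∈ commutator (Cfsg.Sz F m) := by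
  obtain ⟨s, hs⟩ := exists_unit_ne_one (F := F) hm hF
  set k := (s : F) ^ 2 ^ (m + 1) with hk
  set k' := (s : F) ^ 2 ^ (m + 1) * (s : F) ^ 2 with hk'
  have hk1 : k + 1 ≠ 0 := fun e => hs (Units.ext ((theta F m).injective (by
    rw [Units.val_one, map_one, theta_def]; exact CharTwo.add_eq_zero.1 e)))
  have hk'1 : k' + 1 ≠ 0 := fun e => hs (Units.ext ((eq_one_of_theta_mul_sq (m := m) hF (u := (s : F)) (by
    rw [theta_def]; exact CharTwo.add_eq_zero.1 e)).trans Units.val_one.symm))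
  have key : ∀ a b, ∃ c, tr hF ((k + 1) * a) c ∈ commutator (Cfsg.Sz F m) ∧
      (a = 0 → c = (k' + 1) * b) := by
    intro a b
    refine ⟨k' * b + (b + a ^ 2 ^ (m + 1) * a) + (k * a) ^ 2 ^ (m + 1) * a, ?_, ?_⟩
    · have hmem : tor hF s * tr hF a b * (tor hF s)⁻¹ * (tr hF a b)⁻¹ ∈ commutator (Cfsg.Sz F m) := by
        rw [← commutatorElement_def, commutator_def]
        exact Subgroup.commutator_mem_commutator (Subgroup.mem_top _) (Subgroup.mem_top _)
      rw [conj_tr, tr_inv, tr_mul, ← hk, ← hk'] at hmem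
      rwa [show (k + 1) * a = k * a + a by ring]
    · rintro rfl
      simp only [mul_zero, add_zero]
      ring
  have hb : ∀ b, tr hF 0 b ∈ commutator (Cfsg.Sz F m) := fun b => by
    obtain ⟨c, hc, hc'⟩ := key 0 (b / (k' + 1))
    rwa [mul_zero, hc' rfl, mul_div_cancel₀ _ hk'1] at hc
  obtain ⟨c, hc, -⟩ := key (a / (k + 1)) 0
  rw [mul_div_cancel₀ _ hk1] at hc
  have := mul_mem hc (hb (c + b))
  rwa [tr_mul, add_zero, mul_zero, add_zero, ← add_assoc, CharTwo.add_self_eq_zero, zero_add] at this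

theorem commutator_eq_top : commutator (Cfsg.Sz F m) = ⊤ :=
  eq_top_of_tr_mem hm hF (tr_mem_commutator hm hF)

theorem faithful : FaithfulSMul (Cfsg.Sz F m) (Cfsg.suzukiOvoid F m) := by
  refine ⟨fun {g h} he => ?_⟩
  obtain ⟨s, hs⟩ := exists_to hm hF (g := h⁻¹ * g)
    (by rw [mul_smul, he, inv_smul_smul]) (by rw [mul_smul, he, inv_smul_smul])
  have h1 : tor hF s • point (F := F) m 1 0 = point m 1 0 := by
    rw [← hs, mul_smul, he, inv_smul_smul]
  rw [tor_smul_point, mul_one, mul_zero] at h1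
  have h2 := (point_injective h1).1
  have : s = 1 := Units.ext ((theta F m).injective (by rw [Units.val_one, map_one, theta_def]; exact h2))
  rw [this, tor_one, inv_mul_eq_one] at hs
  exact hs.symm

theorem card_stabilizer_pos : 1 < Nat.card (Cfsg.Sz F m) := by
  rw [card_eq hm hF]
  have h8 : 8 ≤ Fintype.card F := by
    rw [hF, show (8 : ℕ) = 2 ^ 3 by norm_num]
    exact Nat.pow_le_pow_right (by norm_num) (by omega)
  have h1 : 0 < Fintype.card F - 1 := by omega
  have h2 : 1 < Fintype.card F ^ 2 := Nat.one_lt_pow two_ne_zero (by omega)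
  calc 1 < Fintype.card F ^ 2 := h2
    _ ≤ _ := by
      rw [mul_assoc]
      exact Nat.le_mul_of_pos_right _ (Nat.mul_pos (by omega) h1)

/-- Diagonal entry at `(1, 1)`, a homomorphism on the stabilizer of infinity. -/
theorem stabilizer_solvable :
    Group.IsSolvable (stabilizer (Cfsg.Sz F m) (infty (F := F) m)) := by
  let e := stabEquiv hm hF
  let χ : stabilizer (Cfsg.Sz F m) (infty (F := F) m) →* Fˣ := MonoidHom.mk' (fun g => (e.symm g).2)
    (fun g h => by
      obtain ⟨⟨⟨a, b⟩, s⟩, rfl⟩ := e.surjective g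
      obtain ⟨⟨⟨c, d⟩, t⟩, rfl⟩ := e.surjective h
      have hmul : e ((a, b), s) * e ((c, d), t) = e ((a + (s : F) ^ 2 ^ (m + 1) * c,
          b + (s : F) ^ 2 ^ (m + 1) * (s : F) ^ 2 * d + a ^ 2 ^ (m + 1) * ((s : F) ^ 2 ^ (m + 1) * c)),
          s * t) := by
        apply Subtype.ext
        show tr hF a b * tor hF s * (tr hF c d * tor hF t) = tr hF _ _ * tor hF (s * t)
        rw [mul_assoc, ← mul_assoc (tor hF s), tor_mul_tr, mul_assoc, ← tor_mul, ← mul_assoc, tr_mul]
      rw [hmul]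
      simp)
  haveI : Fact (Nat.Prime 2) := ⟨Nat.prime_two⟩
  have hker : IsPGroup 2 χ.ker := by
    refine IsPGroup.of_card (n := (2 * m + 1) + (2 * m + 1)) ?_
    have hbij : Function.Bijective (fun p : F × F => (⟨e (p, 1), by simp [χ]⟩ : χ.ker)) := by
      refine ⟨fun p p' h => (Prod.mk.inj (e.injective (congrArg Subtype.val h))).1, fun ⟨g, hg⟩ => ?_⟩
      obtain ⟨⟨p, s⟩, rfl⟩ := e.surjective g
      have hs : s = 1 := by simpa [χ] using hg
      exact ⟨p, by subst hs; rfl⟩
    rw [← Nat.card_eq_of_bijective _ hbij, Nat.card_prod, Nat.card_eq_fintype_card, hF, ← pow_add]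
  haveI := hker.isNilpotent
  exact Group.isSolvable_of_ker_le_range χ.ker.subtype χ (by rw [Subgroup.range_subtype])

theorem isSimple : IsSimpleGroup (Cfsg.Sz F m) := by
  haveI := faithful hm hF
  haveI := pretransitive hF
  haveI : IsPreprimitive (Cfsg.Sz F m) (Cfsg.suzukiOvoid F m) :=
    isPreprimitive_of_is_two_pretransitive (two_transitive hF)
  haveI : Nontrivial (Cfsg.Sz F m) :=
    Finite.one_lt_card_iff_nontrivial.1 (card_stabilizer_pos hm hF)
  refine ⟨fun N hN => ?_⟩
  by_cases hN1 : N = ⊥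
  · exact Or.inl hN1
  refine Or.inr ?_
  obtain ⟨n, hn, hn1⟩ := N.bot_or_exists_ne_one.resolve_left hN1
  have hfix : MulAction.fixedPoints N (Cfsg.suzukiOvoid F m) ≠ Set.univ := by
    intro h
    refine hn1 (eq_of_smul_eq_smul fun p : Cfsg.suzukiOvoid F m => ?_)
    rw [one_smul]
    exact (Set.eq_univ_iff_forall.1 h p) (⟨n, hn⟩ : N)
  haveI : IsPretransitive N (Cfsg.suzukiOvoid F m) :=
    MulAction.IsQuasiPreprimitive.isPretransitive_of_normal hfix
  haveI := stabilizer_solvable hm hF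
  set B := stabilizer (Cfsg.Sz F m) (infty (F := F) m)
  have hsurj : Function.Surjective ((QuotientGroup.mk' N).comp B.subtype) := by
    intro q
    induction q using QuotientGroup.induction_on with
    | H g =>
      obtain ⟨n, hn⟩ := exists_smul_eq N (g • infty (F := F) m) (infty m)
      refine ⟨⟨(n : Cfsg.Sz F m) * g, by rw [mem_stabilizer_iff, mul_smul]; exact hn⟩, ?_⟩
      show (((n : Cfsg.Sz F m) * g : Cfsg.Sz F m) : Cfsg.Sz F m ⧸ N) = _
      rw [QuotientGroup.mk_mul, (QuotientGroup.eq_one_iff _).2 n.2, one_mul]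
  haveI : Group.IsSolvable (Cfsg.Sz F m ⧸ N) := Group.isSolvable_of_surjective hsurj
  by_contra htop
  haveI : Nontrivial (Cfsg.Sz F m ⧸ N) := QuotientGroup.nontrivial_iff.2 htop
  refine (Group.IsSolvable.commutator_lt_top_of_nontrivial (Cfsg.Sz F m ⧸ N)).ne ?_
  rw [commutator_def, ← Subgroup.map_top_of_surjective _ (QuotientGroup.mk'_surjective N),
    ← Subgroup.map_commutator, ← commutator_def, commutator_eq_top hm hF]

end Cfsg.Agent.Suzuki
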