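import Mathlib
import Cfsg.Prelude.Def_KGroupFacts
import Cfsg.Agent.Lib.Suzuki.LieEquiv
import Cfsg.Agent.Lib.AutPSL.Out

/-!
The automorphism group of the Suzuki group: inner and field automorphisms.
-/

set_option autoImplicit false
set_option linter.unusedSectionVars false

namespace Cfsg.Agent.Suzuki

open Matrix MulAction

variable {F : Type*} [Field F] [Fintype F] [CharP F 2] {m : ℕ}
variable (hm : 1 ≤ m) (hF : Fintype.card F = 2 ^ (2 * m + 1))

include hF

theorem map_tr (σ : F ≃+* F) (a b : F) :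
    Matrix.SpecialLinearGroup.map σ.toRingHom (tr hF a b : Cfsg.Sz F m).1 =
      (tr hF (σ a) (σ b) : Cfsg.Sz F m).1 := by
  apply Subtype.ext
  show (transMat m a b).map σ = transMat m (σ a) (σ b)
  ext i j
  fin_cases i <;> fin_cases j <;> simp [transMat, ovf, Matrix.map_apply]

theorem map_tor (σ : F ≃+* F) (s : Fˣ) :
    Matrix.SpecialLinearGroup.map σ.toRingHom (tor hF s : Cfsg.Sz F m).1 =
      (tor hF (Units.map σ.toRingHom.toMonoidHom s) : Cfsg.Sz F m).1 := by
  apply Subtype.ext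
  show (torusMat m s).map σ = torusMat m (Units.map σ.toRingHom.toMonoidHom s)
  ext i j
  fin_cases i <;> fin_cases j <;> simp [torusMat, Matrix.map_apply]

theorem map_sw (σ : F ≃+* F) :
    Matrix.SpecialLinearGroup.map σ.toRingHom (sw hF : Cfsg.Sz F m).1 =
      (sw hF : Cfsg.Sz F m).1 := by
  apply Subtype.ext
  show (swapMat : Matrix (Fin 4) (Fin 4) F).map σ = swapMat
  ext i j
  fin_cases i <;> fin_cases j <;> simp [swapMat, Matrix.map_apply]

include hm in
theorem map_mem (σ : F ≃+* F) {g : SpecialLinearGroup (Fin 4) F} (hg : g ∈ Cfsg.Sz F m) :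
    Matrix.SpecialLinearGroup.map σ.toRingHom g ∈ Cfsg.Sz F m := by
  rcases bruhat hm hF (⟨g, hg⟩ : Cfsg.Sz F m) with ⟨a, b, s, h⟩ | ⟨a, b, c, d, s, h⟩ <;>
    obtain rfl : g = _ := congrArg Subtype.val h
  · rw [Subgroup.coe_mul, map_mul, map_tr hF, map_tor hF]
    exact Subgroup.mul_mem _ (SetLike.coe_mem _) (SetLike.coe_mem _)
  · simp only [Subgroup.coe_mul, map_mul, map_tr hF, map_tor hF, map_sw hF]
    exact Subgroup.mul_mem _ (Subgroup.mul_mem _ (SetLike.coe_mem _) (SetLike.coe_mem _))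
      (Subgroup.mul_mem _ (SetLike.coe_mem _) (SetLike.coe_mem _))

/-- The field automorphism of the Suzuki group. -/
noncomputable def fieldAut : (F ≃+* F) →* MulAut (Cfsg.Sz F m) where
  toFun σ :=
    { toFun := fun g => ⟨Matrix.SpecialLinearGroup.map σ.toRingHom g.1, map_mem hm hF σ g.2⟩
      invFun := fun g => ⟨Matrix.SpecialLinearGroup.map σ.symm.toRingHom g.1,
        map_mem hm hF σ.symm g.2⟩
      left_inv := fun g => Subtype.ext (Subtype.ext (Matrix.ext fun i j => σ.symm_apply_apply _))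
      right_inv := fun g => Subtype.ext (Subtype.ext (Matrix.ext fun i j => σ.apply_symm_apply _))
      map_mul' := fun g h => Subtype.ext (map_mul _ _ _) }
  map_one' := MulEquiv.ext fun g => Subtype.ext (Subtype.ext (Matrix.ext fun i j => rfl))
  map_mul' σ τ := MulEquiv.ext fun g => Subtype.ext (Subtype.ext (Matrix.ext fun i j => rfl))

theorem fieldAut_tr (σ : F ≃+* F) (a b : F) :
    fieldAut hm hF σ (tr hF a b) = tr hF (σ a) (σ b) := Subtype.ext (map_tr hF σ a b)

theorem fieldAut_tor (σ : F ≃+* F) (s : Fˣ) :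
    fieldAut hm hF σ (tor hF s) = tor hF (Units.map σ.toRingHom.toMonoidHom s) :=
  Subtype.ext (map_tor hF σ s)

include hm

theorem exists_theta_units (t : Fˣ) : ∃ s : Fˣ, theta F m (s : F) = t := by
  obtain ⟨y, hy⟩ := exists_theta hF (m := m) (t : F)
  have hy0 : y ≠ 0 := fun e => t.ne_zero (by rw [← hy, e, map_zero])
  exact ⟨Units.mk0 y hy0, hy⟩

theorem tor_free {t : Fˣ} (ht : t ≠ 1) {a b : F}
    (h : (tor hF t * tr hF a b * (tor hF t)⁻¹ : Cfsg.Sz F m) = tr hF a b) : a = 0 ∧ b = 0 := by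
  rw [conj_tr hF] at h
  obtain ⟨h1, h2⟩ := tr_injective hF h
  rw [← theta_def] at h1 h2
  constructor
  · by_contra ha
    have h3 : theta F m (t : F) = 1 := mul_right_cancel₀ ha (h1.trans (one_mul a).symm)
    exact ht (Units.ext ((theta F m).injective (h3.trans (map_one _).symm)))
  · by_contra hb
    have h3 : theta F m (t : F) * (t : F) ^ 2 = 1 := mul_right_cancel₀ hb (h2.trans (one_mul b).symm)
    exact ht (Units.ext (eq_one_of_theta_mul_sq hF h3))

theorem exists_normalised (φ : MulAut (Cfsg.Sz F m)) :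
    ∃ g : Cfsg.Sz F m, (∀ a b, ∃ a' b', (MulAut.conj g * φ) (tr hF a b) = tr hF a' b') ∧
      ∀ s, ∃ t, (MulAut.conj g * φ) (tor hF s) = tor hF t := by
  classical
  haveI : Fact (Nat.Prime 2) := ⟨Nat.prime_two⟩
  haveI := pretransitive (m := m) hF
  obtain ⟨P, hP⟩ := exists_sylow hm hF
  obtain ⟨g, hg⟩ := MulAction.exists_smul_eq (Cfsg.Sz F m)
    (Sylow.ofCard ((P : Subgroup (Cfsg.Sz F m)).map φ.toMonoidHom) (by
      rw [Subgroup.card_map_of_injective φ.injective, P.card_eq_multiplicity])) P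
  have hU : ∀ u ∈ U (m := m) hF, (MulAut.conj g * φ) u ∈ U (m := m) hF := by
    intro u hu
    rw [← hP] at hu ⊢
    have h1 : φ u ∈ (P : Subgroup (Cfsg.Sz F m)).map φ.toMonoidHom :=
      Subgroup.mem_map_of_mem φ.toMonoidHom hu
    rw [← hg, Sylow.coe_subgroup_smul]
    exact Subgroup.smul_mem_pointwise_smul (φ u) (MulAut.conj g) _ h1
  set ψ := MulAut.conj g * φ with hψ
  obtain ⟨z, hz⟩ := IsCyclic.exists_zpow_surjective (G := Fˣ)
  have hz1 : z ≠ 1 := by
    rintro rfl
    obtain ⟨s, hs⟩ := exists_unit_ne_one (F := F) hm hF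
    obtain ⟨k, hk⟩ := hz s
    simp at hk
    exact hs hk.symm
  -- the image of the torus generator fixes infinity
  have hB : ψ (tor hF z) • infty (F := F) m = infty m := by
    obtain ⟨a', b', h'⟩ := hU (tr hF 1 0) ⟨1, 0, rfl⟩
    have hne : a' ≠ 0 ∨ b' ≠ 0 := by
      by_contra hc
      push Not at hc
      rw [hc.1, hc.2, tr_zero, MulEquiv.map_eq_one_iff, ← tr_zero hF] at h'
      exact one_ne_zero (tr_injective hF h').1
    obtain ⟨a'', b'', h''⟩ := hU (tor hF z⁻¹ * tr hF 1 0 * (tor hF z⁻¹)⁻¹)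
      ⟨_, _, conj_tr hF z⁻¹ 1 0⟩
    rw [← tor_inv hF, inv_inv, map_mul, map_mul, map_inv, h'] at h''
    have h1 : ((ψ (tor hF z))⁻¹ * tr hF a' b' * ψ (tor hF z)) • infty (F := F) m = infty m := by
      rw [h'', tr_smul_infty]
    rw [mul_smul, mul_smul, inv_smul_eq_iff] at h1
    rcases cases_point (ψ (tor hF z) • infty (F := F) m) with h3 | ⟨x, y, h3⟩
    · exact h3
    · exfalso
      rw [h3, tr_smul_point] at h1
      obtain ⟨h4, h5⟩ := point_injective h1
      have ha : a' = 0 := by linear_combination h4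
      subst ha
      rw [zero_pow (by positivity), zero_mul, add_zero] at h5
      exact hne.elim (fun e => e rfl) (fun e => e (by linear_combination h5))
  obtain ⟨a, b, t, ht⟩ := exists_tr_to hm hF hB
  have htne : t ≠ 1 := by
    rintro rfl
    rw [tor_one, mul_one] at ht
    -- a translation has order prime to that of a torus element
    have hcop : (Fintype.card Fˣ).Coprime (2 ^ (2 * (2 * m + 1))) := by
      refine Nat.Coprime.pow_right _ (Nat.coprime_two_right.2 ?_)
      rw [Fintype.card_units, hF]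
      exact Nat.Even.sub_odd (Nat.one_le_two_pow) (even_two.pow_of_ne_zero (by omega)) odd_one
    have h1 : (tor hF z : Cfsg.Sz F m) ^ Fintype.card Fˣ = 1 := by
      let torHom : Fˣ →* Cfsg.Sz F m := MonoidHom.mk' (fun s => tor hF s) (tor_mul hF)
      show (torHom z) ^ _ = 1
      rw [← map_pow, pow_card_eq_one, map_one]
    have h2 : (tr hF a b : Cfsg.Sz F m) ^ Fintype.card Fˣ = 1 := by
      rw [← ht, ← map_pow, h1, map_one]
    have h3 : (tr hF a b : Cfsg.Sz F m) ^ (2 ^ (2 * (2 * m + 1))) = 1 := by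
      have hu : (⟨tr hF a b, a, b, rfl⟩ : U (m := m) hF) ^ Nat.card (U (m := m) hF) = 1 :=
        pow_card_eq_one'
      rw [card_U hF, hF, ← pow_mul, mul_comm (2 * m + 1) 2] at hu
      exact congrArg Subtype.val hu
    have h4 := pow_gcd_eq_one.2 ⟨h2, h3⟩
    rw [Nat.Coprime.gcd_eq_one hcop, pow_one, ← ht, MulEquiv.map_eq_one_iff, ← tor_one hF] at h4
    exact hz1 (tor_injective hF h4)
  -- conjugate into the torus by a translation
  have hsurj : ∃ c d, (tr hF c d * tor hF t * (tr hF c d)⁻¹ : Cfsg.Sz F m) = tr hF a b * tor hF t := by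
    let f : F × F → F × F := fun p =>
      (p.1 + (t : F) ^ 2 ^ (m + 1) * p.1,
        p.2 + ((t : F) ^ 2 ^ (m + 1) * (t : F) ^ 2 * (p.2 + p.1 ^ 2 ^ (m + 1) * p.1)) +
          p.1 ^ 2 ^ (m + 1) * ((t : F) ^ 2 ^ (m + 1) * p.1))
    have hf : ∀ p, (tr hF p.1 p.2 * tor hF t * (tr hF p.1 p.2)⁻¹ : Cfsg.Sz F m) =
        tr hF (f p).1 (f p).2 * tor hF t := by
      intro p
      rw [tr_inv, mul_assoc, tor_mul_tr, ← mul_assoc, tr_mul]
    have hinj : Function.Injective f := by
      intro p p' h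
      have h1 : (tr hF p.1 p.2 * tor hF t * (tr hF p.1 p.2)⁻¹ : Cfsg.Sz F m) =
          tr hF p'.1 p'.2 * tor hF t * (tr hF p'.1 p'.2)⁻¹ := by rw [hf, hf, h]
      obtain ⟨x, hx, hx'⟩ : ∃ x : Cfsg.Sz F m, x ∈ U (m := m) hF ∧ (tr hF p'.1 p'.2)⁻¹ * tr hF p.1 p.2 = x :=
        ⟨_, mul_mem (inv_mem ⟨_, _, rfl⟩) ⟨_, _, rfl⟩, rfl⟩
      obtain ⟨u, v, rfl⟩ := hx
      have h2 : (tor hF t * tr hF u v * (tor hF t)⁻¹ : Cfsg.Sz F m) = tr hF u v := by
        rw [← hx', mul_inv_eq_iff_eq_mul]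
        rw [mul_inv_eq_iff_eq_mul] at h1
        simp only [mul_assoc] at h1 ⊢
        rw [h1, inv_mul_cancel_left]
      obtain ⟨rfl, rfl⟩ := tor_free hm hF htne h2
      rw [tr_zero, inv_mul_eq_one] at hx'
      obtain ⟨e1, e2⟩ := tr_injective hF hx'.symm
      exact Prod.ext e1 e2
    obtain ⟨p, hp⟩ := Finite.surjective_of_injective hinj (a, b)
    exact ⟨p.1, p.2, by rw [hf, hp]⟩
  obtain ⟨c, d, hcd⟩ := hsurj
  refine ⟨(tr hF c d)⁻¹ * g, fun a₀ b₀ => ?_, fun s => ?_⟩
  · obtain ⟨a₁, b₁, h₁⟩ := hU (tr hF a₀ b₀) ⟨a₀, b₀, rfl⟩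
    have : (tr hF c d)⁻¹ * tr hF a₁ b₁ * tr hF c d ∈ U (m := m) hF :=
      mul_mem (mul_mem (inv_mem ⟨_, _, rfl⟩) ⟨_, _, rfl⟩) ⟨_, _, rfl⟩
    obtain ⟨a₂, b₂, h₂⟩ := this
    refine ⟨a₂, b₂, ?_⟩
    rw [map_mul, mul_assoc, MulAut.mul_apply, ← hψ, h₁, MulAut.conj_apply, inv_inv, h₂]
  · obtain ⟨k, rfl⟩ := hz s
    refine ⟨t ^ k, ?_⟩
    let torHom : Fˣ →* Cfsg.Sz F m := MonoidHom.mk' (fun s => tor hF s) (tor_mul hF)
    show (MulAut.conj ((tr hF c d)⁻¹ * g) * φ) (torHom (z ^ k)) = torHom (t ^ k)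
    rw [map_zpow, map_zpow, map_zpow]
    congr 1
    show (MulAut.conj ((tr hF c d)⁻¹ * g) * φ) (tor hF z) = tor hF t
    rw [map_mul, mul_assoc, MulAut.mul_apply, ← hψ, ht, MulAut.conj_apply, inv_inv, ← hcd]
    group

omit hm in
theorem tor_swap' (s : Fˣ) : sw hF * tor hF s * sw hF = (tor hF s⁻¹ : Cfsg.Sz F m) := by
  apply Subtype.ext
  apply Subtype.ext
  show swapMat * torusMat m s * swapMat = torusMat m s⁻¹
  ext i j
  fin_cases i <;> fin_cases j <;> simp [swapMat, torusMat, Matrix.mul_apply, Fin.sum_univ_four, Matrix.vecMul_diagonal] <;>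
    ring

theorem eq_one_of_fixes (φ : MulAut (Cfsg.Sz F m)) (hU : ∀ a b, φ (tr hF a b) = tr hF a b)
    (hH : ∀ s, φ (tor hF s) = tor hF s) : φ = 1 := by
  haveI := faithful hm hF
  haveI := pretransitive (m := m) hF
  have hst : ∀ g : Cfsg.Sz F m, g • infty (F := F) m = infty m → φ g = g := by
    intro g hg
    obtain ⟨a, b, s, rfl⟩ := exists_tr_to hm hF hg
    rw [map_mul, hU, hH]
  obtain ⟨s, hs⟩ := exists_unit_ne_one (F := F) hm hF
  have hfix : ∀ p : Cfsg.suzukiOvoid F m, tor hF s • p = p → p = infty m ∨ p = point m 0 0 := by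
    intro p hp
    rcases cases_point p with rfl | ⟨x, y, rfl⟩
    · exact Or.inl rfl
    · right
      have h : (tor hF s * tr hF x y * (tor hF s)⁻¹ : Cfsg.Sz F m) = tr hF x y := by
        rw [conj_tr hF]
        rw [← tr_smul_zero hF x y, ← mul_smul, tor_mul_tr, mul_smul, tor_smul_zero, tr_smul_zero,
          tr_smul_zero] at hp
        obtain ⟨e1, e2⟩ := point_injective hp
        rw [e1, e2]
      obtain ⟨rfl, rfl⟩ := tor_free hm hF hs h
      rfl
  -- the image of the swap sends infinity to zero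
  have hw1 : φ (sw hF) • infty (F := F) m = point m 0 0 := by
    have h1 : tor hF s • (φ (sw hF) • infty (F := F) m) = φ (sw hF) • infty m := by
      rw [← mul_smul, ← hH s, ← map_mul]
      have : (tor hF s * sw hF : Cfsg.Sz F m) = sw hF * tor hF s⁻¹ := by
        rw [← tor_swap' hF s]; simp [← mul_assoc, sw_mul_self hF]
      rw [this, map_mul, mul_smul, hH, tor_smul_infty]
    rcases hfix _ h1 with h | h
    · exfalso
      have h2 := hst _ h
      have h3 : sw hF = φ (sw hF) := (φ.injective (a₁ := φ (sw hF)) (a₂ := sw hF) h2).symm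
      rw [← h3, sw_smul_infty] at h
      exact point_ne_infty 0 0 h
    · exact h
  have hw0 : φ (sw hF) • point (F := F) m 0 0 = infty m := by
    rw [← hw1, ← mul_smul, ← map_mul, sw_mul_self, map_one, one_smul]
  obtain ⟨t, ht⟩ := exists_to hm hF (g := sw hF * φ (sw hF))
    (by rw [mul_smul, hw1, sw_smul_zero]) (by rw [mul_smul, hw0, sw_smul_infty])
  have hw : φ (sw hF) = sw hF * tor hF t := by rw [← ht, ← mul_assoc, sw_mul_self, one_mul]
  have hpts : ∀ (g : Cfsg.Sz F m), φ g • infty (F := F) m = g • infty m := by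
    intro g
    rcases bruhat hm hF g with ⟨a, b, s, rfl⟩ | ⟨a, b, c, d, s, rfl⟩
    · rw [map_mul, hU, hH]
    · rw [map_mul, map_mul, map_mul, hU, hU, hH, hw]
      simp only [mul_smul, tor_smul_infty, tr_smul_infty]
  refine MulEquiv.ext fun g => FaithfulSMul.eq_of_smul_eq_smul fun p : Cfsg.suzukiOvoid F m => ?_
  obtain ⟨h, rfl⟩ := exists_to_infty hF p
  rw [← hpts h, ← mul_smul, ← map_mul, hpts, hpts, mul_smul]
  rfl

theorem exists_inner_field (φ : MulAut (Cfsg.Sz F m)) :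
    ∃ (g : Cfsg.Sz F m) (σ : F ≃+* F), φ = MulAut.conj g * fieldAut hm hF σ := by
  obtain ⟨g, hU, hH⟩ := exists_normalised hm hF φ
  set ψ := MulAut.conj g * φ with hψ
  choose f0 h0 hfh using fun a => hU a 0
  have hf0ne : f0 1 ≠ 0 := by
    intro e
    have hsq : ∀ x y : F, (tr hF x y * tr hF x y : Cfsg.Sz F m) = tr hF 0 (x ^ 2 ^ (m + 1) * x) := by
      intro x y
      rw [tr_mul, CharTwo.add_self_eq_zero, CharTwo.add_self_eq_zero, zero_add]
    have h1 := congrArg ψ (hsq 1 0)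
    rw [map_mul, hfh, hsq, e, zero_pow (by positivity), zero_mul, tr_zero, eq_comm,
      MulEquiv.map_eq_one_iff, ← tr_zero hF] at h1
    exact one_ne_zero (by simpa using (tr_injective hF h1).2 : (1 : F) = 0)
  obtain ⟨c, hc⟩ := exists_theta_units hm hF (Units.mk0 _ hf0ne)⁻¹
  set ψ₁ := MulAut.conj (tor hF c) * ψ with hψ₁
  have hU1 : ∀ a b, ∃ a' b', ψ₁ (tr hF a b) = tr hF a' b' := by
    intro a b
    obtain ⟨a', b', h⟩ := hU a b
    exact ⟨_, _, by rw [hψ₁, MulAut.mul_apply, h, MulAut.conj_apply, conj_tr hF]⟩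
  have hH1 : ∀ s, ∃ t, ψ₁ (tor hF s) = tor hF t := by
    intro s
    obtain ⟨t, h⟩ := hH s
    refine ⟨t, ?_⟩
    rw [hψ₁, MulAut.mul_apply, h, MulAut.conj_apply, ← tor_mul, tor_inv, ← tor_mul,
      mul_comm c t, mul_inv_cancel_right]
  choose f h hf using fun a => hU1 a 0
  choose τ hτ using hH1
  have hf1 : f 1 = 1 := by
    have e : ψ₁ (tr hF 1 0) = tr hF ((c : F) ^ 2 ^ (m + 1) * f0 1)
        ((c : F) ^ 2 ^ (m + 1) * (c : F) ^ 2 * h0 1) := by
      rw [hψ₁, MulAut.mul_apply, hfh, MulAut.conj_apply, conj_tr hF]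
    rw [hf] at e
    rw [(tr_injective hF e).1, ← theta_def, hc, Units.val_inv_eq_inv_val, Units.val_mk0,
      inv_mul_cancel₀ hf0ne]
  have hψz : ∀ b, ∃ b', ψ₁ (tr hF 0 b) = tr hF 0 b' := by
    intro b
    obtain ⟨x, hx⟩ := (Finite.surjective_of_injective (f := fun x : F => theta F m x * x) (by
      intro x y e
      simp only at e
      by_cases hy : y = 0
      · subst hy
        rw [map_zero, zero_mul, mul_eq_zero] at e
        exact e.elim (fun e => (map_eq_zero (theta F m)).1 e) id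
      · refine (div_eq_one_iff_eq hy).1 (eq_one_of_theta_mul hF ?_)
        rw [map_div₀, div_mul_div_comm, e, div_self (mul_ne_zero ((map_ne_zero _).2 hy) hy)])) b
    refine ⟨f x ^ 2 ^ (m + 1) * f x, ?_⟩
    have e : (tr hF x 0 * tr hF x 0 : Cfsg.Sz F m) = tr hF 0 b := by
      rw [tr_mul, CharTwo.add_self_eq_zero, add_zero, zero_add, ← theta_def]
      exact congrArg _ hx
    rw [← e, map_mul, hf, tr_mul, CharTwo.add_self_eq_zero, CharTwo.add_self_eq_zero, zero_add]
  have hfadd : ∀ x y, f (x + y) = f x + f y := by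
    intro x y
    have e : (tr hF x 0 * tr hF y 0 : Cfsg.Sz F m) =
        tr hF (x + y) 0 * tr hF 0 (x ^ 2 ^ (m + 1) * y) := by
      rw [tr_mul, tr_mul]; simp
    obtain ⟨b', hb'⟩ := hψz (x ^ 2 ^ (m + 1) * y)
    have e' := congrArg ψ₁ e
    rw [map_mul, map_mul, hf, hf, hf, hb', tr_mul, tr_mul] at e'
    simpa using ((tr_injective hF e').1).symm
  have hfscale : ∀ (s : Fˣ) a, f (theta F m (s : F) * a) = theta F m (τ s : F) * f a := by
    intro s a
    have e := congrArg ψ₁ (conj_tr hF s a 0)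
    rw [map_mul, map_mul, map_inv, hτ, hf, conj_tr hF, mul_zero, hf, ← theta_def, ← theta_def] at e
    exact (tr_injective hF e).1.symm
  have hfmul : ∀ x y, f (x * y) = f x * f y := by
    intro x y
    by_cases hx : x = 0
    · subst hx
      have h00 : f 0 = 0 := by
        have := hfadd 0 0
        rw [add_zero] at this
        simpa using this
      rw [zero_mul, h00, zero_mul]
    · obtain ⟨s, hs⟩ := exists_theta_units hm hF (Units.mk0 x hx)
      rw [Units.val_mk0] at hs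
      rw [← hs, hfscale]
      have := hfscale s 1
      rw [mul_one, hf1, mul_one] at this
      rw [this]
  let fhom : F →+* F :=
    { toFun := f, map_one' := hf1, map_mul' := hfmul
      map_zero' := by simpa using hfadd 0 0
      map_add' := hfadd }
  let σ : F ≃+* F := RingEquiv.ofBijective fhom
    ⟨fhom.injective, Finite.surjective_of_injective fhom.injective⟩
  have hσ : ∀ x, σ x = f x := fun x => rfl
  set χ := (fieldAut hm hF σ)⁻¹ * ψ₁ with hχ
  have hsymm : ∀ a b, (fieldAut hm hF σ)⁻¹ (tr hF a b) = tr hF (σ.symm a) (σ.symm b) := by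
    intro a b
    rw [← map_inv, fieldAut_tr]
    rfl
  have hχH : ∀ s, χ (tor hF s) = tor hF s := by
    intro s
    rw [hχ, MulAut.mul_apply, hτ, ← map_inv, fieldAut_tor]
    congr 1
    apply Units.ext
    show σ.symm (τ s : F) = s
    rw [RingEquiv.symm_apply_eq, hσ]
    have h1 := hfscale s 1
    rw [mul_one, hf1, mul_one] at h1
    apply (theta F m).injective
    rw [← h1]
    show f _ = theta F m (f _)
    rw [theta_def, theta_def]
    exact map_pow fhom _ _
  have hχa : ∀ a, χ (tr hF a 0) = tr hF a (σ.symm (h a)) := fun a => by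
    rw [hχ, MulAut.mul_apply, hf, hsymm, ← hσ, RingEquiv.symm_apply_apply]
  have hγ : ∀ b : F, ∃ x, theta F m x * x = b := fun b => by
    obtain ⟨x, hx⟩ := (Finite.surjective_of_injective (f := fun x : F => theta F m x * x) (by
      intro x y e
      simp only at e
      by_cases hy : y = 0
      · subst hy
        rw [map_zero, zero_mul, mul_eq_zero] at e
        exact e.elim (fun e => (map_eq_zero (theta F m)).1 e) id
      · refine (div_eq_one_iff_eq hy).1 (eq_one_of_theta_mul hF ?_)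
        rw [map_div₀, div_mul_div_comm, e, div_self (mul_ne_zero ((map_ne_zero _).2 hy) hy)])) b
    exact ⟨x, hx⟩
  have hχz : ∀ b, χ (tr hF 0 b) = tr hF 0 b := by
    intro b
    obtain ⟨x, rfl⟩ := hγ b
    have e : ∀ y, (tr hF x y * tr hF x y : Cfsg.Sz F m) = tr hF 0 (theta F m x * x) := by
      intro y
      rw [tr_mul, CharTwo.add_self_eq_zero, CharTwo.add_self_eq_zero, zero_add, theta_def]
    rw [← e 0, map_mul, hχa, e, e]
  set η : F → F := fun a => σ.symm (h a) with hη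
  have hηscale : ∀ (s : Fˣ) a, η (theta F m (s : F) * a) = theta F m (s : F) * (s : F) ^ 2 * η a := by
    intro s a
    have e := congrArg χ (conj_tr hF s a 0)
    rw [map_mul, map_mul, map_inv, hχH, hχa, conj_tr hF, mul_zero, hχa, ← theta_def] at e
    exact (tr_injective hF e).2.symm
  have hηadd : ∀ x y, η (x + y) = η x + η y := by
    intro x y
    have e : (tr hF x 0 * tr hF y 0 : Cfsg.Sz F m) =
        tr hF (x + y) 0 * tr hF 0 (x ^ 2 ^ (m + 1) * y) := by
      rw [tr_mul, tr_mul]; simp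
    have e' := congrArg χ e
    rw [map_mul, map_mul, hχa, hχa, hχa, hχz, tr_mul, tr_mul] at e'
    have e2 := (tr_injective hF e').2
    simp only [mul_zero, add_zero, hη] at e2 ⊢
    linear_combination -e2
  have hη0 : ∀ a, η a = 0 := by
    have hform : ∀ x, η x = η 1 * (theta F m x * x) := by
      intro x
      by_cases hx : x = 0
      · subst hx
        have : η 0 = 0 := by simpa using hηadd 0 0
        rw [this, map_zero, zero_mul, mul_zero]
      · obtain ⟨s, hs⟩ := exists_theta_units hm hF (Units.mk0 x hx)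
        rw [Units.val_mk0] at hs
        have e := hηscale s 1
        rw [mul_one] at e
        rw [← hs, e, theta_theta hF]
        ring
    obtain ⟨s, hs⟩ := exists_unit_ne_one (F := F) hm hF
    have e := hηadd 1 (s : F)
    rw [hform (1 + (s : F)), hform (s : F), map_add, map_one] at e
    have e2 : η 1 * (theta F m (s : F) + s) = 0 := by
      have h2 : (2 : F) = 0 := CharTwo.two_eq_zero
      linear_combination e
    intro a
    rw [hform]
    rcases mul_eq_zero.1 e2 with e3 | e3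
    · rw [e3, zero_mul]
    · exfalso
      rcases eq_zero_or_one_of_theta hF (CharTwo.add_eq_zero.1 e3) with e4 | e4
      · exact s.ne_zero e4
      · exact hs (Units.ext e4)
  have hχ1 : χ = 1 := eq_one_of_fixes hm hF χ (fun a b => by
    have e : (tr hF a b : Cfsg.Sz F m) = tr hF a 0 * tr hF 0 b := by rw [tr_mul]; simp
    rw [e, map_mul, hχz, hχa, show σ.symm (h a) = 0 from hη0 a]) hχH
  rw [hχ, inv_mul_eq_one, hψ₁, hψ, ← mul_assoc, ← map_mul] at hχ1
  exact ⟨(tor hF c * g)⁻¹, σ, by rw [hχ1, ← mul_assoc, ← map_mul, inv_mul_cancel, map_one, one_mul]⟩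

theorem fieldAut_inner {σ : F ≃+* F} {g : Cfsg.Sz F m}
    (h : fieldAut hm hF σ = MulAut.conj g) : σ = 1 := by
  haveI := pretransitive (m := m) hF
  have h1 : ∀ a b, g * tr hF a b * g⁻¹ = tr hF (σ a) (σ b) := fun a b => by
    rw [← fieldAut_tr hm hF, h, MulAut.conj_apply]
  have hgi : g • infty (F := F) m = infty m := by
    apply tr_fixes_only_infty hF
    have e : tr hF 1 0 = g * tr hF (σ.symm 1) (σ.symm 0) * g⁻¹ := by
      rw [h1, RingEquiv.apply_symm_apply, RingEquiv.apply_symm_apply]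
    rw [e, mul_smul, inv_smul_smul, mul_smul, tr_smul_infty]
  obtain ⟨a, b, t, rfl⟩ := exists_tr_to hm hF hgi
  have hs : ∀ x, theta F m (t : F) * x = σ x := by
    intro x
    have e := h1 x 0
    rw [show tr hF a b * tor hF t * tr hF x 0 * (tr hF a b * tor hF t)⁻¹ =
      tr hF a b * (tor hF t * tr hF x 0 * (tor hF t)⁻¹) * (tr hF a b)⁻¹ by group,
      conj_tr hF, tr_inv, tr_mul, tr_mul, ← theta_def (t : F)] at e
    have e1 := (tr_injective hF e).1
    linear_combination e1 - a * (CharTwo.two_eq_zero : (2 : F) = 0)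
  refine RingEquiv.ext fun x => ?_
  have e := hs 1
  rw [map_one, mul_one] at e
  rw [← hs x, e, one_mul]
  rfl

theorem card_out : Nat.card (Cfsg.Out (Cfsg.Sz F m)) = 2 * m + 1 := by
  haveI : Fact (Nat.Prime 2) := ⟨Nat.prime_two⟩
  obtain ⟨e⟩ := Cfsg.Agent.AutPSL.Out.exists_ringAut_equiv (p := 2) (f := 2 * m + 1) hF
  rw [← Nat.card_zmod (2 * m + 1), ← Nat.card_congr (Multiplicative.toAdd (α := ZMod (2 * m + 1))),
    ← Nat.card_congr e.toEquiv]
  let π : (F ≃+* F) →* Cfsg.Out (Cfsg.Sz F m) :=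
    (QuotientGroup.mk' _).comp (fieldAut hm hF)
  refine (Nat.card_congr (Equiv.ofBijective π ⟨?_, ?_⟩)).symm
  · rw [← MonoidHom.ker_eq_bot_iff, eq_bot_iff]
    intro σ hσ
    obtain ⟨g, hg⟩ := (QuotientGroup.eq_one_iff _).1 (MonoidHom.mem_ker.1 hσ)
    exact fieldAut_inner hm hF hg.symm
  · intro x
    obtain ⟨φ, rfl⟩ := QuotientGroup.mk_surjective x
    obtain ⟨g, σ, rfl⟩ := exists_inner_field hm hF φ
    refine ⟨σ, ?_⟩
    show (QuotientGroup.mk (fieldAut hm hF σ) : Cfsg.Out (Cfsg.Sz F m)) = _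
    rw [QuotientGroup.mk_mul, (QuotientGroup.eq_one_iff (N := Cfsg.Inn (Cfsg.Sz F m)) (MulAut.conj g)).2 ⟨g, rfl⟩, one_mul]

omit hm in
theorem out_congr {G H : Type*} [Group G] [Group H] (e : G ≃* H) :
    Nat.card (MulAut G ⧸ Cfsg.Inn G) = Nat.card (MulAut H ⧸ Cfsg.Inn H) := by
  refine Nat.card_congr (QuotientGroup.congr (Cfsg.Inn G) (Cfsg.Inn H) (MulAut.congr e) ?_).toEquiv
  ext φ
  constructor
  · rintro ⟨_, ⟨g, rfl⟩, rfl⟩
    exact ⟨e g, MulEquiv.ext fun x => by simp [MulAut.congr]⟩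
  · rintro ⟨g, rfl⟩
    exact ⟨MulAut.conj (e.symm g), ⟨_, rfl⟩, MulEquiv.ext fun x => by simp [MulAut.congr]⟩

end Cfsg.Agent.Suzuki
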