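import Cfsg.Agent.Lib.Suzuki.Partition
import Cfsg.Agent.OddLocal.Coprime

/-!
# Covers of the Suzuki group by proper subgroups
-/

set_option autoImplicit false
set_option linter.unusedSectionVars false

namespace Cfsg.Agent.Suzuki

open Matrix MulAction

variable {F : Type*} [Field F] [Fintype F] [CharP F 2] {m : ℕ}
variable (hm : 1 ≤ m) (hF : Fintype.card F = 2 ^ (2 * m + 1))

include hm hF

/-- Each nilpotent subgroup containing `g` fixes the fixed points of `g`. -/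
theorem nilpotent_fixes {A : Subgroup (Cfsg.Sz F m)} (hA : Group.IsNilpotent A) {g : Cfsg.Sz F m}
    (hg : g ∈ A) (hg1 : g ≠ 1) {p : Cfsg.suzukiOvoid F m} (hp : g • p = p) {a : Cfsg.Sz F m}
    (ha : a ∈ A) : a • p = p := by
  haveI := hA
  haveI : Nontrivial A := ⟨⟨⟨g, hg⟩, 1, fun e => hg1 (congrArg Subtype.val e)⟩⟩
  haveI : Nontrivial (Subgroup.center A) := Subgroup.nontrivial_iff_ne_bot _ |>.2 fun h =>
    Cfsg.Agent.OddLocal.Coprime.inf_center_ne_bot (N := (⊤ : Subgroup A)) inferInstance top_ne_bot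
      (by rw [top_inf_eq, h])
  obtain ⟨⟨z, hz⟩, hz1⟩ := exists_ne (1 : Subgroup.center A)
  have hcomm : ∀ b ∈ A, b * (z : Cfsg.Sz F m) = (z : Cfsg.Sz F m) * b := fun b hb =>
    congrArg Subtype.val (Subgroup.mem_center_iff.1 hz ⟨b, hb⟩)
  refine fixed_of_commute hm hF (g := (z : Cfsg.Sz F m)) ?_ (hcomm a ha) ?_
  · exact fun e => hz1 (Subtype.ext (Subtype.ext e))
  · exact fixed_of_commute hm hF hg1 (hcomm g hg).symm hp

/-- The Suzuki group has no minimal cover by nilpotent subgroups. -/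
theorem no_nilpotent_minimal_cover :
    ¬ ∃ 𝓐 : Finset (Subgroup (Cfsg.Sz F m)),
      ((∀ A ∈ 𝓐, A ≠ ⊤) ∧ ∀ g : Cfsg.Sz F m, ∃ A ∈ 𝓐, g ∈ A) ∧
      (∀ 𝓑 : Finset (Subgroup (Cfsg.Sz F m)),
        (∀ A ∈ 𝓑, A ≠ ⊤) ∧ (∀ g : Cfsg.Sz F m, ∃ A ∈ 𝓑, g ∈ A) → 𝓐.card ≤ 𝓑.card) ∧
      ∀ A ∈ 𝓐, Group.IsNilpotent A := by
  classical
  rintro ⟨𝓐, ⟨hprop, hcov⟩, hmin, hnil⟩
  haveI : Finite (Cfsg.suzukiOvoid F m) := Nat.finite_of_card_ne_zero (by rw [ovoid_equiv hF]; omega)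
  haveI := Fintype.ofFinite (Cfsg.suzukiOvoid F m)
  let P : Subgroup (Cfsg.Sz F m) → Prop := fun A => ∀ a ∈ A, a ≠ 1 → FPF a
  obtain ⟨g₀, -, hg₀, -⟩ := exists_two_tori hm hF
  -- the competing cover
  have hB := hmin ((Finset.univ : Finset (Cfsg.suzukiOvoid F m)).image
      (fun p => stabilizer (Cfsg.Sz F m) p) ∪ 𝓐.filter P) ⟨?_, ?_⟩
  rotate_left
  · intro A hA
    rcases Finset.mem_union.1 hA with hA | hA
    · obtain ⟨p, -, rfl⟩ := Finset.mem_image.1 hA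
      exact fun e => hg₀ p (mem_stabilizer_iff.1 (e ▸ Subgroup.mem_top g₀))
    · exact hprop A (Finset.mem_filter.1 hA).1
  · intro g
    by_cases hf : FPF g
    · obtain ⟨A, hA, hgA⟩ := hcov g
      refine ⟨A, Finset.mem_union_right _ (Finset.mem_filter.2 ⟨hA, fun a ha ha1 p hp => ?_⟩), hgA⟩
      exact hf p (nilpotent_fixes hm hF (hnil A hA) ha ha1 hp hgA)
    · simp only [FPF, not_forall, not_not] at hf
      obtain ⟨p, hp⟩ := hf
      exact ⟨_, Finset.mem_union_left _ (Finset.mem_image.2 ⟨p, Finset.mem_univ _, rfl⟩), hp⟩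
  -- many members fix a point
  haveI := pretransitive (m := m) hF
  have hu : ∀ p : Cfsg.suzukiOvoid F m, ∃ u : Cfsg.Sz F m, u ≠ 1 ∧ u • p = p ∧
      ∀ p', u • p' = p' → p' = p := by
    intro p
    obtain ⟨h, hh⟩ := MulAction.exists_smul_eq (Cfsg.Sz F m) (infty (F := F) m) p
    refine ⟨h * tr hF 1 0 * h⁻¹, fun e => ?_, ?_, fun p' hp' => ?_⟩
    · rw [conj_eq_one_iff, ← tr_zero hF] at e
      exact one_ne_zero (tr_injective hF e).1
    · rw [mul_smul, mul_smul, ← hh, inv_smul_smul, tr_smul_infty]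
    · rw [mul_smul, mul_smul, ← eq_inv_smul_iff (g := h)] at hp'
      rw [← hh, ← eq_infty_of_tr_fixed hF (Or.inl one_ne_zero) hp', smul_inv_smul]
  choose u hu1 hup hu_only using hu
  obtain ⟨s, hs⟩ := exists_unit_ne_one (F := F) hm hF
  have ht1 : (tor hF s : Cfsg.Sz F m) ≠ 1 := fun e => hs (tor_injective hF (e.trans (tor_one hF).symm))
  choose A hA hgA using hcov
  let φ : Option (Cfsg.suzukiOvoid F m) → Subgroup (Cfsg.Sz F m) := fun o =>
    o.elim (A (tor hF s)) fun p => A (u p)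
  have hne : ∀ p, A (tor hF s) ≠ A (u p) := by
    intro p e
    have hmem : u p ∈ A (tor hF s) := e ▸ hgA (u p)
    have h1 := hu_only p _ (nilpotent_fixes hm hF (hnil _ (hA _)) (hgA _) ht1 (tor_smul_infty hF s) hmem)
    have h2 := hu_only p _ (nilpotent_fixes hm hF (hnil _ (hA _)) (hgA _) ht1 (tor_smul_zero hF s) hmem)
    exact point_ne_infty (F := F) (m := m) 0 0 (h2.trans h1.symm)
  have hφ : Function.Injective φ := by
    rintro (_ | p) (_ | p') h
    · rfl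
    · exact absurd h (hne p')
    · exact absurd h.symm (hne p)
    · have h' : A (u p) = A (u p') := h
      have hmem : u p' ∈ A (u p) := h' ▸ hgA (u p')
      rw [hu_only p' p (nilpotent_fixes hm hF (hnil _ (hA _)) (hgA _) (hu1 p) (hup p) hmem)]
  have hsub : (Finset.univ.image φ) ⊆ 𝓐.filter fun A => ¬ P A := by
    intro B hB'
    obtain ⟨o, -, rfl⟩ := Finset.mem_image.1 hB'
    rcases o with _ | p
    · exact Finset.mem_filter.2 ⟨hA _, fun h => h _ (hgA _) ht1 _ (tor_smul_infty hF s)⟩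
    · exact Finset.mem_filter.2 ⟨hA _, fun h => h _ (hgA _) (hu1 p) _ (hup p)⟩
  have h1 := Finset.card_le_card hsub
  rw [Finset.card_image_of_injective _ hφ, Finset.card_univ, Fintype.card_option] at h1
  have h2 := Finset.card_filter_add_card_filter_not (s := 𝓐) P
  have h3 := (Finset.card_union_le ((Finset.univ : Finset (Cfsg.suzukiOvoid F m)).image
    (fun p => stabilizer (Cfsg.Sz F m) p)) (𝓐.filter P))
  have h4 := Finset.card_image_le (s := (Finset.univ : Finset (Cfsg.suzukiOvoid F m)))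
    (f := fun p => stabilizer (Cfsg.Sz F m) p)
  rw [Finset.card_univ] at h4
  omega

/-- The statement transported to an isomorphic group. -/
theorem no_nilpotent_minimal_cover' {G : Type*} [Group G] (e : Cfsg.Sz F m ≃* G) :
    ¬ ∃ 𝓐 : Finset (Subgroup G), ((∀ A ∈ 𝓐, A ≠ ⊤) ∧ ∀ g : G, ∃ A ∈ 𝓐, g ∈ A) ∧
      (∀ 𝓑 : Finset (Subgroup G), (∀ A ∈ 𝓑, A ≠ ⊤) ∧ (∀ g : G, ∃ A ∈ 𝓑, g ∈ A) → 𝓐.card ≤ 𝓑.card) ∧
      ∀ A ∈ 𝓐, Group.IsNilpotent A := by
  classical
  rintro ⟨𝓐, ⟨hprop, hcov⟩, hmin, hnil⟩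
  let ι : Subgroup (Cfsg.Sz F m) ≃o Subgroup G := e.mapSubgroup
  refine no_nilpotent_minimal_cover hm hF ⟨𝓐.image ι.symm, ⟨?_, ?_⟩, ?_, ?_⟩
  · intro A hA
    obtain ⟨B, hB, rfl⟩ := Finset.mem_image.1 hA
    exact fun h => hprop B hB ((map_eq_top_iff ι.symm).1 h)
  · intro g
    obtain ⟨B, hB, hgB⟩ := hcov (e g)
    refine ⟨_, Finset.mem_image_of_mem _ hB, ?_⟩
    show g ∈ B.map e.symm.toMonoidHom
    exact ⟨e g, hgB, e.symm_apply_apply g⟩
  · rintro 𝓑 ⟨h1, h2⟩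
    rw [Finset.card_image_of_injective _ ι.symm.injective,
      ← Finset.card_image_of_injective 𝓑 ι.injective]
    refine hmin _ ⟨?_, ?_⟩
    · intro A hA
      obtain ⟨B, hB, rfl⟩ := Finset.mem_image.1 hA
      exact fun h => h1 B hB ((map_eq_top_iff ι).1 h)
    · intro g
      obtain ⟨B, hB, hgB⟩ := h2 (e.symm g)
      exact ⟨_, Finset.mem_image_of_mem _ hB, ⟨e.symm g, hgB, e.apply_symm_apply g⟩⟩
  · intro A hA
    obtain ⟨B, hB, rfl⟩ := Finset.mem_image.1 hA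
    haveI := hnil B hB
    show Group.IsNilpotent (B.map e.symm.toMonoidHom)
    exact Group.nilpotent_of_mulEquiv (B.equivMapOfInjective e.symm.toMonoidHom e.symm.injective)

end Cfsg.Agent.Suzuki
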