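import Cfsg.Agent.Lib.Suzuki.TorusType
import Cfsg.Agent.Lib.Suzuki.Covers

/-!
# Subfield subgroups of the Suzuki groups
-/

set_option autoImplicit false
set_option linter.unusedSectionVars false

namespace Cfsg.Agent.Suzuki

open Matrix MulAction

variable {F : Type*} [Field F] [Fintype F] [CharP F 2] {m : ℕ}
variable {K : Type*} [Field K] [Fintype K] [CharP K 2] {k : ℕ}
variable (hm : 1 ≤ m) (hF : Fintype.card F = 2 ^ (2 * m + 1))
variable (hk : 1 ≤ k) (hK : Fintype.card K = 2 ^ (2 * k + 1)) (hdiv : 2 * k + 1 ∣ 2 * m + 1)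

include hdiv in
theorem exists_ringHom (hF : Fintype.card F = 2 ^ (2 * m + 1))
    (hK : Fintype.card K = 2 ^ (2 * k + 1)) : Nonempty (K →+* F) := by
  haveI : Fact (Nat.Prime 2) := ⟨Nat.prime_two⟩
  letI : Algebra (ZMod 2) F := ZMod.algebra F 2
  letI : Algebra (ZMod 2) K := ZMod.algebra K 2
  have hfrF : Module.finrank (ZMod 2) F = 2 * m + 1 := by
    refine Nat.pow_right_injective le_rfl ?_
    show 2 ^ Module.finrank (ZMod 2) F = 2 ^ (2 * m + 1)
    rw [← hF, ← Nat.card_eq_fintype_card, Module.natCard_eq_pow_finrank (K := ZMod 2) (V := F),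
      Nat.card_zmod]
  have hfrK : Module.finrank (ZMod 2) K = 2 * k + 1 := by
    refine Nat.pow_right_injective le_rfl ?_
    show 2 ^ Module.finrank (ZMod 2) K = 2 ^ (2 * k + 1)
    rw [← hK, ← Nat.card_eq_fintype_card, Module.natCard_eq_pow_finrank (K := ZMod 2) (V := K),
      Nat.card_zmod]
  obtain ⟨φ⟩ := FiniteField.nonempty_algHom_of_finrank_dvd (F := ZMod 2) (K := K) (L := F)
    (by rw [hfrF, hfrK]; exact hdiv)
  exact ⟨φ.toRingHom⟩

include hdiv in
/-- The twisting endomorphisms are compatible. -/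
theorem theta_map (φ : K →+* F) (hK : Fintype.card K = 2 ^ (2 * k + 1)) (x : K) :
    φ (theta K k x) = theta F m (φ x) := by
  obtain ⟨d, hd⟩ := hdiv
  obtain ⟨j, hj⟩ : ∃ j, d = 2 * j + 1 := by
    rcases Nat.even_or_odd d with ⟨j, hj⟩ | ⟨j, hj⟩
    · rw [hj] at hd; exfalso
      have : (2 * k + 1) * (j + j) = 2 * ((2 * k + 1) * j) := by ring
      omega
    · exact ⟨j, hj⟩
  have he : m + 1 = k + 1 + (2 * k + 1) * j := by
    have h : (2 * k + 1) * (2 * j + 1) = 2 * ((2 * k + 1) * j) + (2 * k + 1) := by ring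
    rw [hj, h] at hd
    omega
  have e2 : 2 ^ (m + 1) = 2 ^ (k + 1) * (2 ^ (2 * k + 1)) ^ j := by rw [he, pow_add, pow_mul]
  rw [theta_def, theta_def, ← map_pow, e2, pow_mul x, ← hK, FiniteField.pow_card_pow]

theorem theta_mul_injective (hF : Fintype.card F = 2 ^ (2 * m + 1)) :
    Function.Injective (fun a : F => theta F m a * a) := by
  intro x y e
  have e' : theta F m x * x = theta F m y * y := e
  by_cases hy : y = 0
  · subst hy
    rw [mul_zero, mul_eq_zero, map_eq_zero, or_self] at e'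
    exact e'
  · have h0 : theta F m y ≠ 0 := (map_ne_zero _).2 hy
    refine (div_eq_one_iff_eq hy).1 (eq_one_of_theta_mul hF (m := m) ?_)
    rw [map_div₀]
    field_simp
    linear_combination e'

theorem theta_mul_sq_injective (hF : Fintype.card F = 2 ^ (2 * m + 1)) :
    Function.Injective (fun a : F => theta F m a * a ^ 2) := by
  intro x y e
  have e' : theta F m x * x ^ 2 = theta F m y * y ^ 2 := e
  by_cases hy : y = 0
  · subst hy
    rw [map_zero, zero_mul, mul_eq_zero, map_eq_zero, pow_eq_zero_iff two_ne_zero, or_self] at e'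
    exact e'
  · have h0 : theta F m y ≠ 0 := (map_ne_zero _).2 hy
    refine (div_eq_one_iff_eq hy).1 (eq_one_of_theta_mul_sq hF (m := m) ?_)
    rw [map_div₀]
    field_simp
    linear_combination e'

section map

variable (φ : K →+* F)

include hm hF hk hK hdiv

theorem map_generators :
    (∀ a b : K, SpecialLinearGroup.map φ ((tr hK a b : Cfsg.Sz K k) : SpecialLinearGroup (Fin 4) K) =
      ((tr hF (φ a) (φ b) : Cfsg.Sz F m) : SpecialLinearGroup (Fin 4) F)) ∧
    (∀ s : Kˣ, SpecialLinearGroup.map φ ((tor hK s : Cfsg.Sz K k) : SpecialLinearGroup (Fin 4) K) =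
      ((tor hF (Units.map φ.toMonoidHom s) : Cfsg.Sz F m) : SpecialLinearGroup (Fin 4) F)) ∧
    SpecialLinearGroup.map φ ((sw hK : Cfsg.Sz K k) : SpecialLinearGroup (Fin 4) K) =
      ((sw hF : Cfsg.Sz F m) : SpecialLinearGroup (Fin 4) F) := by
  have hth : ∀ x : K, φ (x ^ 2 ^ (k + 1)) = (φ x) ^ 2 ^ (m + 1) := fun x => by
    rw [← theta_def, ← theta_def]; exact theta_map hdiv φ hK x
  have hth2 : ∀ x : K, φ (x ^ (2 ^ (k + 1) + 2)) = (φ x) ^ (2 ^ (m + 1) + 2) := fun x => by
    rw [pow_add x, map_mul, hth, map_pow, ← pow_add (φ x)]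
  refine ⟨fun a b => ?_, fun s => ?_, ?_⟩
  · refine Subtype.ext (Matrix.ext fun i j => ?_)
    show φ (transMat k a b i j) = transMat m (φ a) (φ b) i j
    fin_cases i <;> fin_cases j <;> simp [transMat, ovf, hth, hth2, map_mul, map_add, -map_pow]
  · refine Subtype.ext (Matrix.ext fun i j => ?_)
    show φ (torusMat k s i j) = torusMat m (Units.map φ.toMonoidHom s) i j
    fin_cases i <;> fin_cases j <;> simp [torusMat, hth, map_mul, map_inv₀, -map_pow]
  · refine Subtype.ext (Matrix.ext fun i j => ?_)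
    show φ (swapMat i j) = swapMat i j
    fin_cases i <;> fin_cases j <;> simp [swapMat]

theorem subfieldMap_mem (g : Cfsg.Sz K k) :
    SpecialLinearGroup.map φ (g : SpecialLinearGroup (Fin 4) K) ∈ Cfsg.Sz F m := by
  obtain ⟨h1, h2, h3⟩ := map_generators hm hF hk hK hdiv φ
  rcases bruhat hk hK g with ⟨a, b, s, rfl⟩ | ⟨a, b, c, d, s, rfl⟩
  · rw [Subgroup.coe_mul, map_mul, h1, h2]
    exact mul_mem (Subtype.prop _) (Subtype.prop _)
  · rw [Subgroup.coe_mul, Subgroup.coe_mul, Subgroup.coe_mul, map_mul, map_mul, map_mul, h1, h1, h2, h3]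
    exact mul_mem (mul_mem (Subtype.prop _) (Subtype.prop _))
      (mul_mem (Subtype.prop _) (Subtype.prop _))

/-- The embedding of the smaller Suzuki group. -/
noncomputable def subfieldHom : Cfsg.Sz K k →* Cfsg.Sz F m :=
  ((SpecialLinearGroup.map φ).comp (Cfsg.Sz K k).subtype).codRestrict (Cfsg.Sz F m)
    (subfieldMap_mem hm hF hk hK hdiv φ)

theorem subfieldHom_injective : Function.Injective (subfieldHom hm hF hk hK hdiv φ) := by
  intro g h e
  have e' := congrArg (fun z : Cfsg.Sz F m =>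
    ((z : SpecialLinearGroup (Fin 4) F) : Matrix (Fin 4) (Fin 4) F)) e
  refine Subtype.ext (Subtype.ext (Matrix.ext fun i j => φ.injective ?_))
  exact congrFun (congrFun e' i) j

theorem subfieldHom_tr (a b : K) :
    subfieldHom hm hF hk hK hdiv φ (tr hK a b) = tr hF (φ a) (φ b) :=
  Subtype.ext ((map_generators hm hF hk hK hdiv φ).1 a b)

theorem subfieldHom_tor (s : Kˣ) :
    subfieldHom hm hF hk hK hdiv φ (tor hK s) = tor hF (Units.map φ.toMonoidHom s) :=
  Subtype.ext ((map_generators hm hF hk hK hdiv φ).2.1 s)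

theorem subfieldHom_sw : subfieldHom hm hF hk hK hdiv φ (sw hK) = sw hF :=
  Subtype.ext (map_generators hm hF hk hK hdiv φ).2.2

/-- A normalised embedding has the standard image. -/
theorem range_eq_of_normalized (f : Cfsg.Sz K k →* Cfsg.Sz F m) (hf : Function.Injective f)
    (hU : ∀ a b, ∃ a' b', f (tr hK a b) = tr hF a' b')
    (htor : ∀ s, ∃ t, f (tor hK s) = tor hF t)
    (hone : ∃ μ, f (tr hK 0 μ) = tr hF 0 1) :
    f.range = (subfieldHom hm hF hk hK hdiv φ).range := by
  classical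
  set R : Subgroup (Cfsg.Sz F m) := f.range with hR
  have h2 : (2 : F) = 0 := CharTwo.two_eq_zero
  have hθ : ∀ x : K, φ (theta K k x) = theta F m (φ x) := theta_map hdiv φ hK
  -- the torus of the image
  have hmemK : ∀ t : Fˣ, t ^ (Fintype.card K - 1) = 1 → ∃ s : Kˣ, Units.map φ.toMonoidHom s = t := by
    have hinj : Function.Injective (Units.map φ.toMonoidHom) := Units.map_injective φ.injective
    have hset : (Finset.univ.image (Units.map φ.toMonoidHom)) =
        Finset.univ.filter fun t : Fˣ => t ^ (Fintype.card K - 1) = 1 := by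
      refine Finset.eq_of_subset_of_card_le ?_ ?_
      · intro t ht
        obtain ⟨s, -, rfl⟩ := Finset.mem_image.1 ht
        refine Finset.mem_filter.2 ⟨Finset.mem_univ _, ?_⟩
        rw [← map_pow, ← Fintype.card_units, pow_card_eq_one, map_one]
      · rw [Finset.card_image_of_injective _ hinj, Finset.card_univ, Fintype.card_units]
        exact IsCyclic.card_pow_eq_one_le (by have := Fintype.one_lt_card (α := K); omega)
    intro t ht
    have : t ∈ Finset.univ.image (Units.map φ.toMonoidHom) := by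
      rw [hset]; exact Finset.mem_filter.2 ⟨Finset.mem_univ _, ht⟩
    obtain ⟨s, -, hs⟩ := Finset.mem_image.1 this
    exact ⟨s, hs⟩
  choose χ hχ using htor
  have hχφ : ∀ s, ∃ s', Units.map φ.toMonoidHom s' = χ s := fun s => hmemK _ (by
    apply tor_injective (m := m) hF
    rw [tor_one]
    have h := congrArg (fun z => f z) (show (tor hK s : Cfsg.Sz K k) ^ (Fintype.card K - 1) = 1 by
      have h0 : orderOf (tor hK s : Cfsg.Sz K k) ∣ Fintype.card K - 1 := by
        rw [← card_torusSubgroup (m := k) hK]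
        exact Subgroup.orderOf_dvd_natCard _ ((mem_torusSubgroup hK).2 ⟨s, rfl⟩)
      exact orderOf_dvd_iff_pow_eq_one.1 h0)
    simp only [map_pow, hχ, map_one] at h
    rw [← h]
    exact map_pow (MonoidHom.mk' (tor hF) (tor_mul hF) : Fˣ →* Cfsg.Sz F m) (χ s) _)
  choose χ' hχ' using hχφ
  have hχ'inj : Function.Injective χ' := fun s t e => tor_injective hK (hf (by
    rw [hχ, hχ, ← hχ', ← hχ', e]))
  have htorR : ∀ s : Kˣ, tor hF (Units.map φ.toMonoidHom s) ∈ R := fun s => by
    obtain ⟨s', rfl⟩ := Finite.surjective_of_injective hχ'inj s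
    exact ⟨tor hK s', by rw [hχ, hχ']⟩
  have hconjR : ∀ (s : Kˣ) {a b : F}, tr hF a b ∈ R →
      tr hF (φ (theta K k s) * a) (φ (theta K k s * (s : K) ^ 2) * b) ∈ R := fun s a b h => by
    have := mul_mem (mul_mem (htorR s) h) (inv_mem (htorR s))
    rw [conj_tr] at this
    simpa [← theta_def, hθ, map_mul, map_pow] using this
  -- the centre of the image
  have hcentre : ∀ y : K, tr hF 0 (φ y) ∈ R := by
    intro y
    obtain ⟨μ, hμ⟩ := hone
    by_cases hy : y = 0
    · rw [hy, map_zero, tr_zero]; exact one_mem _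
    obtain ⟨u, hu⟩ := Finite.surjective_of_injective (theta_mul_sq_injective (m := k) hK) y
    have hu' : theta K k u * u ^ 2 = y := hu
    have hu0 : u ≠ 0 := fun e => hy (by rw [← hu', e]; simp)
    have := hconjR (Units.mk0 u hu0) (a := 0) (b := 1) ⟨_, hμ⟩
    rwa [mul_zero, mul_one, Units.val_mk0, hu'] at this
  choose A B hAB using hU
  have hfirst : ∀ b, A 0 b = 0 := by
    intro b
    have h : f (tr hK 0 b * tr hK 0 b) = f (tr hK 0 b) * f (tr hK 0 b) := map_mul f _ _
    rw [tr_mul, zero_add, CharTwo.add_self_eq_zero, mul_zero, add_zero, tr_zero, map_one, hAB, tr_mul,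
      ← tr_zero hF] at h
    have := (tr_injective hF h).2
    rwa [CharTwo.add_self_eq_zero, zero_add, eq_comm, mul_eq_zero, pow_eq_zero_iff (by positivity),
      or_self] at this
  have hfirst' : ∀ a b, A a b = 0 → a = 0 := by
    intro a b h
    have e : f (tr hK a b * tr hK a b) = 1 := by
      rw [map_mul, hAB, h, tr_mul]; simp [CharTwo.add_self_eq_zero, tr_zero]
    rw [← map_one f] at e
    have e' := hf e
    rw [tr_mul, ← tr_zero hK] at e'
    have := (tr_injective hK e').2
    rwa [CharTwo.add_self_eq_zero, zero_add, mul_eq_zero, pow_eq_zero_iff (by positivity), or_self] at this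
  -- the central coordinates are exactly those of the subfield
  have hBK : ∀ a b, A a b = 0 → ∃ y, B a b = φ y := by
    intro a b h
    obtain rfl := hfirst' a b h
    let S : Finset F := Finset.univ.image fun y : K => φ y
    let S' : Finset F := Finset.univ.image fun y : K => B 0 y
    have hBinj : Function.Injective fun y : K => B 0 y := fun y z e => (tr_injective hK (hf (by
      rw [hAB, hAB, hfirst, hfirst, show B 0 y = B 0 z from e]))).2
    have hsub : S ⊆ S' := by
      intro w hw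
      obtain ⟨y, -, rfl⟩ := Finset.mem_image.1 hw
      obtain ⟨g, hg⟩ := hcentre y
      rcases bruhat hk hK g with ⟨a', b', s, rfl⟩ | ⟨a', b', c', d', s, rfl⟩
      · rw [map_mul, hAB, hχ] at hg
        obtain ⟨e1, e2, e3⟩ := tr_tor_injective hF (hg.trans (by rw [tor_one, mul_one] :
          (tr hF 0 (φ y) : Cfsg.Sz F m) = tr hF 0 (φ y) * tor hF 1))
        obtain rfl := hfirst' a' b' e1
        exact Finset.mem_image.2 ⟨b', Finset.mem_univ _, e2⟩
      · exfalso
        have hne : (tr hK a' b' * sw hK * (tr hK c' d' * tor hK s)) • infty (F := K) k ≠ infty k := by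
          rw [mul_smul, mul_smul, mul_smul, tor_smul_infty, tr_smul_infty, sw_smul_infty, tr_smul_zero]
          exact point_ne_infty a' b'
        -- the image of a central element commutes with the translation it squares to
        have hcomm : ∀ z : K, f (tr hK a' b' * sw hK * (tr hK c' d' * tor hK s)) * f (tr hK 0 z) =
            f (tr hK 0 z) * f (tr hK a' b' * sw hK * (tr hK c' d' * tor hK s)) := fun z => by
          rw [hg, hAB, hfirst, tr_mul, tr_mul]
          simp [add_comm]
        have h1 := hf ((map_mul f _ _).trans ((hcomm 1).trans (map_mul f _ _).symm))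
        refine hne (fixed_of_commute hk hK (g := tr hK 0 1) ?_ h1 (tr_smul_infty hK 0 1))
        exact fun e => one_ne_zero (tr_injective hK (e.trans (tr_zero hK).symm)).2
    have hcard : S'.card ≤ S.card := by
      rw [Finset.card_image_of_injective _ hBinj, Finset.card_image_of_injective _ φ.injective]
    have hSS := Finset.eq_of_subset_of_card_le hsub hcard
    have hmem : B 0 b ∈ S := hSS ▸ Finset.mem_image_of_mem _ (Finset.mem_univ b)
    obtain ⟨y, -, hy⟩ := Finset.mem_image.1 hmem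
    exact ⟨y, hy.symm⟩
  have hAK : ∀ a b, ∃ x, A a b = φ x := by
    intro a b
    obtain ⟨y, hy⟩ : ∃ y, A a b ^ 2 ^ (m + 1) * A a b = φ y := by
      have h : f (tr hK a b * tr hK a b) = f (tr hK a b) * f (tr hK a b) := map_mul f _ _
      rw [tr_mul, hAB, hAB, tr_mul] at h
      obtain ⟨e1, e2⟩ := tr_injective hF h
      rw [CharTwo.add_self_eq_zero (A a b)] at e1
      obtain ⟨y, hy⟩ := hBK _ _ e1
      rw [hy, CharTwo.add_self_eq_zero, zero_add] at e2
      exact ⟨y, e2.symm⟩
    obtain ⟨x, hx⟩ := Finite.surjective_of_injective (theta_mul_injective (m := k) hK) y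
    refine ⟨x, theta_mul_injective (m := m) hF ?_⟩
    show theta F m (A a b) * A a b = theta F m (φ x) * φ x
    rw [← hθ, ← map_mul, show theta K k x * x = y from hx, theta_def, hy]
  -- the translations of the image
  have hdiff : ∀ {a x y : F}, tr hF a x ∈ R → tr hF a y ∈ R → ∃ z, x - y = φ z := by
    intro a x y hx hy
    have hmem := mul_mem hx (inv_mem hy)
    rw [tr_inv, tr_mul, CharTwo.add_self_eq_zero] at hmem
    obtain ⟨g, hg⟩ := hmem
    rcases bruhat hk hK g with ⟨a', b', s, rfl⟩ | ⟨a', b', c', d', s, rfl⟩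
    · rw [map_mul, hAB, hχ] at hg
      obtain ⟨e1, e2, -⟩ := tr_tor_injective hF (hg.trans (by rw [tor_one, mul_one] :
        (tr hF 0 _ : Cfsg.Sz F m) = tr hF 0 _ * tor hF 1))
      obtain ⟨z, hz⟩ := hBK a' b' e1
      refine ⟨z, ?_⟩
      rw [← hz, e2, CharTwo.sub_eq_add]
      linear_combination -(a ^ 2 ^ (m + 1) * a) * h2
    · exfalso
      have hne : (tr hK a' b' * sw hK * (tr hK c' d' * tor hK s)) • infty (F := K) k ≠ infty k := by
        rw [mul_smul, mul_smul, mul_smul, tor_smul_infty, tr_smul_infty, sw_smul_infty, tr_smul_zero]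
        exact point_ne_infty a' b'
      have hcomm : f (tr hK a' b' * sw hK * (tr hK c' d' * tor hK s)) * f (tr hK 0 1) =
          f (tr hK 0 1) * f (tr hK a' b' * sw hK * (tr hK c' d' * tor hK s)) := by
        rw [hg, hAB, hfirst, tr_mul, tr_mul]
        simp [add_comm]
      have h1 := hf ((map_mul f _ _).trans (hcomm.trans (map_mul f _ _).symm))
      refine hne (fixed_of_commute hk hK (g := tr hK 0 1) ?_ h1 (tr_smul_infty hK 0 1))
      exact fun e => one_ne_zero (tr_injective hK (e.trans (tr_zero hK).symm)).2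
  obtain ⟨b₁, hb₁⟩ : ∃ b₁, tr hF 1 b₁ ∈ R := by
    obtain ⟨x, hx⟩ := hAK 1 0
    have hx0 : x ≠ 0 := fun e => one_ne_zero (hfirst' 1 0 (by rw [hx, e, map_zero]))
    obtain ⟨u, hu⟩ := exists_theta hK (m := k) x⁻¹
    have hu0 : u ≠ 0 := fun e => inv_ne_zero hx0 (by rw [← hu, e, map_zero])
    have h := hconjR (Units.mk0 u hu0) (a := A 1 0) (b := B 1 0) ⟨_, hAB 1 0⟩
    rw [hx, Units.val_mk0, hu, ← map_mul, inv_mul_cancel₀ hx0, map_one] at h
    exact ⟨_, h⟩
  obtain ⟨y₁, hy₁⟩ : ∃ y, b₁ = φ y := by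
    obtain ⟨u, hu⟩ := exists_unit_ne_one (F := K) hk hK
    set a := theta K k (u : K) with ha
    have ha1 : a ≠ 1 := fun e => hu (Units.ext ((theta K k).injective (by rw [Units.val_one, map_one]; exact e)))
    have ha0 : a + 1 ≠ 0 := fun e => ha1 (CharTwo.add_eq_zero.1 e)
    obtain ⟨v, hv⟩ := exists_theta hK (m := k) (a + 1)
    have hv0 : v ≠ 0 := fun e => ha0 (by rw [← hv, e, map_zero])
    have h1 := mul_mem hb₁ (hconjR u hb₁)
    rw [tr_mul, mul_one, one_pow, one_mul] at h1
    have huv : theta K k (u : K) * (u : K) ^ 2 = theta K k (u : K) * theta K k (theta K k (u : K)) := by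
      rw [theta_theta hK]
    have hvv : theta K k v * v ^ 2 = (a + 1) * theta K k (a + 1) := by rw [← theta_theta hK v, hv]
    have h3 := hconjR (Units.mk0 v hv0) hb₁
    rw [Units.val_mk0, hvv, hv, mul_one, map_add φ a 1, map_one φ, add_comm (φ a) 1] at h3
    rw [huv, ← ha] at h1
    obtain ⟨z, hz⟩ := hdiff h1 h3
    set c := a + theta K k a with hc
    have hc0 : c ≠ 0 := fun e => by
      rcases eq_zero_or_one_of_theta hK (m := k) (x := a) (CharTwo.add_eq_zero.1 e).symm with e' | e'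
      · exact u.ne_zero ((theta K k).injective (by rw [map_zero]; exact e'))
      · exact ha1 e'
    have e : b₁ * φ c = φ (z + a) := by
      rw [map_add φ z a, ← hz]
      simp only [hc, map_add, map_mul, map_one]
      linear_combination (b₁ * (φ a + φ (theta K k a)) - φ a) * h2
    exact ⟨(z + a) / c, by rw [map_div₀, ← e, mul_div_cancel_right₀ _ ((map_ne_zero _).2 hc0)]⟩
  have htrR : ∀ x y : K, tr hF (φ x) (φ y) ∈ R := by
    have h10 : tr hF 1 0 ∈ R := by
      have := mul_mem hb₁ (hcentre y₁)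
      rwa [tr_mul, hy₁, add_zero, CharTwo.add_self_eq_zero, zero_add, mul_zero] at this
    intro x y
    by_cases hx : x = 0
    · rw [hx, map_zero]; exact hcentre y
    obtain ⟨u, hu⟩ := exists_theta hK (m := k) x
    have hu0 : u ≠ 0 := fun e => hx (by rw [← hu, e, map_zero])
    have h := hconjR (Units.mk0 u hu0) h10
    rw [Units.val_mk0, hu, mul_one, mul_zero] at h
    have := mul_mem h (hcentre y)
    rwa [tr_mul, add_zero, zero_add, mul_zero, add_zero] at this
  -- the antidiagonal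
  have hswR : sw hF ∈ R := by
    obtain ⟨s₀, hs₀⟩ := exists_unit_ne_one (F := K) hk hK
    set w := f (sw hK) with hw
    have hinv : w * tor hF (χ s₀) * w = tor hF (χ s₀⁻¹) := by
      rw [hw, ← hχ, ← hχ, ← map_mul, ← map_mul, tor_swap]
    have hww : w * w = 1 := by rw [hw, ← map_mul, sw_mul_self, map_one]
    have hχ0 : χ s₀ ≠ 1 := fun e => hs₀ (tor_injective hK (hf (by
      rw [hχ, e, tor_one, tor_one, map_one])))
    have hmoves : ∀ p : Cfsg.suzukiOvoid F m, tor hF (χ s₀) • p = p →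
        w • p = infty m ∨ w • p = point m 0 0 := by
      intro p hp
      refine tor_fixed hF hχ0 ?_
      have hfixinv : tor hF (χ s₀⁻¹) • p = p := by
        rcases tor_fixed hF hχ0 hp with rfl | rfl
        exacts [tor_smul_infty hF _, tor_smul_zero hF _]
      rw [← mul_smul]
      calc (tor hF (χ s₀) * w) • p = (w * (w * tor hF (χ s₀) * w)) • p := by
            rw [show w * (w * tor hF (χ s₀) * w) = w * w * (tor hF (χ s₀) * w) by group, hww, one_mul]
        _ = w • p := by rw [hinv, mul_smul, hfixinv]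
    have hne := point_ne_infty (F := F) (m := m) 0 0
    have e0 := hmoves _ (tor_smul_infty hF _)
    have e1 := hmoves _ (tor_smul_zero hF _)
    have hw1 : w • infty (F := F) m = point m 0 0 := e0.resolve_left fun e => by
      obtain ⟨t, ht⟩ := exists_to hm hF e
        (e1.resolve_left fun e' => hne (smul_left_cancel w (e'.trans e.symm)))
      have ho : orderOf w = 2 := by
        rw [hw, orderOf_injective f hf]
        refine orderOf_eq_prime (by rw [sq, sw_mul_self]) fun e => ?_
        have := congrArg (fun g : Cfsg.Sz K k => g • infty (F := K) k) e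
        simp only [sw_smul_infty, one_smul] at this
        exact point_ne_infty 0 0 this
      exact (trType_of_pow hm hF ho) ((mem_torusSubgroup hF).2 ⟨t, ht⟩)
    have hw0 : w • point (F := F) m 0 0 = infty m := by
      rw [← hw1, ← mul_smul, hww, one_smul]
    obtain ⟨t, ht⟩ := exists_to hm hF (g := sw hF * w) (by rw [mul_smul, hw1, sw_smul_zero])
      (by rw [mul_smul, hw0, sw_smul_infty])
    have hwe : w = sw hF * tor hF t := by rw [← ht, ← mul_assoc, sw_mul_self, one_mul]
    -- follow the point `(0, 1)`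
    obtain ⟨g, hg⟩ := hcentre 1
    set c := theta F m (t : F) * (t : F) ^ 2 with hc
    have hc0 : c ≠ 0 := mul_ne_zero ((map_ne_zero _).2 t.ne_zero) (pow_ne_zero _ t.ne_zero)
    have himg : f (sw hK * g * sw hK) • infty (F := F) m = point m (c / theta F m c) 0 := by
      rw [map_mul, map_mul, hg, ← hw, mul_smul, mul_smul, hw1, map_one, tr_smul_zero, hwe, mul_smul,
        tor_smul_point, ← theta_def, ← hc, mul_zero, mul_one,
        sw_smul_point hF (by rw [ovf_eq]; simpa using hc0)]
      simp [ovf_eq]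
    obtain ⟨ξ, hξ⟩ : ∃ ξ, c / theta F m c = φ ξ := by
      rcases bruhat hk hK (sw hK * g * sw hK) with ⟨a', b', s', e⟩ | ⟨a', b', c', d', s', e⟩
      · exfalso
        rw [e, map_mul, hAB, hχ, mul_smul, tor_smul_infty, tr_smul_infty] at himg
        exact point_ne_infty _ _ himg.symm
      · rw [e, map_mul, map_mul, map_mul, hAB, hAB, hχ, ← hw, mul_smul, mul_smul, mul_smul,
          tor_smul_infty, tr_smul_infty, hw1, tr_smul_zero] at himg
        obtain ⟨e1', -⟩ := point_injective himg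
        obtain ⟨x, hx⟩ := hAK a' b'
        exact ⟨x, e1'.symm.trans hx⟩
    have hξ0 : ξ ≠ 0 := fun e => by
      rw [e, map_zero, div_eq_zero_iff] at hξ
      exact hξ.elim hc0 ((map_ne_zero _).2 hc0)
    -- solve inside the subfield
    have hsol : ∃ c' : K, c' ≠ 0 ∧ c' / theta K k c' = ξ := by
      let g' : Kˣ → Kˣ := fun u => u / Units.map (theta K k).toMonoidHom u
      have hg' : Function.Injective g' := by
        intro u v e
        have e' : ((u / v : Kˣ) : K) = theta K k ((u / v : Kˣ) : K) := by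
          have e'' : u / v = Units.map (theta K k).toMonoidHom (u / v) := by
            rw [map_div]
            exact div_eq_div_iff_div_eq_div.1 e
          exact congrArg Units.val e''
        rcases eq_zero_or_one_of_theta hK (m := k) e'.symm with h | h
        · exact absurd h (Units.ne_zero _)
        · exact div_eq_one.1 (Units.ext h)
      obtain ⟨u, hu⟩ := Finite.surjective_of_injective hg' (Units.mk0 ξ hξ0)
      refine ⟨u, u.ne_zero, ?_⟩
      have := congrArg Units.val hu
      simpa [g', Units.val_div_eq_div_val] using this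
    obtain ⟨c', hc'0, hc'⟩ := hsol
    have hce : c = φ c' := by
      have hφc : φ c' ≠ 0 := (map_ne_zero _).2 hc'0
      have e : c / theta F m c = φ c' / theta F m (φ c') := by rw [hξ, ← hc', map_div₀, hθ]
      have e' : theta F m (c / φ c') = c / φ c' := by
        rw [map_div₀, div_eq_div_iff ((map_ne_zero _).2 hφc) hφc]
        rw [div_eq_div_iff ((map_ne_zero _).2 hc0) ((map_ne_zero _).2 hφc)] at e
        linear_combination -e
      rcases eq_zero_or_one_of_theta hF (m := m) e' with h | h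
      · exact absurd h (div_ne_zero hc0 hφc)
      · exact (div_eq_one_iff_eq hφc).1 h
    obtain ⟨v, hv⟩ := Finite.surjective_of_injective (theta_mul_sq_injective (m := k) hK) c'
    have hv' : theta K k v * v ^ 2 = c' := hv
    have hv0 : v ≠ 0 := fun e => hc'0 (by rw [← hv', e]; simp)
    have hte : Units.map φ.toMonoidHom (Units.mk0 v hv0) = t := by
      refine Units.ext (theta_mul_sq_injective (m := m) hF ?_)
      show theta F m (φ v) * φ v ^ 2 = theta F m (t : F) * (t : F) ^ 2
      rw [← hθ, ← map_pow, ← map_mul, hv', ← hc, hce]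
    have hmem := mul_mem (show w ∈ R from ⟨sw hK, rfl⟩) (inv_mem (htorR (Units.mk0 v hv0)))
    rwa [hte, hwe, mul_inv_cancel_right] at hmem
  refine (Subgroup.eq_of_le_of_card_ge ?_ (le_of_eq ?_)).symm
  · rintro _ ⟨g, rfl⟩
    obtain ⟨p1, p2⟩ := subfieldHom_tr hm hF hk hK hdiv φ, subfieldHom_tor hm hF hk hK hdiv φ
    rcases bruhat hk hK g with ⟨a, b, s, rfl⟩ | ⟨a, b, c, d, s, rfl⟩
    · rw [map_mul, subfieldHom_tr, subfieldHom_tor]
      exact mul_mem (htrR a b) (htorR s)
    · rw [map_mul, map_mul, map_mul, subfieldHom_tr, subfieldHom_tr, subfieldHom_tor, subfieldHom_sw]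
      exact mul_mem (mul_mem (htrR a b) hswR) (mul_mem (htrR c d) (htorR s))
  · rw [hR, ← Nat.card_congr (MonoidHom.ofInjective hf).toEquiv,
      ← Nat.card_congr (MonoidHom.ofInjective (subfieldHom_injective hm hF hk hK hdiv φ)).toEquiv]
where
  trType_of_pow {F : Type _} [Field F] [Fintype F] [CharP F 2] {m : ℕ} (hm : 1 ≤ m)
      (hF : Fintype.card F = 2 ^ (2 * m + 1)) {w : Cfsg.Sz F m} (ho : orderOf w = 2) :
      w ∉ torusSubgroup (m := m) hF := fun h => by
    have h1 := Subgroup.orderOf_dvd_natCard _ h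
    rw [ho] at h1
    exact Nat.not_even_iff_odd.2 (isTor_torusSubgroup hm hF).2.2.1 (even_iff_two_dvd.2 h1)

/-- Every embedding has image conjugate to the standard one. -/
theorem exists_conj_range (f : Cfsg.Sz K k →* Cfsg.Sz F m) (hf : Function.Injective f) :
    ∃ g : Cfsg.Sz F m,
      f.range.map (MulAut.conj g).toMonoidHom = (subfieldHom hm hF hk hK hdiv φ).range := by
  -- move the distinguished involution into the centre of `U`
  set z := f (tr hK 0 1) with hz
  have hzo : orderOf z = 2 := by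
    rw [hz, orderOf_injective f hf]; exact orderOf_center_tr hK one_ne_zero
  obtain ⟨g₁, a, b, he⟩ : ∃ (g₁ : Cfsg.Sz F m) (a b : F), g₁ * z * g₁⁻¹ = tr hF a b := by
    rcases trType_or_isTor hm hF (g := z) (fun e => by rw [e, orderOf_one] at hzo; norm_num at hzo) with
      ⟨h, a, b, -, e⟩ | hT
    · exact ⟨h, a, b, e⟩
    · have h1 := hT.2.2.1.of_dvd_nat (Subgroup.orderOf_dvd_natCard _
        (Subgroup.mem_centralizer_singleton_iff.2 rfl : z ∈ Subgroup.centralizer ({z} : Set (Cfsg.Sz F m))))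
      rw [hzo] at h1
      exact absurd h1 (by decide)
  have ha : a = 0 := by
    by_contra ha
    have hsq : (g₁ * z * g₁⁻¹) * (g₁ * z * g₁⁻¹) = 1 := by
      rw [← sq, conj_pow, ← hzo, pow_orderOf_eq_one, mul_one, mul_inv_cancel]
    rw [he, tr_mul, ← tr_zero hF] at hsq
    have := (tr_injective hF hsq).2
    rw [CharTwo.add_self_eq_zero, zero_add, mul_eq_zero, pow_eq_zero_iff (by positivity), or_self] at this
    exact ha this
  subst ha
  have hb : b ≠ 0 := fun e => by
    rw [e, tr_zero, conj_eq_one_iff] at he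
    rw [he, orderOf_one] at hzo
    norm_num at hzo
  set f₁ : Cfsg.Sz K k →* Cfsg.Sz F m := (MulAut.conj g₁).toMonoidHom.comp f with hf₁
  have hf₁inj : Function.Injective f₁ := (MulAut.conj g₁).injective.comp hf
  have hz₁ : f₁ (tr hK 0 1) = tr hF 0 b := he
  have hz1' : (tr hF 0 b : Cfsg.Sz F m) ≠ 1 := fun e =>
    hb (tr_injective hF (e.trans (tr_zero hF).symm)).2
  have honly : ∀ p : Cfsg.suzukiOvoid F m, (tr hF 0 b : Cfsg.Sz F m) • p = p → p = infty m :=
    fun p hp => eq_infty_of_tr_fixed hF (Or.inr hb) hp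
  -- translations go to translations
  have hU₁ : ∀ a b', ∃ a' b'', f₁ (tr hK a b') = tr hF a' b'' := by
    intro a b'
    have hcomm : (tr hK a b' : Cfsg.Sz K k) * tr hK 0 1 = tr hK 0 1 * tr hK a b' := by
      rw [tr_mul, tr_mul]
      congr 1
      · ring
      · rw [zero_pow (by positivity)]; ring
    have hc : f₁ (tr hK a b') * f₁ (tr hK 0 1) = f₁ (tr hK 0 1) * f₁ (tr hK a b') := by
      rw [← map_mul, hcomm, map_mul]
    rw [hz₁] at hc
    obtain ⟨c, d, e⟩ := tr_centralizer hm hF (Or.inr hb) hc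
    exact ⟨c, d, e⟩
  have hB₁ : ∀ s, f₁ (tor hK s) • infty (F := F) m = infty m := by
    intro s
    obtain ⟨a', b', e⟩ := hU₁ ((s : K) ^ 2 ^ (k + 1) * 0) ((s : K) ^ 2 ^ (k + 1) * (s : K) ^ 2 * 1)
    rw [← conj_tr, map_mul, map_mul, map_inv, hz₁] at e
    have h1 : (f₁ (tor hK s) * tr hF 0 b * (f₁ (tor hK s))⁻¹) • infty (F := F) m = infty m := by
      rw [e, tr_smul_infty]
    rw [mul_smul, mul_smul, ← eq_inv_smul_iff] at h1
    exact (inv_smul_eq_iff.1 (honly _ h1)).symm
  -- normalise the torus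
  obtain ⟨ζ, hζ⟩ := IsCyclic.exists_generator (α := Kˣ)
  have hζ1 : ζ ≠ 1 := by
    rintro rfl
    obtain ⟨s, hs⟩ := exists_unit_ne_one (F := K) hk hK
    obtain ⟨i, hi⟩ := Subgroup.mem_zpowers_iff.1 (hζ s)
    exact hs (by rw [← hi, _root_.one_zpow])
  obtain ⟨a, b₀, σ, hσ⟩ := exists_tr_to hm hF (hB₁ ζ)
  have hσ1 : σ ≠ 1 := by
    rintro rfl
    rw [tor_one, mul_one] at hσ
    have h1 : orderOf (tor hK ζ : Cfsg.Sz K k) = orderOf (tr hF a b₀ : Cfsg.Sz F m) := by
      rw [← hσ, orderOf_injective f₁ hf₁inj]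
    have hne : (tr hF a b₀ : Cfsg.Sz F m) ≠ 1 := fun e => by
      rw [e, orderOf_one, orderOf_eq_one_iff] at h1
      exact hζ1 (tor_injective hK (h1.trans (tor_one hK).symm))
    have h3 : IsTrType hF (tr hF a b₀ : Cfsg.Sz F m) := ⟨1, a, b₀, by
      by_contra hc
      push Not at hc
      exact hne (by rw [hc.1, hc.2, tr_zero]), by simp⟩
    have h4 := h3.even_orderOf hm hF
    rw [← h1] at h4
    have h5 := (isTor_torusSubgroup hk hK).2.2.1.of_dvd_nat
      (Subgroup.orderOf_dvd_natCard _ ((mem_torusSubgroup hK).2 ⟨ζ, rfl⟩))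
    exact Nat.not_even_iff_odd.2 h5 (even_iff_two_dvd.2 h4)
  obtain ⟨c, d, hcd⟩ := exists_conj_tor hF a b₀ hσ1
  set g₂ : Cfsg.Sz F m := (tr hF c d)⁻¹ with hg₂
  have hg₂z : g₂ * tr hF 0 b * g₂⁻¹ = tr hF 0 b := by
    rw [hg₂, tr_inv, mul_inv_eq_iff_eq_mul, tr_mul, tr_mul]
    congr 1
    · ring
    · rw [zero_pow (by positivity)]; ring
  -- scale the centre
  obtain ⟨lam, hlam⟩ := Finite.surjective_of_injective (theta_mul_sq_injective (m := m) hF) b⁻¹
  have hlam' : theta F m lam * lam ^ 2 = b⁻¹ := hlam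
  have hlam0 : lam ≠ 0 := fun e => inv_ne_zero hb (by rw [← hlam', e]; simp)
  set g₃ : Cfsg.Sz F m := tor hF (Units.mk0 lam hlam0) with hg₃
  set f₂ : Cfsg.Sz K k →* Cfsg.Sz F m := (MulAut.conj (g₃ * g₂)).toMonoidHom.comp f₁ with hf₂
  have hf₂inj : Function.Injective f₂ := (MulAut.conj _).injective.comp hf₁inj
  have happ : ∀ u, f₂ u = g₃ * (g₂ * f₁ u * g₂⁻¹) * g₃⁻¹ := fun u => by
    show g₃ * g₂ * f₁ u * (g₃ * g₂)⁻¹ = _
    group
  have hU₂ : ∀ a b', ∃ a' b'', f₂ (tr hK a b') = tr hF a' b'' := by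
    intro a b'
    obtain ⟨a', b'', e⟩ := hU₁ a b'
    obtain ⟨x, y, exy⟩ : ∃ x y, g₂ * f₁ (tr hK a b') * g₂⁻¹ = tr hF x y := ⟨_, _, by
      rw [e, hg₂, tr_inv, tr_inv, tr_mul, tr_mul]⟩
    rw [happ, exy, hg₃, conj_tr]
    exact ⟨_, _, rfl⟩
  have htor₂ : ∀ s, ∃ t, f₂ (tor hK s) = tor hF t := by
    intro s
    obtain ⟨i, hi⟩ := Subgroup.mem_zpowers_iff.1 (hζ s)
    refine ⟨(Units.mk0 lam hlam0 * σ * (Units.mk0 lam hlam0)⁻¹) ^ i, ?_⟩
    have e1 : f₂ (tor hK ζ) = tor hF (Units.mk0 lam hlam0 * σ * (Units.mk0 lam hlam0)⁻¹) := by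
      rw [happ, hσ, ← hcd, hg₂, tor_mul, tor_mul, ← tor_inv, hg₃]
      group
    let τ : Kˣ →* Cfsg.Sz K k := MonoidHom.mk' (tor hK) (tor_mul hK)
    let τ' : Fˣ →* Cfsg.Sz F m := MonoidHom.mk' (tor hF) (tor_mul hF)
    show f₂ (τ s) = τ' _
    rw [← hi, map_zpow, map_zpow, map_zpow]
    exact congrArg (· ^ i) e1
  have hone₂ : ∃ μ, f₂ (tr hK 0 μ) = tr hF 0 1 := ⟨1, by
    rw [happ, hz₁, hg₂z, hg₃, conj_tr, mul_zero, Units.val_mk0, ← theta_def, hlam', inv_mul_cancel₀ hb]⟩
  refine ⟨g₃ * g₂ * g₁, ?_⟩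
  rw [← range_eq_of_normalized hm hF hk hK hdiv φ f₂ hf₂inj hU₂ htor₂ hone₂, hf₂, hf₁, MonoidHom.range_comp,
    MonoidHom.range_comp, Subgroup.map_map]
  congr 1
  rw [map_mul]
  rfl

end map

include hm hF hk hK hdiv in
/-- Existence and uniqueness up to conjugacy of subfield subgroups. -/
theorem subfield_subgroups :
    (∃ S : Subgroup (Cfsg.Sz F m), Nonempty (S ≃* Cfsg.Sz K k)) ∧
    ∀ S₁ S₂ : Subgroup (Cfsg.Sz F m), Nonempty (S₁ ≃* Cfsg.Sz K k) → Nonempty (S₂ ≃* Cfsg.Sz K k) →
      ∃ g : Cfsg.Sz F m, S₂ = S₁.map (MulAut.conj g).toMonoidHom := by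
  obtain ⟨φ⟩ := exists_ringHom (F := F) (K := K) hdiv hF hK
  refine ⟨⟨_, ⟨(MonoidHom.ofInjective (subfieldHom_injective hm hF hk hK hdiv φ)).symm⟩⟩, ?_⟩
  have key : ∀ S : Subgroup (Cfsg.Sz F m), Nonempty (S ≃* Cfsg.Sz K k) →
      ∃ g, S.map (MulAut.conj g).toMonoidHom = (subfieldHom hm hF hk hK hdiv φ).range := by
    rintro S ⟨e⟩
    obtain ⟨g, hg⟩ := exists_conj_range hm hF hk hK hdiv φ (S.subtype.comp e.symm.toMonoidHom)
      (S.subtype_injective.comp e.symm.injective)
    refine ⟨g, ?_⟩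
    rw [← hg, MonoidHom.range_comp, MonoidHom.range_eq_top.2 e.symm.surjective, ← MonoidHom.range_eq_map,
      Subgroup.range_subtype]
  intro S₁ S₂ h₁ h₂
  obtain ⟨g₁, e₁⟩ := key S₁ h₁
  obtain ⟨g₂, e₂⟩ := key S₂ h₂
  exact ⟨g₂⁻¹ * g₁, (map_conj_of_eq e₁ e₂).symm⟩

end Cfsg.Agent.Suzuki
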