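import Cfsg.Agent.Lib.Suzuki.Solubilizer
import Cfsg.Agent.Lib.Suzuki.Subfield

/-!
# The partition induced on a subgroup of the Suzuki group
-/

set_option autoImplicit false
set_option linter.unusedSectionVars false

namespace Cfsg.Agent.Suzuki

open Matrix MulAction

variable {F : Type*} [Field F] [Fintype F] [CharP F 2] {m : ℕ}

/-- The elements of `H` conjugate in `H` to a non-identity element of `T`. -/
def cls (H T : Subgroup (Cfsg.Sz F m)) : Set (Cfsg.Sz F m) :=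
  {y | y ≠ 1 ∧ y ∈ H ∧ ∃ g ∈ H, g * y * g⁻¹ ∈ T}

variable (hm : 1 ≤ m) (hF : Fintype.card F = 2 ^ (2 * m + 1))

include hm hF

theorem not_three_dvd_card : ¬ 3 ∣ Nat.card (Cfsg.Sz F m) := by
  intro h
  rw [card_eq hm hF, hF] at h
  have h3 : (2 ^ (2 * m + 1)) % 3 = 2 := by
    rw [pow_succ, pow_mul, Nat.mul_mod, Nat.pow_mod]
    norm_num
  set q := 2 ^ (2 * m + 1)
  have hq2 : q ^ 2 % 3 = 1 := by rw [Nat.pow_mod, h3]
  rcases (Nat.Prime.dvd_mul Nat.prime_three).1 h with h1 | h1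
  · rcases (Nat.Prime.dvd_mul Nat.prime_three).1 h1 with h2 | h2 <;> omega
  · omega

/-- A torus meeting `H` has at least five elements in `H`. -/
theorem five_le_inf {H T : Subgroup (Cfsg.Sz F m)} (hT : IsTor T) (hne : H ⊓ T ≠ ⊥) :
    5 ≤ Nat.card (H ⊓ T : Subgroup (Cfsg.Sz F m)) := by
  have hodd : Odd (Nat.card (H ⊓ T : Subgroup (Cfsg.Sz F m))) :=
    hT.2.2.1.of_dvd_nat (Subgroup.card_dvd_of_le inf_le_right)
  have h1 : Nat.card (H ⊓ T : Subgroup (Cfsg.Sz F m)) ≠ 1 := fun e => hne (Subgroup.card_eq_one.1 e)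
  have h3 : Nat.card (H ⊓ T : Subgroup (Cfsg.Sz F m)) ≠ 3 := fun e => not_three_dvd_card hm hF
    (e ▸ Subgroup.card_subgroup_dvd_card _)
  obtain ⟨k, hk⟩ := hodd
  omega

theorem cls_inter {H T T' : Subgroup (Cfsg.Sz F m)} (hT : IsTor T) (hT' : IsTor T') {w : Cfsg.Sz F m}
    (hw : w ∈ cls H T) (hw' : w ∈ cls H T') : ∀ y ∈ cls H T', y ∈ cls H T := by
  obtain ⟨hw1, -, g, hg, hgT⟩ := hw
  obtain ⟨-, -, g', hg', hgT'⟩ := hw'
  rintro y ⟨hy1, hyH, c, hc, hcT⟩
  refine ⟨hy1, hyH, g * g'⁻¹ * c, H.mul_mem (H.mul_mem hg (H.inv_mem hg')) hc, ?_⟩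
  have e : T'.map (MulAut.conj (g * g'⁻¹)).toMonoidHom = T := by
    refine (hT'.map_conj hm hF _).eq_of_mem hm hF hT (t := g * w * g⁻¹) ⟨g' * w * g'⁻¹, hgT', ?_⟩ hgT
      fun e => hw1 (conj_eq_one_iff.1 e)
    show g * g'⁻¹ * (g' * w * g'⁻¹) * (g * g'⁻¹)⁻¹ = g * w * g⁻¹
    group
  rw [← e]
  exact ⟨c * y * c⁻¹, hcT, show g * g'⁻¹ * (c * y * c⁻¹) * (g * g'⁻¹)⁻¹ = _ by group⟩

/-- The size of a class of elements of `H`. -/
theorem ncard_cls {H T : Subgroup (Cfsg.Sz F m)} (hT : IsTor T) (hne : H ⊓ T ≠ ⊥) :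
    (cls H T).ncard * Nat.card (H ⊓ Subgroup.normalizer (T : Set (Cfsg.Sz F m)) : Subgroup (Cfsg.Sz F m)) =
      Nat.card H * (Nat.card (H ⊓ T : Subgroup (Cfsg.Sz F m)) - 1) := by
  set A : Subgroup H := T.subgroupOf H with hA
  have hnor : Subgroup.normalizer (A : Set H) =
      (Subgroup.normalizer (T : Set (Cfsg.Sz F m))).subgroupOf H := by
    ext n
    constructor
    · intro hn
      obtain ⟨u, hu, hu1⟩ := (H ⊓ T).bot_or_exists_ne_one.resolve_left hne
      have h1 : (⟨u, hu.1⟩ : H) ∈ A := hu.2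
      have h2 := (Subgroup.mem_set_normalizer_iff.1 hn ⟨u, hu.1⟩).1 h1
      exact hT.mem_normalizer hm hF hu.2 hu1 h2
    · intro hn
      rw [Subgroup.mem_set_normalizer_iff]
      intro a
      exact Subgroup.mem_set_normalizer_iff.1 hn (a : Cfsg.Sz F m)
  have hcl := ncard_classSet A (fun h u hu hu1 hconj => by
    rw [hnor]
    exact hT.mem_normalizer hm hF hu (fun e => hu1 (Subtype.ext e)) hconj)
  have himg : cls H T = Subtype.val '' classSet A := by
    ext y
    constructor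
    · rintro ⟨h1, hyH, g, hg, hgT⟩
      exact ⟨⟨y, hyH⟩, ⟨fun e => h1 (congrArg Subtype.val e), ⟨g, hg⟩, hgT⟩, rfl⟩
    · rintro ⟨⟨y', hy'⟩, ⟨h1, g, hgA⟩, rfl⟩
      exact ⟨fun e => h1 (Subtype.ext e), hy', g, g.2, hgA⟩
  rw [himg, Set.ncard_image_of_injective _ Subtype.val_injective, hcl, hnor]
  have hcA : Nat.card A = Nat.card (H ⊓ T : Subgroup (Cfsg.Sz F m)) := by
    rw [← Subgroup.card_map_of_injective H.subtype_injective (K := A), hA, Subgroup.subgroupOf_map_subtype,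
      inf_comm]
  have hcN : Nat.card ((Subgroup.normalizer (T : Set (Cfsg.Sz F m))).subgroupOf H) =
      Nat.card (H ⊓ Subgroup.normalizer (T : Set (Cfsg.Sz F m)) : Subgroup (Cfsg.Sz F m)) := by
    rw [← Subgroup.card_map_of_injective (K := (Subgroup.normalizer (T : Set (Cfsg.Sz F m))).subgroupOf H)
      H.subtype_injective, Subgroup.subgroupOf_map_subtype, inf_comm]
  rw [hcA, ← hcN, mul_comm, ← mul_assoc, Subgroup.card_mul_index]

/-- The possible indices of `H ⊓ T` in `H ⊓ N(T)`. -/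
theorem exists_index {H T : Subgroup (Cfsg.Sz F m)} (hT : IsTor T) :
    ∃ j, Nat.card (H ⊓ Subgroup.normalizer (T : Set (Cfsg.Sz F m)) : Subgroup (Cfsg.Sz F m)) =
        j * Nat.card (H ⊓ T : Subgroup (Cfsg.Sz F m)) ∧
      (j = 1 ∨ j = 2 ∨ j = 4) ∧
      (Nat.card T = Fintype.card F - 1 → j ≠ 4) ∧
      (j = 4 → ∃ y ∈ H, orderOf y = 4) ∧
      (2 ∣ j → ∃ y ∈ H, y ∈ Subgroup.normalizer (T : Set (Cfsg.Sz F m)) ∧ y ∉ T) := by
  set N := Subgroup.normalizer (T : Set (Cfsg.Sz F m)) with hN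
  set M := H ⊓ N with hM
  haveI : (T.subgroupOf N).Normal := Subgroup.normal_in_normalizer
  let f : M →* N ⧸ T.subgroupOf N :=
    (QuotientGroup.mk' (T.subgroupOf N)).comp (Subgroup.inclusion (inf_le_right : M ≤ N))
  have hker : f.ker.map M.subtype = H ⊓ T := by
    ext y
    constructor
    · rintro ⟨k, hk, rfl⟩
      rw [SetLike.mem_coe, MonoidHom.mem_ker, MonoidHom.comp_apply, QuotientGroup.mk'_apply,
        QuotientGroup.eq_one_iff, Subgroup.mem_subgroupOf] at hk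
      exact ⟨k.2.1, hk⟩
    · rintro ⟨hy1, hy2⟩
      refine ⟨⟨y, hy1, Subgroup.le_normalizer hy2⟩, ?_, rfl⟩
      rw [SetLike.mem_coe, MonoidHom.mem_ker, MonoidHom.comp_apply, QuotientGroup.mk'_apply,
        QuotientGroup.eq_one_iff, Subgroup.mem_subgroupOf]
      exact hy2
  have h1 := Subgroup.card_mul_index f.ker
  rw [← Subgroup.card_map_of_injective M.subtype_injective (K := f.ker), hker, Subgroup.index_ker] at h1
  have hidx := Subgroup.card_mul_index (T.subgroupOf N)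
  rw [Nat.card_congr (Subgroup.subgroupOfEquivOfLe Subgroup.le_normalizer).toEquiv] at hidx
  have hdvd : Nat.card f.range ∣ (T.subgroupOf N).index := by
    rw [Subgroup.index_eq_card]; exact Subgroup.card_subgroup_dvd_card _
  have hTpos : 0 < Nat.card T := Nat.card_pos
  have hj : Nat.card f.range = 1 ∨ Nat.card f.range = 2 ∨ Nat.card f.range = 4 := by
    have : (T.subgroupOf N).index ∣ 4 := by
      rcases hT.cases hm hF with ⟨-, -, e⟩ | ⟨-, -, e⟩ <;> rw [← hN] at e <;> rw [e, mul_comm] at hidx <;>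
        rw [Nat.eq_of_mul_eq_mul_right hTpos hidx]
      exact ⟨2, rfl⟩
    obtain ⟨i, hi, e⟩ := (Nat.dvd_prime_pow (p := 2) Nat.prime_two (m := 2)).1 (hdvd.trans this)
    interval_cases i
    exacts [Or.inl e, Or.inr (Or.inl e), Or.inr (Or.inr e)]
  refine ⟨Nat.card f.range, by rw [mul_comm]; exact h1.symm, hj, ?_, ?_, ?_⟩
  · intro hc h4
    rcases hT.cases hm hF with ⟨-, -, e⟩ | ⟨hk, -, -⟩
    · rw [← hN] at e
      rw [e, mul_comm] at hidx
      rw [Nat.eq_of_mul_eq_mul_right hTpos hidx, h4] at hdvd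
      exact absurd (Nat.le_of_dvd two_pos hdvd) (by norm_num)
    · obtain ⟨a, b, -⟩ := kPlus_ne (F := F) hm hF
      rcases hk with e | e
      exacts [a (e.symm.trans hc), b (e.symm.trans hc)]
  · intro h4
    by_contra hcon
    push Not at hcon
    have hsub : (M : Set (Cfsg.Sz F m)) \ (H ⊓ T : Subgroup (Cfsg.Sz F m)) ⊆
        {y | y ∈ N ∧ orderOf y = 2} ∩ {y | y ∈ H} := by
      rintro y ⟨⟨hyH, hyN⟩, hyT⟩
      have htr := hT.trType_of_notMem hm hF hyN fun e => hyT ⟨hyH, e⟩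
      exact ⟨⟨hyN, (htr.order_cases hm hF).resolve_right (hcon y hyH)⟩, hyH⟩
    -- the involutions of `H` normalizing `T` lie in one coset
    have hle : ((M : Set (Cfsg.Sz F m)) \ (H ⊓ T : Subgroup (Cfsg.Sz F m))).ncard ≤
        Nat.card (H ⊓ T : Subgroup (Cfsg.Sz F m)) := by
      by_cases hem : ((M : Set (Cfsg.Sz F m)) \ (H ⊓ T : Subgroup (Cfsg.Sz F m))) = ∅
      · rw [hem, Set.ncard_empty]; exact Nat.zero_le _
      obtain ⟨z, hz⟩ := Set.nonempty_iff_ne_empty.2 hem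
      obtain ⟨⟨hzN, hzo⟩, hzH⟩ := hsub hz
      have hzz : z * z = 1 := by rw [← sq, ← hzo, pow_orderOf_eq_one]
      rw [← Nat.card_coe_set_eq]
      refine Nat.card_le_card_of_injective (fun y => (⟨z * (y : Cfsg.Sz F m), ?_⟩ :
        (H ⊓ T : Subgroup (Cfsg.Sz F m)))) fun y y' e => Subtype.ext (mul_left_cancel (congrArg Subtype.val e))
      obtain ⟨⟨hyN, hyo⟩, hyH⟩ := hsub y.2
      refine ⟨H.mul_mem hzH hyH, ?_⟩
      obtain ⟨t, ht, ht1⟩ := T.bot_or_exists_ne_one.resolve_left hT.1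
      suffices hm' : z * (y : Cfsg.Sz F m) ∈ Subgroup.centralizer ({t} : Set (Cfsg.Sz F m)) by
        rwa [hT.2.2.2 t ht ht1] at hm'
      rw [Subgroup.mem_centralizer_singleton_iff]
      have hyy : (y : Cfsg.Sz F m) * y = 1 := by rw [← sq, ← hyo, pow_orderOf_eq_one]
      have e1 := hT.inverted hm hF hyN hyo ht
      have e2 := hT.inverted hm hF hzN hzo (T.inv_mem ht)
      rw [inv_inv] at e2
      have e3 : (y : Cfsg.Sz F m) * t = t⁻¹ * y := by rw [← e1, mul_assoc, hyy, mul_one]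
      have e4 : z * t⁻¹ = t * z := by
        calc z * t⁻¹ = z * t⁻¹ * z * z := by rw [mul_assoc _ z z, hzz, mul_one]
          _ = t * z := by rw [e2]
      rw [mul_assoc, e3, ← mul_assoc, e4, mul_assoc]
    have hsplit : ((M : Set (Cfsg.Sz F m)) \ (H ⊓ T : Subgroup (Cfsg.Sz F m))).ncard +
        Nat.card (H ⊓ T : Subgroup (Cfsg.Sz F m)) = Nat.card M := by
      have := Set.ncard_sdiff_add_ncard_of_subset
        (s := ((H ⊓ T : Subgroup (Cfsg.Sz F m)) : Set (Cfsg.Sz F m))) (t := (M : Set (Cfsg.Sz F m)))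
        (fun y hy => ⟨hy.1, Subgroup.le_normalizer hy.2⟩)
      simp only [← Nat.card_coe_set_eq, SetLike.coe_sort_coe] at this ⊢
      exact this
    have hpos : 0 < Nat.card (H ⊓ T : Subgroup (Cfsg.Sz F m)) := Nat.card_pos
    rw [← h1, h4] at hsplit
    omega
  · intro h2
    by_contra hcon
    push Not at hcon
    have e : (H ⊓ T : Subgroup (Cfsg.Sz F m)) = M :=
      le_antisymm (inf_le_inf_left H Subgroup.le_normalizer) fun y hy => ⟨hy.1, hcon y hy.1 hy.2⟩
    rw [e] at h1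
    have : Nat.card f.range = 1 := by
      have hpos : 0 < Nat.card M := Nat.card_pos
      exact Nat.eq_of_mul_eq_mul_left hpos (h1.trans (mul_one _).symm)
    rw [this] at h2
    exact absurd h2 (by norm_num)

/-- The torus of a non-identity element of `H` not of translation type. -/
theorem exists_torus_of {H : Subgroup (Cfsg.Sz F m)} {y : Cfsg.Sz F m} (hy : y ∈ H) (hy1 : y ≠ 1)
    (hyt : ¬ IsTrType hF y) : ∃ T, IsTor T ∧ H ⊓ T ≠ ⊥ ∧ y ∈ cls H T := by
  have hT := (trType_or_isTor hm hF hy1).resolve_left hyt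
  refine ⟨_, hT, fun e => hy1 ?_, hy1, hy, 1, H.one_mem, by simp [Subgroup.mem_centralizer_singleton_iff]⟩
  have : y ∈ H ⊓ Subgroup.centralizer ({y} : Set (Cfsg.Sz F m)) :=
    ⟨hy, Subgroup.mem_centralizer_singleton_iff.2 rfl⟩
  rw [e] at this
  exact this

/-- Two classes with a common prime in the orders coincide. -/
theorem coprime_of_disjoint {H T T' : Subgroup (Cfsg.Sz F m)} (hT : IsTor T) (hT' : IsTor T')
    (hd : Disjoint (cls H T) (cls H T')) :
    Nat.Coprime (Nat.card (H ⊓ T : Subgroup (Cfsg.Sz F m))) (Nat.card (H ⊓ T' : Subgroup (Cfsg.Sz F m))) := by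
  refine Nat.coprime_of_dvd' fun p hp hp1 hp2 => ?_
  exfalso
  haveI := Fact.mk hp
  have hp2' : p ≠ 2 := fun e => by
    subst e
    exact Nat.not_even_iff_odd.2 hT.2.2.1
      (even_iff_two_dvd.2 (hp1.trans (Subgroup.card_dvd_of_le inf_le_right)))
  obtain ⟨x, hx⟩ := exists_prime_orderOf_dvd_card' p hp1
  obtain ⟨y, hy⟩ := exists_prime_orderOf_dvd_card' p hp2
  have hxo : orderOf (x : Cfsg.Sz F m) = p := (Subgroup.orderOf_coe x).trans hx
  have hyo : orderOf (y : Cfsg.Sz F m) = p := (Subgroup.orderOf_coe y).trans hy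
  -- conjugate the two subgroups of order `p` into one cyclic Sylow subgroup of `H`
  have hpg : ∀ {z : Cfsg.Sz F m} (hz : z ∈ H), orderOf z = p →
      IsPGroup p (Subgroup.zpowers (⟨z, hz⟩ : H)) := fun hz ho => IsPGroup.of_card (n := 1)
    (by rw [Nat.card_zpowers, Subgroup.orderOf_mk, ho, pow_one])
  obtain ⟨P, hP⟩ := (hpg x.2.1 hxo).exists_le_sylow
  obtain ⟨P', hP'⟩ := (hpg y.2.1 hyo).exists_le_sylow
  obtain ⟨g, hg⟩ := MulAction.exists_smul_eq H P' P
  set y' : Cfsg.Sz F m := (g : Cfsg.Sz F m) * y * (g : Cfsg.Sz F m)⁻¹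
  set S : Subgroup (Cfsg.Sz F m) := (P : Subgroup H).map H.subtype
  have hS : IsPGroup p S := P.isPGroup'.map _
  obtain ⟨R, hR⟩ := hS.exists_le_sylow
  haveI := sylow_odd_cyclic hm hF hp2' R
  have hxS : (x : Cfsg.Sz F m) ∈ S := ⟨⟨x, x.2.1⟩, hP (Subgroup.mem_zpowers _), rfl⟩
  have hyS : y' ∈ S := by
    refine ⟨g * ⟨y, y.2.1⟩ * g⁻¹, ?_, rfl⟩
    have : g * ⟨y, y.2.1⟩ * g⁻¹ ∈ (g • P' : Sylow p H) := by
      rw [← SetLike.mem_coe, Sylow.coe_smul]
      exact Set.smul_mem_smul_set (hP' (Subgroup.mem_zpowers _))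
    rw [hg] at this
    exact this
  have hy'o : orderOf y' = p := (orderOf_conj_eq _ _).trans hyo
  have hmem : y' ∈ Subgroup.zpowers (x : Cfsg.Sz F m) := by
    have h1 : (⟨y', hR hyS⟩ : R) ∈ Subgroup.zpowers (⟨x, hR hxS⟩ : R) := by
      classical
      haveI : Fintype R := Fintype.ofFinite _
      have hsub : (Finset.univ.filter fun a : R => a ∈ Subgroup.zpowers (⟨x, hR hxS⟩ : R)) =
          Finset.univ.filter fun a : R => a ^ p = 1 := by
        refine Finset.eq_of_subset_of_card_le ?_ ?_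
        · intro a ha
          obtain ⟨i, rfl⟩ := Subgroup.mem_zpowers_iff.1 (Finset.mem_filter.1 ha).2
          refine Finset.mem_filter.2 ⟨Finset.mem_univ _, ?_⟩
          rw [← zpow_natCast, ← _root_.zpow_mul, mul_comm, _root_.zpow_mul, zpow_natCast,
            show (⟨x, hR hxS⟩ : R) ^ p = 1 from Subtype.ext (by
              show (x : Cfsg.Sz F m) ^ p = 1
              rw [← hxo, pow_orderOf_eq_one]), _root_.one_zpow]
        · refine le_trans (IsCyclic.card_pow_eq_one_le hp.pos) (le_of_eq ?_)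
          rw [← Fintype.card_subtype, ← Nat.card_eq_fintype_card]
          exact (hxo.symm.trans (Subgroup.orderOf_mk (H := (R : Subgroup (Cfsg.Sz F m))) _ (hR hxS)).symm).trans
            (Nat.card_zpowers _).symm
      have h2 : (⟨y', hR hyS⟩ : R) ∈ Finset.univ.filter fun a : R => a ^ p = 1 :=
        Finset.mem_filter.2 ⟨Finset.mem_univ _, Subtype.ext (by
          show y' ^ p = 1
          rw [← hy'o, pow_orderOf_eq_one])⟩
      rw [← hsub] at h2
      exact (Finset.mem_filter.1 h2).2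
    obtain ⟨i, hi⟩ := Subgroup.mem_zpowers_iff.1 h1
    exact Subgroup.mem_zpowers_iff.2 ⟨i, congrArg Subtype.val hi⟩
  have hy1 : (y : Cfsg.Sz F m) ≠ 1 := fun e => hp.ne_one (by rw [← hyo, e, orderOf_one])
  obtain ⟨i, hi⟩ := Subgroup.mem_zpowers_iff.1 hmem
  have m1 : (y : Cfsg.Sz F m) ∈ cls H T :=
    ⟨hy1, y.2.1, g, g.2, show y' ∈ T by rw [← hi]; exact T.zpow_mem x.2.2 i⟩
  exact Set.disjoint_left.1 hd m1 ⟨hy1, y.2.1, 1, H.one_mem, by simpa using y.2.2⟩

/-- Commuting or fused involutions. -/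
theorem involutions_conj {H : Subgroup (Cfsg.Sz F m)} {z z' : Cfsg.Sz F m} (hz : z ∈ H) (hz' : z' ∈ H)
    (ho : orderOf z = 2) (ho' : orderOf z' = 2) {p p' : Cfsg.suzukiOvoid F m} (hp : z • p = p)
    (hp' : z' • p' = p') (hne : p ≠ p') : ∃ g ∈ H, g * z * g⁻¹ = z' := by
  have hzz : z * z = 1 := by rw [← sq, ← ho, pow_orderOf_eq_one]
  have hzz' : z' * z' = 1 := by rw [← sq, ← ho', pow_orderOf_eq_one]
  set d := z * z' with hd
  have hzd : z * d * z = d⁻¹ := by
    rw [hd, _root_.mul_inv_rev, inv_eq_of_mul_eq_one_right hzz, inv_eq_of_mul_eq_one_right hzz',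
      ← mul_assoc, hzz, one_mul]
  have hzdi : ∀ i : ℕ, z * d ^ i * z = (d ^ i)⁻¹ := by
    intro i
    induction i with
    | zero => simp [hzz]
    | succ i ih =>
      calc z * d ^ (i + 1) * z = (z * d ^ i * z) * (z * d * z) := by
            rw [show (z * d ^ i * z) * (z * d * z) = z * d ^ i * (z * z) * d * z by group, hzz, mul_one,
              pow_succ]
            group
        _ = (d ^ (i + 1))⁻¹ := by rw [ih, hzd, ← _root_.mul_inv_rev, ← pow_succ']
  rcases Nat.even_or_odd (orderOf d) with ⟨i, hi⟩ | ⟨i, hi⟩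
  · exfalso
    set c := d ^ i with hc
    have hci : c⁻¹ = c := inv_eq_of_mul_eq_one_right (by rw [hc, ← pow_add, ← hi, pow_orderOf_eq_one])
    have hc1 : c ≠ 1 := by
      have := orderOf_pos d
      rw [hc]; exact pow_ne_one_of_lt_orderOf (by omega) (by omega)
    have hzc : z * c = c * z := by
      calc z * c = z * c * z * z := by rw [mul_assoc _ z z, hzz, mul_one]
        _ = c * z := by rw [hc, hzdi, ← hc, hci]
    have hz'c : z' * c = c * z' := by
      have hd' : z' = z * d := by rw [hd, ← mul_assoc, hzz, one_mul]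
      rw [hd', mul_assoc, hc, (Commute.self_pow d i).eq, ← mul_assoc, ← hc, hzc, mul_assoc]
    have h1 : z ≠ 1 := fun e => by rw [e, orderOf_one] at ho; norm_num at ho
    have h1' : z' ≠ 1 := fun e => by rw [e, orderOf_one] at ho'; norm_num at ho'
    have e1 : c • p = p := fixed_of_commute hm hF h1 hzc.symm hp
    have e2 : c • p' = p' := fixed_of_commute hm hF h1' hz'c.symm hp'
    have e3 : z • p' = p' := fixed_of_commute hm hF hc1 hzc e2
    obtain ⟨p₀, -, hu⟩ := (trType_of_order hm hF (Or.inl ho)).exists_fixed hm hF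
    exact hne ((hu p hp).trans (hu p' e3).symm)
  · refine ⟨(d ^ (i + 1))⁻¹, H.inv_mem (H.pow_mem (H.mul_mem hz hz') _), ?_⟩
    have e1 : (d ^ (i + 1))⁻¹ * z = z * d ^ (i + 1) := by
      rw [← hzdi, mul_assoc _ z z, hzz, mul_one]
    rw [inv_inv, e1, mul_assoc, ← pow_add, show i + 1 + (i + 1) = orderOf d + 1 by omega, pow_succ,
      pow_orderOf_eq_one, one_mul, hd, ← mul_assoc, hzz, one_mul]

end Cfsg.Agent.Suzuki
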