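import Cfsg.Prelude.Def_Transfer
import Cfsg.Agent.Lib.Suzuki.LieEquiv

/-!
# Conjugation, maximality and generation in the Suzuki group
-/

set_option autoImplicit false
set_option linter.unusedSectionVars false

namespace Cfsg.Agent.Suzuki

open Matrix MulAction

variable {F : Type*} [Field F] [Fintype F] [CharP F 2] {m : ℕ}
variable (hm : 1 ≤ m) (hF : Fintype.card F = 2 ^ (2 * m + 1))

include hF

/-- A non-identity translation fixes only the point at infinity. -/
theorem eq_infty_of_tr_fixed {a b : F} (h : a ≠ 0 ∨ b ≠ 0) {p : Cfsg.suzukiOvoid F m}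
    (hp : tr hF a b • p = p) : p = infty m := by
  rcases cases_point p with rfl | ⟨x, y, rfl⟩
  · rfl
  · rw [tr_smul_point] at hp
    obtain ⟨h1, h2⟩ := point_injective hp
    have ha : a = 0 := by linear_combination h1
    subst ha
    rw [zero_pow (by positivity), zero_mul, add_zero] at h2
    exact absurd (show b = 0 by linear_combination h2) (h.resolve_left (fun e => e rfl))

theorem tor_swap (s : Fˣ) : sw hF * tor hF s * sw hF = (tor hF s⁻¹ : Cfsg.Sz F m) := by
  apply Subtype.ext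
  apply Subtype.ext
  show swapMat * torusMat m s * swapMat = torusMat m s⁻¹
  ext i j
  fin_cases i <;> fin_cases j <;> simp [swapMat, torusMat, Matrix.mul_apply, Fin.sum_univ_four, Matrix.vecMul_diagonal] <;>
    ring

theorem conj_mul_tr (c d : F) (s : Fˣ) (a b : F) :
    tr hF c d * tor hF s * tr hF a b * (tr hF c d * tor hF s)⁻¹ =
      (tr hF ((s : F) ^ 2 ^ (m + 1) * a) ((s : F) ^ 2 ^ (m + 1) * (s : F) ^ 2 * b +
        c ^ 2 ^ (m + 1) * ((s : F) ^ 2 ^ (m + 1) * a) + ((s : F) ^ 2 ^ (m + 1) * a) ^ 2 ^ (m + 1) * c)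
        : Cfsg.Sz F m) := by
  rw [show tr hF c d * tor hF s * tr hF a b * (tr hF c d * tor hF s)⁻¹ =
    tr hF c d * (tor hF s * tr hF a b * (tor hF s)⁻¹) * (tr hF c d)⁻¹ by group, conj_tr,
    tr_inv, tr_mul, tr_mul]
  have h2 : (2 : F) = 0 := CharTwo.two_eq_zero
  congr 1
  · linear_combination c * h2
  · simp only [← theta_def, map_add]
    linear_combination (d + theta F m c * c) * h2

include hm

/-- Conjugating a non-identity translation into `U` needs an element of the Borel subgroup. -/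
theorem exists_of_conj_tr {a b a' b' : F} (h : a ≠ 0 ∨ b ≠ 0) {x : Cfsg.Sz F m}
    (hx : x * tr hF a b * x⁻¹ = tr hF a' b') :
    ∃ c d s, x = tr hF c d * tor hF s ∧ a' = (s : F) ^ 2 ^ (m + 1) * a ∧
      b' = (s : F) ^ 2 ^ (m + 1) * (s : F) ^ 2 * b + c ^ 2 ^ (m + 1) * a' + a' ^ 2 ^ (m + 1) * c := by
  have h1 : tr hF a b • (x⁻¹ • infty (F := F) m) = x⁻¹ • infty m := by
    rw [show tr hF a b = x⁻¹ * tr hF a' b' * x by rw [← hx]; group, mul_smul, mul_smul, smul_inv_smul,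
      tr_smul_infty]
  have h2 := eq_infty_of_tr_fixed hF h h1
  rw [inv_smul_eq_iff] at h2
  obtain ⟨c, d, s, rfl⟩ := exists_tr_to hm hF h2.symm
  rw [conj_mul_tr] at hx
  obtain ⟨rfl, rfl⟩ := tr_injective hF hx
  exact ⟨c, d, s, rfl, rfl, rfl⟩

theorem not_conj_inv {a b : F} (ha : a ≠ 0) (x : Cfsg.Sz F m) :
    x * tr hF a b * x⁻¹ ≠ (tr hF a b)⁻¹ := by
  intro h
  rw [tr_inv] at h
  obtain ⟨c, d, s, -, e1, e2⟩ := exists_of_conj_tr hm hF (Or.inl ha) h
  simp only [← theta_def] at e1 e2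
  have hs : s = 1 := by
    refine Units.ext ((theta F m).injective ?_)
    rw [Units.val_one, map_one]
    exact mul_right_cancel₀ ha (e1.symm.trans (one_mul a).symm)
  subst hs
  rw [Units.val_one, map_one, one_mul, one_pow, one_mul] at e2
  obtain ⟨u, rfl⟩ : ∃ u, c = u * a := ⟨c / a, (div_mul_cancel₀ _ ha).symm⟩
  rw [map_mul] at e2
  have h2 : (2 : F) = 0 := CharTwo.two_eq_zero
  have hne : theta F m a * a ≠ 0 := mul_ne_zero ((map_ne_zero _).2 ha) ha
  have e3 : theta F m u + u + 1 = 0 := by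
    refine (mul_eq_zero.1 (show theta F m a * a * (theta F m u + u + 1) = 0 from ?_)).resolve_left hne
    linear_combination -e2 + (theta F m a * a) * h2
  have e4 := congrArg (theta F m) e3
  rw [map_add, map_add, theta_theta hF, map_one, map_zero] at e4
  have e5 : u * (u - 1) = 0 := by linear_combination e4 - e3
  rcases mul_eq_zero.1 e5 with rfl | h5
  · simp at e3
  · rw [sub_eq_zero.1 h5, map_one] at e3
    exact one_ne_zero (show (1 : F) = 0 by linear_combination e3 - h2)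

theorem real_two_element {g : Cfsg.Sz F m} (P : Sylow 2 (Cfsg.Sz F m))
    (hg : g ∈ (P : Subgroup (Cfsg.Sz F m))) (h1 : g ≠ 1) : IsConj g g⁻¹ ↔ orderOf g = 2 := by
  haveI : Fact (Nat.Prime 2) := ⟨Nat.prime_two⟩
  obtain ⟨P₀, hP₀⟩ := exists_sylow hm hF
  obtain ⟨y, hy⟩ := MulAction.exists_smul_eq (Cfsg.Sz F m) P P₀
  have hmem : y * g * y⁻¹ ∈ (U (m := m) hF : Subgroup (Cfsg.Sz F m)) := by
    rw [← hP₀, ← hy, Sylow.coe_subgroup_smul]
    exact Subgroup.smul_mem_pointwise_smul g (MulAut.conj y) _ hg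
  obtain ⟨a, b, hab⟩ := hmem
  have hne : a ≠ 0 ∨ b ≠ 0 := by
    by_contra hcon
    push Not at hcon
    rw [hcon.1, hcon.2, tr_zero] at hab
    exact h1 (conj_eq_one_iff.1 hab)
  constructor
  · intro hconj
    by_cases ha : a = 0
    · refine orderOf_eq_prime ?_ h1
      have h2 : (y * g * y⁻¹) * (y * g * y⁻¹) = 1 := by
        rw [hab, tr_mul, ha]
        simp [CharTwo.add_self_eq_zero, tr_zero]
      rw [sq]
      calc g * g = y⁻¹ * ((y * g * y⁻¹) * (y * g * y⁻¹)) * y := by group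
        _ = 1 := by rw [h2]; group
    · exfalso
      obtain ⟨x, hx⟩ := isConj_iff.1 hconj
      refine not_conj_inv hm hF (b := b) ha (y * x * y⁻¹) ?_
      calc y * x * y⁻¹ * tr hF a b * (y * x * y⁻¹)⁻¹
          = y * (x * g * x⁻¹) * y⁻¹ := by rw [← hab]; group
        _ = (tr hF a b)⁻¹ := by rw [hx, ← hab]; group
  · intro ho
    rw [inv_eq_of_mul_eq_one_right (show g * g = 1 by
      rw [← sq, ← ho]; exact pow_orderOf_eq_one g)]

theorem closure_U_swap_eq_top {H : Subgroup (Cfsg.Sz F m)} (hU : U hF ≤ H)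
    (hV : ∀ a b, sw hF * tr hF a b * sw hF ∈ H) : H = ⊤ := by
  set N := U (m := m) hF ⊔ Subgroup.closure {g | ∃ a b, g = sw hF * tr hF a b * sw hF} with hN
  have hle : N ≤ H := sup_le hU ((Subgroup.closure_le _).2 (by rintro _ ⟨a, b, rfl⟩; exact hV a b))
  have htr : ∀ a b, tr hF a b ∈ N := fun a b => Subgroup.mem_sup_left ⟨a, b, rfl⟩
  have hst : ∀ a b, sw hF * tr hF a b * sw hF ∈ N := fun a b =>
    Subgroup.mem_sup_right (Subgroup.subset_closure ⟨a, b, rfl⟩)
  have hconj : ∀ x : Cfsg.Sz F m, (∀ a b, x * tr hF a b * x⁻¹ ∈ N) →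
      (∀ a b, x * (sw hF * tr hF a b * sw hF) * x⁻¹ ∈ N) → ∀ n ∈ N, x * n * x⁻¹ ∈ N := by
    intro x h1 h2
    have : N ≤ N.comap (MulAut.conj x).toMonoidHom := by
      refine sup_le ?_ ((Subgroup.closure_le _).2 ?_)
      · rintro _ ⟨a, b, rfl⟩; exact h1 a b
      · rintro _ ⟨a, b, rfl⟩; exact h2 a b
    exact fun n hn => this hn
  have k1 : ∀ c d, ∀ n ∈ N, tr hF c d * n * (tr hF c d)⁻¹ ∈ N := fun c d n hn =>
    mul_mem (mul_mem (htr c d) hn) (inv_mem (htr c d))
  have k2 : ∀ n ∈ N, sw hF * n * (sw hF)⁻¹ ∈ N := by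
    refine hconj _ (fun a b => by rw [sw_inv]; exact hst a b) (fun a b => ?_)
    rw [sw_inv, show sw hF * (sw hF * tr hF a b * sw hF) * sw hF =
      (sw hF * sw hF) * tr hF a b * (sw hF * sw hF) by group, sw_mul_self]
    simpa using htr a b
  have k3 : ∀ s, ∀ n ∈ N, tor hF s * n * (tor hF s)⁻¹ ∈ N := by
    intro s
    refine hconj _ (fun a b => by rw [conj_tr]; exact htr _ _) (fun a b => ?_)
    have hsw := sw_mul_self (m := m) hF
    have e : tor hF s * (sw hF * tr hF a b * sw hF) * (tor hF s)⁻¹ =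
        sw hF * (tor hF s⁻¹ * tr hF a b * (tor hF s⁻¹)⁻¹) * sw hF := by
      rw [tor_inv, tor_inv, inv_inv, ← tor_swap hF s]
      calc tor hF s * (sw hF * tr hF a b * sw hF) * (sw hF * tor hF s * sw hF)
          = tor hF s * sw hF * tr hF a b * (sw hF * sw hF) * (tor hF s * sw hF) := by group
        _ = (sw hF * sw hF) * tor hF s * sw hF * tr hF a b * (tor hF s * sw hF) := by
            rw [hsw]; group
        _ = _ := by group
    rw [e, conj_tr]
    exact hst _ _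
  haveI : N.Normal := ⟨fun n hn g => by
    rcases bruhat hm hF g with ⟨a, b, s, rfl⟩ | ⟨a, b, c, d, s, rfl⟩
    · rw [show tr hF a b * tor hF s * n * (tr hF a b * tor hF s)⁻¹ =
        tr hF a b * (tor hF s * n * (tor hF s)⁻¹) * (tr hF a b)⁻¹ by group]
      exact k1 a b _ (k3 s n hn)
    · rw [show tr hF a b * sw hF * (tr hF c d * tor hF s) * n *
          (tr hF a b * sw hF * (tr hF c d * tor hF s))⁻¹ =
        tr hF a b * (sw hF * (tr hF c d * (tor hF s * n * (tor hF s)⁻¹) * (tr hF c d)⁻¹) * (sw hF)⁻¹) *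
          (tr hF a b)⁻¹ by group]
      exact k1 a b _ (k2 _ (k1 c d _ (k3 s n hn)))⟩
  exact top_le_iff.1 ((eq_top_of_tr_mem hm hF htr).symm.le.trans hle)

theorem borel_isCoatom : IsCoatom (stabilizer (Cfsg.Sz F m) (infty (F := F) m)) := by
  haveI := pretransitive hF
  haveI : Nontrivial (Cfsg.suzukiOvoid F m) := ⟨⟨infty m, point m 0 0, (point_ne_infty _ _).symm⟩⟩
  exact (isCoatom_stabilizer_iff_preprimitive _ _).2
    (isPreprimitive_of_is_two_pretransitive (two_transitive hF))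

theorem borel_unique {M : Subgroup (Cfsg.Sz F m)} (hM : IsCoatom M) (hU : U hF ≤ M) :
    M = stabilizer (Cfsg.Sz F m) (infty (F := F) m) := by
  have hne : stabilizer (Cfsg.Sz F m) (infty (F := F) m) ≠ ⊤ := (borel_isCoatom hm hF).1
  by_contra hcon
  have : ∃ g ∈ M, g • infty (F := F) m ≠ infty m := by
    by_contra h
    push Not at h
    have hle : M ≤ stabilizer (Cfsg.Sz F m) (infty (F := F) m) := h
    exact hcon (eq_of_le_of_not_lt hle fun hlt => hne (hM.2 _ hlt))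
  obtain ⟨g, hg, hgi⟩ := this
  obtain ⟨a, b, hab⟩ := (cases_point (g • infty (F := F) m)).resolve_left hgi
  have hmem : (tr hF a b)⁻¹ * g ∈ M := mul_mem (inv_mem (hU ⟨a, b, rfl⟩)) hg
  obtain ⟨c, d, s, hs⟩ := exists_tr_to hm hF (g := sw hF * ((tr hF a b)⁻¹ * g)) (by
    rw [mul_smul, mul_smul, hab, show (tr hF a b)⁻¹ • point (F := F) m a b = point m 0 0 by
      rw [inv_smul_eq_iff, tr_smul_zero], sw_smul_zero])
  have hsw := sw_mul_self (m := m) hF
  have hh : (tr hF a b)⁻¹ * g = sw hF * (tr hF c d * tor hF s) := by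
    rw [← hs, ← mul_assoc, hsw, one_mul]
  rw [hh] at hmem
  refine hM.1 (closure_U_swap_eq_top hm hF hU fun x y => ?_)
  obtain ⟨x', y', hxy⟩ : ∃ x' y', tr hF c d * tor hF s * tr hF x' y' * (tr hF c d * tor hF s)⁻¹ =
      tr hF x y := by
    have hnorm : tr hF c d * tor hF s ∈ Subgroup.normalizer (U (m := m) hF : Set (Cfsg.Sz F m)) := by
      rw [normalizer_U hm hF, mem_stabilizer_iff, mul_smul, tor_smul_infty, tr_smul_infty]
    have hz : (tr hF c d * tor hF s)⁻¹ * tr hF x y * (tr hF c d * tor hF s) ∈ U (m := m) hF := by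
      refine (Subgroup.mem_set_normalizer_iff.1 hnorm _).2 ?_
      rw [show tr hF c d * tor hF s * ((tr hF c d * tor hF s)⁻¹ * tr hF x y * (tr hF c d * tor hF s)) *
        (tr hF c d * tor hF s)⁻¹ = tr hF x y by group]
      exact ⟨x, y, rfl⟩
    obtain ⟨x', y', e⟩ := hz
    exact ⟨x', y', by rw [← e]; group⟩
  have h3 := mul_mem (mul_mem hmem (hU ⟨x', y', rfl⟩)) (inv_mem hmem)
  rw [show sw hF * (tr hF c d * tor hF s) * tr hF x' y' * (sw hF * (tr hF c d * tor hF s))⁻¹ =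
    sw hF * (tr hF c d * tor hF s * tr hF x' y' * (tr hF c d * tor hF s)⁻¹) * (sw hF)⁻¹ by group,
    hxy, sw_inv] at h3
  exact h3

theorem sylow_unique_maximal (P : Sylow 2 (Cfsg.Sz F m)) :
    IsCoatom (Subgroup.normalizer ((P : Subgroup (Cfsg.Sz F m)) : Set (Cfsg.Sz F m))) ∧
      ∀ M : Subgroup (Cfsg.Sz F m), IsCoatom M → (P : Subgroup (Cfsg.Sz F m)) ≤ M →
        M = Subgroup.normalizer ((P : Subgroup (Cfsg.Sz F m)) : Set (Cfsg.Sz F m)) := by
  haveI : Fact (Nat.Prime 2) := ⟨Nat.prime_two⟩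
  obtain ⟨P₀, hP₀⟩ := exists_sylow hm hF
  obtain ⟨y, hy⟩ := MulAction.exists_smul_eq (Cfsg.Sz F m) P₀ P
  set φ : Subgroup (Cfsg.Sz F m) ≃o Subgroup (Cfsg.Sz F m) :=
    MulEquiv.mapSubgroup (MulAut.conj y) with hφ
  have hPeq : (P : Subgroup (Cfsg.Sz F m)) = φ (U hF) := by
    rw [← hy, Sylow.coe_subgroup_smul, hP₀]
    rfl
  have hN : Subgroup.normalizer ((P : Subgroup (Cfsg.Sz F m)) : Set (Cfsg.Sz F m)) =
      φ (stabilizer (Cfsg.Sz F m) (infty (F := F) m)) := by
    rw [hPeq, ← normalizer_U hm hF]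
    exact (Subgroup.map_equiv_normalizer_eq (U hF) (MulAut.conj y)).symm
  refine ⟨hN ▸ (φ.isCoatom_iff _).2 (borel_isCoatom hm hF), fun M hM hle => ?_⟩
  have h1 := borel_unique hm hF ((φ.symm.isCoatom_iff M).2 hM)
    (by rw [OrderIso.le_symm_apply, ← hPeq]; exact hle)
  rw [hN, ← h1, φ.apply_symm_apply]

theorem two_generated : ∃ a b : Cfsg.Sz F m, Subgroup.closure {a, b} = ⊤ := by
  obtain ⟨z, hz⟩ := IsCyclic.exists_generator (α := Fˣ)
  refine ⟨tor hF z, tr hF 1 0 * sw hF, ?_⟩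
  set H := Subgroup.closure {tor hF z, tr hF 1 0 * sw hF} with hH
  have hsw := sw_mul_self (m := m) hF
  have hb : tr hF 1 0 * sw hF ∈ H := Subgroup.subset_closure (Or.inr rfl)
  have htor : ∀ s, tor hF s ∈ H := by
    let φ : Fˣ →* Cfsg.Sz F m := MonoidHom.mk' (tor hF) (tor_mul hF)
    intro s
    obtain ⟨k, rfl⟩ := Subgroup.mem_zpowers_iff.1 (hz s)
    rw [show tor hF (z ^ k) = φ (z ^ k) from rfl, map_zpow]
    exact zpow_mem (Subgroup.subset_closure
      (show tor hF z ∈ ({tor hF z, tr hF 1 0 * sw hF} : Set (Cfsg.Sz F m)) from Or.inl rfl)) k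
  obtain ⟨s, hs⟩ := exists_unit_ne_one (F := F) hm hF
  obtain ⟨a₀, c₀, ha₀, hmem⟩ : ∃ a₀ c₀, a₀ ≠ 0 ∧ tr hF a₀ c₀ ∈ H := by
    have e : tr hF 1 0 * sw hF * tor hF s * (tr hF 1 0 * sw hF)⁻¹ * tor hF s =
        tr hF 1 0 * (tor hF s⁻¹ * (tr hF 1 0)⁻¹ * (tor hF s⁻¹)⁻¹) := by
      calc tr hF 1 0 * sw hF * tor hF s * (tr hF 1 0 * sw hF)⁻¹ * tor hF s
          = tr hF 1 0 * (sw hF * tor hF s * (sw hF)⁻¹) * (tr hF 1 0)⁻¹ * tor hF s := by group
        _ = _ := by rw [sw_inv, tor_swap, tor_inv, inv_inv]; group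
    have hm' := mul_mem (mul_mem (mul_mem hb (htor s)) (inv_mem hb)) (htor s)
    rw [e, tr_inv, conj_tr, tr_mul] at hm'
    refine ⟨_, _, fun e0 => hs ?_, hm'⟩
    have h1 : (((s⁻¹ : Fˣ) : F)) ^ 2 ^ (m + 1) = 1 := by
      rw [mul_one] at e0
      exact (CharTwo.add_eq_zero.1 e0).symm
    rw [← theta_def, ← map_one (theta F m)] at h1
    exact inv_eq_one.1 (Units.ext ((theta F m).injective h1))
  have htra : ∀ s : Fˣ, ∃ c, tr hF ((s : F) ^ 2 ^ (m + 1) * a₀) c ∈ H := fun s => by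
    have h := mul_mem (mul_mem (htor s) hmem) (inv_mem (htor s))
    rw [conj_tr] at h
    exact ⟨_, h⟩
  have hfirst : ∀ a : F, ∃ c, tr hF a c ∈ H := by
    intro a
    by_cases ha : a = 0
    · exact ⟨0, by rw [ha, tr_zero]; exact one_mem _⟩
    obtain ⟨u, hu⟩ := exists_theta hF (m := m) (a / a₀)
    have hu0 : u ≠ 0 := fun e => by
      rw [e, map_zero] at hu
      exact div_ne_zero ha ha₀ hu.symm
    obtain ⟨c, hc⟩ := htra (Units.mk0 u hu0)
    rw [Units.val_mk0, ← theta_def, hu, div_mul_cancel₀ _ ha₀] at hc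
    exact ⟨c, hc⟩
  have hinj : Function.Injective (fun a : F => theta F m a * a) := by
    intro x y e
    have e' : theta F m x * x = theta F m y * y := e
    by_cases hy : y = 0
    · subst hy
      rw [mul_zero, mul_eq_zero, map_eq_zero, or_self] at e'
      exact e'
    · have h0 : theta F m y ≠ 0 := (map_ne_zero _).2 hy
      refine (div_eq_one_iff_eq hy).1 (eq_one_of_theta_mul hF (m := m) ?_)
      rw [map_div₀]
      field_simp
      linear_combination e'
  have hsq : ∀ b : F, tr hF 0 b ∈ H := by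
    intro b
    obtain ⟨a, ha⟩ := Finite.surjective_of_injective hinj b
    have ha' : a ^ 2 ^ (m + 1) * a = b := by rw [← theta_def]; exact ha
    obtain ⟨c, hc⟩ := hfirst a
    have := mul_mem hc hc
    rwa [tr_mul, CharTwo.add_self_eq_zero, CharTwo.add_self_eq_zero, zero_add, ha'] at this
  have hU : U hF ≤ H := by
    rintro _ ⟨a, b, rfl⟩
    obtain ⟨c, hc⟩ := hfirst a
    have := mul_mem hc (hsq (c + b))
    rwa [tr_mul, add_zero, mul_zero, add_zero, ← add_assoc, CharTwo.add_self_eq_zero, zero_add] at this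
  have hswH : sw hF ∈ H := by simpa using mul_mem (inv_mem (hU ⟨1, 0, rfl⟩)) hb
  exact closure_U_swap_eq_top hm hF hU fun a b => mul_mem (mul_mem hswH (hU ⟨a, b, rfl⟩)) hswH

omit hm in
theorem orderOf_center_tr {b : F} (hb : b ≠ 0) : orderOf (tr hF 0 b : Cfsg.Sz F m) = 2 := by
  refine orderOf_eq_prime (p := 2) ?_ fun e => ?_
  · rw [sq, tr_mul]; simp [CharTwo.add_self_eq_zero, tr_zero]
  · rw [← tr_zero hF] at e
    exact hb (tr_injective hF e).2

theorem ti_iff (n : ℕ) (hn : 2 ≤ n) :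
    (∃ E : Subgroup (Cfsg.Sz F m), Cfsg.IsElementaryAbelian 2 E ∧ Nat.card E = 2 ^ n ∧
      ∀ x : Cfsg.Sz F m, E ⊓ E.map (MulAut.conj x).toMonoidHom ≠ ⊥ →
        x ∈ Subgroup.normalizer (E : Set (Cfsg.Sz F m))) ↔ n ∣ 2 * m + 1 := by
  haveI : Fact (Nat.Prime 2) := ⟨Nat.prime_two⟩
  have hmul : ∀ μ : F, μ ≠ 0 → ∃ s : Fˣ, (s : F) ^ 2 ^ (m + 1) * (s : F) ^ 2 = μ := by
    intro μ hμ
    have hinj : Function.Injective (fun a : F => theta F m a * a ^ 2) := by
      intro x y e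
      have e' : theta F m x * x ^ 2 = theta F m y * y ^ 2 := e
      by_cases hy : y = 0
      · subst hy
        rw [map_zero, zero_mul, mul_eq_zero, map_eq_zero, pow_eq_zero_iff two_ne_zero, or_self] at e'
        exact e'
      · have h0 : theta F m y ≠ 0 := (map_ne_zero _).2 hy
        refine (div_eq_one_iff_eq hy).1 (eq_one_of_theta_mul_sq hF (m := m) ?_)
        rw [map_div₀]
        field_simp
        linear_combination e'
    obtain ⟨a, ha⟩ := Finite.surjective_of_injective hinj μ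
    have ha' : theta F m a * a ^ 2 = μ := ha
    refine ⟨Units.mk0 a fun e => hμ ?_, ?_⟩
    · rw [← ha', e]; simp
    · rw [Units.val_mk0, ← theta_def]; exact ha'
  constructor
  · rintro ⟨E, ⟨-, hexp⟩, hcard, hTI⟩
    obtain ⟨P₀, hP₀⟩ := exists_sylow hm hF
    obtain ⟨P, hP⟩ := (IsPGroup.of_card hcard).exists_le_sylow
    obtain ⟨y, hy⟩ := MulAction.exists_smul_eq (Cfsg.Sz F m) P P₀
    have hE : ∀ g ∈ E, ∃ b, y * g * y⁻¹ = tr hF 0 b := by
      intro g hg
      have hmem : y * g * y⁻¹ ∈ (U (m := m) hF : Subgroup (Cfsg.Sz F m)) := by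
        rw [← hP₀, ← hy, Sylow.coe_subgroup_smul]
        exact Subgroup.smul_mem_pointwise_smul g (MulAut.conj y) _ (hP hg)
      obtain ⟨a, b, hab⟩ := hmem
      have h2 : (y * g * y⁻¹) * (y * g * y⁻¹) = 1 := by
        rw [show (y * g * y⁻¹) * (y * g * y⁻¹) = y * g ^ 2 * y⁻¹ by rw [sq]; group, hexp g hg]; group
      rw [hab, tr_mul, ← tr_zero hF] at h2
      have h3 := (tr_injective hF h2).2
      rw [CharTwo.add_self_eq_zero, zero_add, mul_eq_zero, pow_eq_zero_iff (by positivity), or_self] at h3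
      exact ⟨b, by rw [hab, h3]⟩
    let B : AddSubgroup F :=
      { carrier := {b | y⁻¹ * tr hF 0 b * y ∈ E}
        zero_mem' := by simp [tr_zero]
        add_mem' := fun {b c} hb hc => by
          have h := E.mul_mem hb hc
          have e : y⁻¹ * tr hF 0 b * y * (y⁻¹ * tr hF 0 c * y) = y⁻¹ * tr hF 0 (b + c) * y := by
            rw [show y⁻¹ * tr hF 0 b * y * (y⁻¹ * tr hF 0 c * y) = y⁻¹ * (tr hF 0 b * tr hF 0 c) * y by
              group, tr_mul]
            simp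
          rwa [e] at h
        neg_mem' := fun {b} hb => by rwa [CharTwo.neg_eq] }
    have hBE : ∀ b, b ∈ B ↔ y⁻¹ * tr hF 0 b * y ∈ E := fun b => Iff.rfl
    have hBcard : Nat.card B = 2 ^ n := by
      rw [← hcard]
      refine Nat.card_eq_of_bijective (fun b : B => (⟨_, (hBE b).1 b.2⟩ : E)) ⟨fun b c h => ?_, ?_⟩
      · exact Subtype.ext (tr_injective hF
          (mul_left_cancel (mul_right_cancel (congrArg Subtype.val h)))).2
      · rintro ⟨g, hg⟩
        obtain ⟨b, hb⟩ := hE g hg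
        have e : y⁻¹ * tr hF 0 b * y = g := by rw [← hb]; group
        exact ⟨⟨b, by rw [hBE, e]; exact hg⟩, Subtype.ext e⟩
    have key : ∀ μ : F, ∀ b₀ ∈ B, b₀ ≠ 0 → μ * b₀ ∈ B → ∀ b ∈ B, μ * b ∈ B := by
      intro μ b₀ hb₀ hb₀0 hμb₀ b hb
      by_cases hμ : μ = 0
      · rw [hμ, zero_mul]; exact B.zero_mem
      obtain ⟨s, hs⟩ := hmul μ hμ
      set x := y⁻¹ * tor hF s * y with hx
      have hxc : ∀ c, x * (y⁻¹ * tr hF 0 c * y) * x⁻¹ = y⁻¹ * tr hF 0 (μ * c) * y := by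
        intro c
        rw [hx, show y⁻¹ * tor hF s * y * (y⁻¹ * tr hF 0 c * y) * (y⁻¹ * tor hF s * y)⁻¹ =
          y⁻¹ * (tor hF s * tr hF 0 c * (tor hF s)⁻¹) * y by group, conj_tr, mul_zero, hs]
      have hxn : x ∈ Subgroup.normalizer (E : Set (Cfsg.Sz F m)) := by
        refine hTI x fun hbot => ?_
        have h3 : y⁻¹ * tr hF 0 (μ * b₀) * y ∈ E ⊓ E.map (MulAut.conj x).toMonoidHom :=
          ⟨hμb₀, ⟨_, hb₀, hxc b₀⟩⟩
        rw [hbot, Subgroup.mem_bot] at h3
        have h4 : tr hF 0 (μ * b₀) = (1 : Cfsg.Sz F m) := by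
          calc tr hF 0 (μ * b₀) = y * (y⁻¹ * tr hF 0 (μ * b₀) * y) * y⁻¹ := by group
            _ = 1 := by rw [h3]; group
        rw [← tr_zero hF] at h4
        exact mul_ne_zero hμ hb₀0 (tr_injective hF h4).2
      have h := (Subgroup.mem_set_normalizer_iff.1 hxn _).1 hb
      rwa [hxc] at h
    obtain ⟨b₁, hb₁, hb₁0⟩ : ∃ b ∈ B, b ≠ 0 := by
      by_contra h
      push Not at h
      have : Nat.card B = 1 := by
        rw [AddSubgroup.card_eq_one, AddSubgroup.eq_bot_iff_forall]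
        exact h
      rw [hBcard] at this
      exact absurd this (Nat.one_lt_two_pow (by omega)).ne'
    have hKinv : ∀ μ : F, μ ≠ 0 → (∀ b ∈ B, μ * b ∈ B) → ∀ b ∈ B, μ⁻¹ * b ∈ B := by
      intro μ hμ h
      exact key μ⁻¹ (μ * b₁) (h b₁ hb₁) (mul_ne_zero hμ hb₁0) (by rw [inv_mul_cancel_left₀ hμ]; exact hb₁)
    let K : Subfield F :=
      { carrier := {μ | ∀ b ∈ B, μ * b ∈ B}
        one_mem' := fun b hb => by rwa [one_mul]
        mul_mem' := fun {p q} hp hq b hb => by rw [mul_assoc]; exact hp _ (hq _ hb)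
        zero_mem' := fun b _ => by rw [zero_mul]; exact B.zero_mem
        add_mem' := fun {p q} hp hq b hb => by rw [add_mul]; exact B.add_mem (hp _ hb) (hq _ hb)
        neg_mem' := fun {p} hp b hb => by rw [neg_mul]; exact B.neg_mem (hp _ hb)
        inv_mem' := fun p hp b hb => by
          by_cases h0 : p = 0
          · rw [h0, _root_.inv_zero, zero_mul]; exact B.zero_mem
          · exact hKinv p h0 hp b hb }
    have hKcard : Nat.card K = 2 ^ n := by
      rw [← hBcard]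
      refine Nat.card_eq_of_bijective (fun μ : K => (⟨(μ : F) * b₁, μ.2 b₁ hb₁⟩ : B)) ⟨fun μ ν h => ?_, ?_⟩
      · exact Subtype.ext (mul_right_cancel₀ hb₁0 (congrArg Subtype.val h))
      · rintro ⟨b, hb⟩
        refine ⟨⟨b / b₁, key _ b₁ hb₁ hb₁0 (by rwa [div_mul_cancel₀ _ hb₁0])⟩, Subtype.ext ?_⟩
        exact div_mul_cancel₀ _ hb₁0
    have hdeg := Module.natCard_eq_pow_finrank (K := K) (V := F)
    rw [Nat.card_eq_fintype_card, hF, hKcard, ← pow_mul] at hdeg
    exact ⟨_, Nat.pow_right_injective le_rfl hdeg⟩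
  · intro hdvd
    letI : Algebra (ZMod 2) F := ZMod.algebra F 2
    have hfr : Module.finrank (ZMod 2) F = 2 * m + 1 := by
      refine Nat.pow_right_injective le_rfl ?_
      show 2 ^ Module.finrank (ZMod 2) F = 2 ^ (2 * m + 1)
      rw [← hF, ← Nat.card_eq_fintype_card, Module.natCard_eq_pow_finrank (K := ZMod 2) (V := F),
        Nat.card_zmod]
    obtain ⟨φ⟩ := FiniteField.nonempty_algHom_of_finrank_dvd (F := ZMod 2) (K := GaloisField 2 n)
      (L := F) (by rwa [GaloisField.finrank 2 (show n ≠ 0 by omega), hfr])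
    let K := φ.fieldRange.toSubfield
    have hK : Nat.card K = 2 ^ n := by
      rw [← GaloisField.card 2 n (by omega)]
      exact (Nat.card_congr (Equiv.ofInjective φ φ.injective)).symm
    let E : Subgroup (Cfsg.Sz F m) :=
      { carrier := {g | ∃ b ∈ K, g = tr hF 0 b}
        one_mem' := ⟨0, K.zero_mem, (tr_zero hF).symm⟩
        mul_mem' := by
          rintro _ _ ⟨b, hb, rfl⟩ ⟨c, hc, rfl⟩
          exact ⟨b + c, K.add_mem hb hc, by rw [tr_mul]; simp⟩
        inv_mem' := by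
          rintro _ ⟨b, hb, rfl⟩
          exact ⟨b, hb, by rw [tr_inv]; simp⟩ }
    refine ⟨E, ⟨⟨⟨fun g h => Subtype.ext ?_⟩⟩, ?_⟩, ?_, fun x hx => ?_⟩
    · obtain ⟨g, b, hb, rfl⟩ := g
      obtain ⟨h, c, hc, rfl⟩ := h
      show tr hF 0 b * tr hF 0 c = tr hF 0 c * tr hF 0 b
      rw [tr_mul, tr_mul]; simp [add_comm]
    · rintro _ ⟨b, hb, rfl⟩
      rw [sq, tr_mul]; simp [CharTwo.add_self_eq_zero, tr_zero]
    · rw [← hK]
      refine (Nat.card_eq_of_bijective (fun b : K => (⟨tr hF 0 b, b, b.2, rfl⟩ : E))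
        ⟨fun b c h => Subtype.ext (tr_injective hF (congrArg Subtype.val h)).2, ?_⟩).symm
      rintro ⟨g, b, hb, rfl⟩
      exact ⟨⟨b, hb⟩, rfl⟩
    · obtain ⟨g, hg, hg1⟩ := (E ⊓ E.map (MulAut.conj x).toMonoidHom).bot_or_exists_ne_one.resolve_left hx
      obtain ⟨⟨b', hb', rfl⟩, ⟨_, ⟨b, hb, rfl⟩, hconj⟩⟩ := hg
      have hb0 : b ≠ 0 := by
        rintro rfl
        refine hg1 ?_
        rw [← hconj, tr_zero, map_one]
      obtain ⟨c, d, s, rfl, -, e2⟩ := exists_of_conj_tr hm hF (a := 0) (b := b) (Or.inr hb0) hconj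
      simp only [mul_zero, add_zero, zero_pow (show 2 ^ (m + 1) ≠ 0 by positivity), zero_mul] at e2
      have hμK : (s : F) ^ 2 ^ (m + 1) * (s : F) ^ 2 ∈ K := by
        have : (s : F) ^ 2 ^ (m + 1) * (s : F) ^ 2 = b' / b := by rw [e2, mul_div_cancel_right₀ _ hb0]
        rw [this]; exact K.div_mem hb' hb
      have hle : ∀ g ∈ E, tr hF c d * tor hF s * g * (tr hF c d * tor hF s)⁻¹ ∈ E := by
        rintro _ ⟨e, he, rfl⟩
        refine ⟨_, K.mul_mem hμK he, ?_⟩
        rw [conj_mul_tr]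
        simp
      have hmap : E.map (MulAut.conj (tr hF c d * tor hF s)).toMonoidHom = E :=
        Subgroup.eq_of_le_of_card_ge (by rintro _ ⟨g, hg, rfl⟩; exact hle g hg)
          (by rw [Subgroup.card_map_of_injective (MulAut.conj _).injective])
      rw [Subgroup.mem_set_normalizer_iff]
      intro g
      constructor
      · exact hle g
      · intro hg
        rw [SetLike.mem_coe, ← hmap, Subgroup.mem_map] at hg
        obtain ⟨g', hg', e⟩ := hg
        rwa [← (MulAut.conj (tr hF c d * tor hF s)).injective e]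

end Cfsg.Agent.Suzuki
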