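import Cfsg.Agent.Lib.Suzuki.Multiplier
import Cfsg.Agent.Lib.Suzuki.LieEquiv

/-! The derived group of the preimage of a Sylow 2-subgroup in a central extension of `Sz(q)`. -/

set_option autoImplicit false
set_option linter.unusedSectionVars false

namespace Cfsg.Agent.Suzuki.MultiplierSylow

open Cfsg.Agent.Suzuki Cfsg.Agent.Suzuki.Multiplier
open scoped commutatorElement

variable {F : Type*} [Field F] [Fintype F] [CharP F 2] {m : ℕ}
variable (hm : 2 ≤ m) (hF : Fintype.card F = 2 ^ (2 * m + 1))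
variable {Γ : Type*} [Group Γ] (σ : Γ →* Cfsg.Sz F m) (hsur : Function.Surjective σ)
  (hc : σ.ker ≤ Subgroup.center Γ)

include hc

theorem central {z : Γ} (hz : σ z = 1) (g : Γ) : Commute g z :=
  Subgroup.mem_center_iff.1 (hc (MonoidHom.mem_ker.2 hz)) g

theorem exists_central {g g' : Γ} (h : σ g = σ g') : ∃ z, σ z = 1 ∧ g' = g * z :=
  ⟨g⁻¹ * g', by rw [map_mul, map_inv, h, inv_mul_cancel], (mul_inv_cancel_left g g').symm⟩

theorem conj_congr {t t' : Γ} (h : σ t = σ t') (g : Γ) : t * g * t⁻¹ = t' * g * t'⁻¹ := by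
  obtain ⟨z, hz, rfl⟩ := exists_central σ hc h
  rw [mul_inv_rev, show t * z * g * (z⁻¹ * t⁻¹) = t * (z * g) * (z⁻¹ * t⁻¹) by group,
    ← (central σ hc hz g).eq]
  group

theorem comm_congr {g g' h h' : Γ} (hg : σ g = σ g') (hh : σ h = σ h') : ⁅g, h⁆ = ⁅g', h'⁆ := by
  rw [commutatorElement_def, commutatorElement_def, conj_congr σ hc hg h]
  obtain ⟨z, hz, rfl⟩ := exists_central σ hc hh
  rw [mul_inv_rev, show g' * (h * z) * g'⁻¹ * (z⁻¹ * h⁻¹) = g' * h * (z * g'⁻¹) * z⁻¹ * h⁻¹ by group,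
    ← (central σ hc hz g'⁻¹).eq]
  group

theorem comm_mul_left {g g' h : Γ} (hg : ∀ x, Commute x ⁅g', h⁆) :
    ⁅g * g', h⁆ = ⁅g, h⁆ * ⁅g', h⁆ := by
  calc ⁅g * g', h⁆ = g * ⁅g', h⁆ * g⁻¹ * ⁅g, h⁆ := by
        simp only [commutatorElement_def, mul_inv_rev]; group
    _ = ⁅g', h⁆ * ⁅g, h⁆ := by rw [(hg g).eq, mul_inv_cancel_right]
    _ = _ := ((hg _).eq).symm

theorem comm_mul_right {g h h' : Γ} (hg : ∀ x, Commute x ⁅g, h'⁆) :
    ⁅g, h * h'⁆ = ⁅g, h⁆ * ⁅g, h'⁆ := by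
  calc ⁅g, h * h'⁆ = ⁅g, h⁆ * (h * ⁅g, h'⁆ * h⁻¹) := by
        simp only [commutatorElement_def, mul_inv_rev]; group
    _ = _ := by rw [(hg h).eq, mul_inv_cancel_right]

omit hc in
theorem conj_comm (t g h : Γ) : t * ⁅g, h⁆ * t⁻¹ = ⁅t * g * t⁻¹, t * h * t⁻¹⁆ := by
  simp only [commutatorElement_def]
  group

omit hc in
theorem theta_unit {w : F} (hF : Fintype.card F = 2 ^ (2 * m + 1)) (hw : w ≠ 0) :
    ∃ s : Fˣ, theta F m (s : F) = w := by
  obtain ⟨y, hy⟩ := exists_theta (m := m) hF w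
  exact ⟨Units.mk0 y fun h => hw (by rw [← hy, h, map_zero]), by simpa using hy⟩

omit hc in
include hF in
theorem psi_unit {w : F} (hw : w ≠ 0) : ∃ s : Fˣ, theta F m (s : F) * (s : F) ^ 2 = w := by
  have hinj : Function.Injective
      (fun s : Fˣ => (Units.map (theta F m).toMonoidHom s * s ^ 2 : Fˣ)) := by
    intro s t h
    have h' : theta F m (s : F) * (s : F) ^ 2 = theta F m (t : F) * (t : F) ^ 2 :=
      congrArg Units.val h
    have h1 : theta F m ((s : F) / t) * ((s : F) / t) ^ 2 = 1 := by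
      rw [map_div₀, div_pow, div_mul_div_comm, h', div_self]
      exact mul_ne_zero ((_root_.map_ne_zero _).2 t.ne_zero) (pow_ne_zero _ t.ne_zero)
    exact Units.ext ((div_eq_one_iff_eq t.ne_zero).1 (eq_one_of_theta_mul_sq hF h1))
  obtain ⟨s, hs⟩ := Finite.surjective_of_injective hinj (Units.mk0 w hw)
  exact ⟨s, congrArg Units.val hs⟩

omit hc in
theorem tr_zero_mul (b b' : F) :
    (tr hF 0 b * tr hF 0 b' : Cfsg.Sz F m) = tr hF 0 (b + b') := by
  rw [tr_mul]; simp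

omit hc in
theorem sigma_comm {g h : Γ} {a b c d : F} (hg : σ g = tr hF a b) (hh : σ h = tr hF c d) :
    σ ⁅g, h⁆ = tr hF 0 (a ^ 2 ^ (m + 1) * c + c ^ 2 ^ (m + 1) * a) := by
  rw [map_commutatorElement, hg, hh, commutatorElement_def]
  exact congrArg Subtype.val (comm_eq hF a b c d)

omit hc in
theorem sigma_conj {t g : Γ} {s : Fˣ} {a b : F} (ht : σ t = tor hF s) (hg : σ g = tr hF a b) :
    σ (t * g * t⁻¹) = tr hF (theta F m (s : F) * a) (theta F m (s : F) * (s : F) ^ 2 * b) := by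
  rw [map_mul, map_mul, map_inv, ht, hg, conj_tr, theta_def]

include hsur

/-- Lifts of elements of the centre of `U` commute with lifts of such elements, provided inversion
is not additive. -/
theorem comm_center_of
    (hwit : ∃ w₁ w₂ : F, w₁ ≠ 0 ∧ w₂ ≠ 0 ∧ w₁ + w₂ ≠ 0 ∧ w₁⁻¹ + w₂⁻¹ ≠ 0 ∧ (w₁ + w₂)⁻¹ ≠ w₁⁻¹ + w₂⁻¹)
    (g g' : Γ) {b b' : F} (hg : σ g = tr hF 0 b) (hg' : σ g' = tr hF 0 b') : ⁅g, g'⁆ = 1 := by
  choose l hl using hsur
  let L : F → Γ := fun b => l (tr hF 0 b)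
  have hker : ∀ x y, σ ⁅L x, L y⁆ = 1 := fun x y => by
    rw [sigma_comm hF σ (hl _) (hl _)]
    simp [tr_zero hF, zero_pow (pow_ne_zero (m + 1) two_ne_zero)]
  letI : CommGroup σ.ker :=
    { mul_comm := fun x y => Subtype.ext (central σ hc (MonoidHom.mem_ker.1 y.2) x.1).eq }
  let B : F → F → σ.ker := fun x y => ⟨⁅L x, L y⁆, MonoidHom.mem_ker.2 (hker x y)⟩
  have hmul : ∀ x y, σ (L (x + y)) = σ (L x * L y) := fun x y => by
    rw [map_mul, hl, hl, hl, tr_zero_mul]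
  have hB : ∀ x y, B x y = 1 := by
    refine pairing_eq_one B (fun w => w⁻¹) ?_ ?_ ?_ ?_ hwit
    · intro x x' y
      refine Subtype.ext ?_
      change ⁅L (x + x'), L y⁆ = ⁅L x, L y⁆ * ⁅L x', L y⁆
      rw [comm_congr σ hc (hmul x x') (rfl : σ (L y) = σ (L y)),
        comm_mul_left σ hc (fun z => central σ hc (hker _ _) z)]
    · intro x y y'
      refine Subtype.ext ?_
      change ⁅L x, L (y + y')⁆ = ⁅L x, L y⁆ * ⁅L x, L y'⁆
      rw [comm_congr σ hc (rfl : σ (L x) = σ (L x)) (hmul y y'),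
        comm_mul_right σ hc (fun z => central σ hc (hker _ _) z)]
    · intro x w hw
      refine Subtype.ext ?_
      change ⁅L x, L w⁻¹⁆ = ⁅L (x * w), L 1⁆
      obtain ⟨s, hs⟩ := psi_unit (m := m) hF hw
      have h1 := conj_comm (l (tor hF s)) (L x) (L w⁻¹)
      rw [(central σ hc (hker _ _) _).eq, mul_inv_cancel_right] at h1
      rw [h1]
      refine comm_congr σ hc ?_ ?_
      · rw [sigma_conj hF σ (hl _) (hl _), hl, mul_zero, hs, mul_comm w x]
      · rw [sigma_conj hF σ (hl _) (hl _), hl, mul_zero, hs, mul_inv_cancel₀ hw]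
    · intro y hy
      exact ⟨y⁻¹, inv_ne_zero hy, inv_inv y⟩
  rw [comm_congr σ hc (hg.trans (hl _).symm) (hg'.trans (hl _).symm)]
  exact congrArg Subtype.val (hB b b')

/-- Lifts of elements of the centre of `U` commute with lifts of such elements. -/
theorem comm_center (g g' : Γ) {b b' : F} (hg : σ g = tr hF 0 b) (hg' : σ g' = tr hF 0 b')
    (hm : 2 ≤ m) : ⁅g, g'⁆ = 1 :=
  comm_center_of hF σ hsur hc (inv_witness hm hF) g g' hg hg'

/-- Lifts of elements of the centre of `U` commute with lifts of all elements of `U`. -/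
theorem comm_mixed (g g' : Γ) {a b b' : F} (hg : σ g = tr hF a b) (hg' : σ g' = tr hF 0 b')
    (hm : 2 ≤ m) : ⁅g, g'⁆ = 1 := by
  have hcc := fun g g' {b b'} h h' => comm_center hF σ hsur hc g g' (b := b) (b' := b') h h' hm
  choose l hl using hsur
  let A : F → Γ := fun a => l (tr hF a 0)
  let L : F → Γ := fun b => l (tr hF 0 b)
  have h0 : (0 : F) ^ 2 ^ (m + 1) = 0 := zero_pow (pow_ne_zero (m + 1) two_ne_zero)
  have hker : ∀ x y, σ ⁅A x, L y⁆ = 1 := fun x y => by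
    rw [sigma_comm hF σ (hl _) (hl _)]
    simp [tr_zero hF, h0]
  letI : CommGroup σ.ker :=
    { mul_comm := fun x y => Subtype.ext (central σ hc (MonoidHom.mem_ker.1 y.2) x.1).eq }
  let B : F → F → σ.ker := fun x y => ⟨⁅A x, L y⁆, MonoidHom.mem_ker.2 (hker x y)⟩
  have hmul : ∀ x y, σ (L (x + y)) = σ (L x * L y) := fun x y => by
    rw [map_mul, hl, hl, hl, tr_zero_mul]
  have hB : ∀ x y, B x y = 1 := by
    refine pairing_eq_one B (fun w => (w * theta F m w)⁻¹) ?_ ?_ ?_ ?_ (mixed_witness hm hF)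
    · intro x x' y
      refine Subtype.ext ?_
      change ⁅A (x + x'), L y⁆ = ⁅A x, L y⁆ * ⁅A x', L y⁆
      have h1 : σ (A (x + x')) = σ (A x * A x' * L (x ^ 2 ^ (m + 1) * x')) := by
        rw [map_mul, map_mul, hl, hl, hl, hl, tr_mul, tr_mul]
        congr 1
        · rw [add_zero]
        · simp only [mul_zero, add_zero, zero_add]
          exact (CharTwo.add_self_eq_zero _).symm
      have h2 : ⁅L (x ^ 2 ^ (m + 1) * x'), L y⁆ = 1 := hcc _ _ (hl _) (hl _)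
      rw [comm_congr σ hc h1 (rfl : σ (L y) = σ (L y)),
        comm_mul_left σ hc (fun z => by rw [h2]; exact Commute.one_right z), h2, mul_one,
        comm_mul_left σ hc (fun z => central σ hc (hker _ _) z)]
    · intro x y y'
      refine Subtype.ext ?_
      change ⁅A x, L (y + y')⁆ = ⁅A x, L y⁆ * ⁅A x, L y'⁆
      rw [comm_congr σ hc (rfl : σ (A x) = σ (A x)) (hmul y y'),
        comm_mul_right σ hc (fun z => central σ hc (hker _ _) z)]
    · intro x w hw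
      refine Subtype.ext ?_
      change ⁅A x, L (w * theta F m w)⁻¹⁆ = ⁅A (x * w), L 1⁆
      obtain ⟨s, hs⟩ := theta_unit (m := m) hF hw
      have h1 := conj_comm (l (tor hF s)) (A x) (L (w * theta F m w)⁻¹)
      rw [(central σ hc (hker _ _) _).eq, mul_inv_cancel_right] at h1
      rw [h1]
      refine comm_congr σ hc ?_ ?_
      · rw [sigma_conj hF σ (hl _) (hl _), hl, mul_zero, hs, mul_comm w x]
      · rw [sigma_conj hF σ (hl _) (hl _), hl, mul_zero]
        congr 1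
        rw [← hs, theta_theta hF, mul_inv_cancel₀]
        exact mul_ne_zero ((_root_.map_ne_zero _).2 s.ne_zero) (pow_ne_zero _ s.ne_zero)
    · intro y hy
      have hinj : Function.Injective
          (fun u : Fˣ => (u * Units.map (theta F m).toMonoidHom u : Fˣ)) := by
        intro u v h
        have h' : (u : F) * theta F m (u : F) = (v : F) * theta F m (v : F) := congrArg Units.val h
        have h1 : theta F m ((u : F) / v) * ((u : F) / v) = 1 := by
          rw [map_div₀, div_mul_div_comm, mul_comm (theta F m (u : F)), h',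
            mul_comm (v : F), div_self]
          exact mul_ne_zero ((_root_.map_ne_zero _).2 v.ne_zero) v.ne_zero
        exact Units.ext ((div_eq_one_iff_eq v.ne_zero).1 (eq_one_of_theta_mul hF h1))
      obtain ⟨u, hu⟩ := Finite.surjective_of_injective hinj (Units.mk0 y⁻¹ (inv_ne_zero hy))
      have hu' : (u : F) * theta F m (u : F) = y⁻¹ := congrArg Units.val hu
      exact ⟨u, u.ne_zero, by simp only [hu', inv_inv]⟩
  have hsplit : σ g = σ (A a * L b) := by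
    rw [map_mul, hl, hl, hg, tr_mul]
    simp
  rw [comm_congr σ hc hsplit (hg'.trans (hl _).symm),
    comm_mul_left σ hc (fun z => by rw [hcc _ _ (hl _) (hl _)]; exact Commute.one_right z),
    hcc _ _ (hl _) (hl _), mul_one]
  exact congrArg Subtype.val (hB a b')

/-- Commutators of lifts of elements of `U` avoid the kernel, provided lifts of central elements of
`U` are central in the preimage of `U` and inversion is not additive. -/
theorem derived_inf_ker_of (hm : 1 ≤ m)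
    (hwit : ∃ w₁ w₂ : F, w₁ ≠ 0 ∧ w₂ ≠ 0 ∧ w₁ + w₂ ≠ 0 ∧ w₁⁻¹ + w₂⁻¹ ≠ 0 ∧ (w₁ + w₂)⁻¹ ≠ w₁⁻¹ + w₂⁻¹)
    (hcm : ∀ (g g' : Γ) {a b b' : F}, σ g = tr hF a b → σ g' = tr hF 0 b' → ⁅g, g'⁆ = 1)
    {P : Subgroup Γ} (hP : P.map σ ≤ U hF) : ⁅P, P⁆ ⊓ σ.ker = ⊥ := by
  choose l hl using hsur
  obtain ⟨s₁, hs₁⟩ := exists_unit_ne_one (m := m) hm hF
  set τ := l (tor hF s₁) with hτ
  set e := theta F m (s₁ : F) * (s₁ : F) ^ 2 + 1 with he
  have he0 : e ≠ 0 := fun h =>
    hs₁ (Units.ext ((eq_one_of_theta_mul_sq hF (CharTwo.add_eq_zero.1 h)).trans Units.val_one.symm))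
  have hcz : ∀ g g' : Γ, ∀ b b', σ g = tr hF 0 b → σ g' = tr hF 0 b' → Commute g g' :=
    fun g g' b b' h h' => commutatorElement_eq_one_iff_commute.1 (hcm g g' h h')
  let d : Γ → Γ := fun g => τ * g * τ⁻¹ * g⁻¹
  have hd : ∀ g b, σ g = tr hF 0 b → σ (d g) = tr hF 0 (e * b) := fun g b hg => by
    change σ (τ * g * τ⁻¹ * g⁻¹) = _
    rw [map_mul, sigma_conj hF σ (hl _) hg, map_inv, hg, tr_inv, mul_zero, tr_mul, he]
    simp [add_mul]
  have hd_congr : ∀ g g', σ g = σ g' → d g = d g' := fun g g' h => by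
    obtain ⟨z, hz, rfl⟩ := exists_central σ hc h
    change τ * g * τ⁻¹ * g⁻¹ = τ * (g * z) * τ⁻¹ * (g * z)⁻¹
    rw [mul_inv_rev, show τ * (g * z) * τ⁻¹ * (z⁻¹ * g⁻¹) = τ * g * (z * τ⁻¹) * z⁻¹ * g⁻¹ by group,
      ← (central σ hc hz τ⁻¹).eq]
    group
  let ω : F → Γ := fun b => d (l (tr hF 0 (b / e)))
  have hσω : ∀ b, σ (ω b) = tr hF 0 b := fun b => by
    rw [hd _ _ (hl _), mul_div_cancel₀ b he0]
  have hω_eq : ∀ g b, σ g = tr hF 0 (b / e) → d g = ω b := fun g b hg =>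
    hd_congr _ _ (hg.trans (hl _).symm)
  have hω_add : ∀ b b', ω (b + b') = ω b * ω b' := fun b b' => by
    set g := l (tr hF 0 (b / e)) with hgdef
    set g' := l (tr hF 0 (b' / e)) with hgdef'
    rw [← hω_eq (g * g') (b + b') (by rw [map_mul, hl, hl, tr_zero_mul, add_div])]
    change τ * (g * g') * τ⁻¹ * (g * g')⁻¹ = τ * g * τ⁻¹ * g⁻¹ * (τ * g' * τ⁻¹ * g'⁻¹)
    have h : Commute g⁻¹ (τ * g' * τ⁻¹ * g'⁻¹) :=
      (hcz g (d g') _ _ (hl _) (hd _ _ (hl _))).inv_left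
    calc τ * (g * g') * τ⁻¹ * (g * g')⁻¹
        = τ * g * τ⁻¹ * ((τ * g' * τ⁻¹ * g'⁻¹) * g⁻¹) := by group
      _ = _ := by rw [← h.eq]; group
  have hω0 : ω 0 = 1 := by
    have := hω_add 0 0
    rw [add_zero] at this
    exact mul_eq_left.1 this.symm
  have hω_equiv : ∀ (s : Fˣ) b,
      l (tor hF s) * ω b * (l (tor hF s))⁻¹ = ω (theta F m (s : F) * (s : F) ^ 2 * b) := fun s b => by
    set t := l (tor hF s) with ht
    set g := l (tr hF 0 (b / e)) with hgdef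
    rw [← hω_eq (t * g * t⁻¹) (theta F m (s : F) * (s : F) ^ 2 * b)
      (by rw [sigma_conj hF σ (hl _) (hl _), mul_zero, mul_div_assoc])]
    change t * (τ * g * τ⁻¹ * g⁻¹) * t⁻¹ = τ * (t * g * t⁻¹) * τ⁻¹ * (t * g * t⁻¹)⁻¹
    have h : t * τ * g * (t * τ)⁻¹ = τ * t * g * (τ * t)⁻¹ := conj_congr σ hc
      (by rw [map_mul, map_mul, hl, hl, ← tor_mul, ← tor_mul, mul_comm]) g
    calc t * (τ * g * τ⁻¹ * g⁻¹) * t⁻¹
        = (t * τ * g * (t * τ)⁻¹) * (t * g⁻¹ * t⁻¹) := by group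
      _ = _ := by rw [h]; group
  -- the commutator pairing, corrected by the section
  let A : F → Γ := fun a => l (tr hF a 0)
  let β : F → F → F := fun a c => a ^ 2 ^ (m + 1) * c + c ^ 2 ^ (m + 1) * a
  have hker : ∀ a c, σ (⁅A a, A c⁆ * (ω (β a c))⁻¹) = 1 := fun a c => by
    rw [map_mul, map_inv, sigma_comm hF σ (hl _) (hl _), hσω, mul_inv_cancel]
  letI : CommGroup σ.ker :=
    { mul_comm := fun x y => Subtype.ext (central σ hc (MonoidHom.mem_ker.1 y.2) x.1).eq }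
  let B : F → F → σ.ker := fun a c =>
    ⟨⁅A a, A c⁆ * (ω (β a c))⁻¹, MonoidHom.mem_ker.2 (hker a c)⟩
  have hcenU : ∀ g a b, σ g = tr hF a b → ∀ c, Commute g (ω c) := fun g a b hg c =>
    commutatorElement_eq_one_iff_commute.1 (hcm g (ω c) hg (hσω c))
  have hsplit : ∀ a b, σ (A a * l (tr hF 0 b)) = tr hF a b := fun a b => by
    rw [map_mul, hl, hl, tr_mul]
    simp
  -- commutators of lifts only depend on the first coordinates
  have hred : ∀ g h a b c d', σ g = tr hF a b → σ h = tr hF c d' → ⁅g, h⁆ = ⁅A a, A c⁆ := by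
    intro g h a b c d' hg hh
    rw [comm_congr σ hc (hg.trans (hsplit a b).symm) (hh.trans (hsplit c d').symm)]
    set zb := l (tr hF 0 b) with hzb
    set zd := l (tr hF 0 d') with hzd
    have h1 : Commute zb (A c * zd) := (commutatorElement_eq_one_iff_commute.1
      (hcm _ zb (hsplit c d') (hl _))).symm
    have h2 : Commute (A a) zd := commutatorElement_eq_one_iff_commute.1 (hcm _ zd (hl _) (hl _))
    calc ⁅A a * zb, A c * zd⁆
        = A a * (zb * (A c * zd)) * zb⁻¹ * (A a)⁻¹ * zd⁻¹ * (A c)⁻¹ := by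
          simp only [commutatorElement_def, mul_inv_rev]; group
      _ = A a * A c * (zd * (A a)⁻¹) * zd⁻¹ * (A c)⁻¹ := by rw [h1.eq]; group
      _ = _ := by rw [← (h2.inv_left).eq]; simp only [commutatorElement_def]; group
  have hcommA : ∀ x y g a b, σ g = tr hF a b → Commute g ⁅A x, A y⁆ := fun x y g a b hg =>
    commutatorElement_eq_one_iff_commute.1 (hcm g _ hg (sigma_comm hF σ (hl _) (hl _)))
  have hB : ∀ x y, B x y = 1 := by
    have hθ : ∀ x y : F, (x + y) ^ 2 ^ (m + 1) = x ^ 2 ^ (m + 1) + y ^ 2 ^ (m + 1) := fun x y => by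
      simp only [← theta_def, map_add]
    have hσadd : ∀ x x', σ (A x * A x') = tr hF (x + x') (x ^ 2 ^ (m + 1) * x') := fun x x' => by
      rw [map_mul, hl, hl, tr_mul]
      simp
    refine pairing_eq_one B (fun w => w⁻¹) ?_ ?_ ?_ ?_ hwit
    · intro x x' y
      refine Subtype.ext ?_
      change ⁅A (x + x'), A y⁆ * (ω (β (x + x') y))⁻¹ =
        ⁅A x, A y⁆ * (ω (β x y))⁻¹ * (⁅A x', A y⁆ * (ω (β x' y))⁻¹)
      rw [show β (x + x') y = β x' y + β x y by simp only [β, hθ]; ring, hω_add,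
        ← hred (A x * A x') (A y) _ _ _ _ (hσadd x x') (hl _)]
      have h1 : ⁅A x * A x', A y⁆ = ⁅A x', A y⁆ * ⁅A x, A y⁆ := by
        calc ⁅A x * A x', A y⁆ = A x * ⁅A x', A y⁆ * (A x)⁻¹ * ⁅A x, A y⁆ := by
              simp only [commutatorElement_def, mul_inv_rev]; group
          _ = _ := by rw [(hcommA x' y (A x) _ _ (hl _)).eq, mul_inv_cancel_right]
      rw [h1, mul_inv_rev]
      have h2 : Commute (⁅A x, A y⁆ * (ω (β x y))⁻¹) ⁅A x', A y⁆ :=
        (central σ hc (hker x y) _).symm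
      calc ⁅A x', A y⁆ * ⁅A x, A y⁆ * ((ω (β x y))⁻¹ * (ω (β x' y))⁻¹)
          = ⁅A x', A y⁆ * (⁅A x, A y⁆ * (ω (β x y))⁻¹) * (ω (β x' y))⁻¹ := by group
        _ = _ := by rw [← h2.eq]; group
    · intro x y y'
      refine Subtype.ext ?_
      change ⁅A x, A (y + y')⁆ * (ω (β x (y + y')))⁻¹ =
        ⁅A x, A y⁆ * (ω (β x y))⁻¹ * (⁅A x, A y'⁆ * (ω (β x y'))⁻¹)
      rw [show β x (y + y') = β x y' + β x y by simp only [β, hθ]; ring, hω_add,
        ← hred (A x) (A y * A y') _ _ _ _ (hl _) (hσadd y y')]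
      have h1 : ⁅A x, A y * A y'⁆ = ⁅A x, A y⁆ * ⁅A x, A y'⁆ := by
        calc ⁅A x, A y * A y'⁆ = ⁅A x, A y⁆ * (A y * ⁅A x, A y'⁆ * (A y)⁻¹) := by
              simp only [commutatorElement_def, mul_inv_rev]; group
          _ = _ := by rw [(hcommA x y' (A y) _ _ (hl _)).eq, mul_inv_cancel_right]
      have h2 : Commute (⁅A x, A y'⁆ * (ω (β x y'))⁻¹) (ω (β x y))⁻¹ :=
        (central σ hc (hker x y') _).symm
      rw [h1, mul_inv_rev]
      have h3 : Commute (ω (β x y))⁻¹ (ω (β x y'))⁻¹ :=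
        (hcz _ _ _ _ (hσω _) (hσω _)).inv_left.inv_right
      calc ⁅A x, A y⁆ * ⁅A x, A y'⁆ * ((ω (β x y))⁻¹ * (ω (β x y'))⁻¹)
          = ⁅A x, A y⁆ * ((⁅A x, A y'⁆ * (ω (β x y'))⁻¹) * (ω (β x y))⁻¹) := by
            rw [h3.eq]; group
        _ = _ := by rw [h2.eq]; group
    · intro x w hw
      refine Subtype.ext ?_
      change ⁅A x, A w⁻¹⁆ * (ω (β x w⁻¹))⁻¹ = ⁅A (x * w), A 1⁆ * (ω (β (x * w) 1))⁻¹
      obtain ⟨s, hs⟩ := theta_unit (m := m) hF hw
      set t := l (tor hF s) with ht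
      have h1 : t * (⁅A x, A w⁻¹⁆ * (ω (β x w⁻¹))⁻¹) * t⁻¹ = ⁅A x, A w⁻¹⁆ * (ω (β x w⁻¹))⁻¹ := by
        rw [(central σ hc (hker x w⁻¹) t).eq, mul_inv_cancel_right]
      rw [← h1, show t * (⁅A x, A w⁻¹⁆ * (ω (β x w⁻¹))⁻¹) * t⁻¹ =
        t * ⁅A x, A w⁻¹⁆ * t⁻¹ * (t * ω (β x w⁻¹) * t⁻¹)⁻¹ by group, conj_comm, hω_equiv,
        hred _ _ _ _ _ _ (sigma_conj hF σ (hl _) (hl _)) (sigma_conj hF σ (hl _) (hl _)),
        hs, mul_inv_cancel₀ hw, mul_comm w x]
      congr 3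
      simp only [β, ← theta_def, map_mul, map_inv₀, map_one, mul_one]
      rw [← hs, theta_theta hF]
      have hθs : theta F m (s : F) ≠ 0 := (_root_.map_ne_zero _).2 s.ne_zero
      field_simp
    · intro y hy
      exact ⟨y⁻¹, inv_ne_zero hy, inv_inv y⟩
  let W : Γ → Prop := fun g => ∃ b, g = ω b
  let W₀ : Subgroup Γ :=
    { carrier := {g | W g}
      mul_mem' := fun {g h} ⟨b, hb⟩ ⟨b', hb'⟩ => ⟨b + b', by rw [hb, hb', hω_add]⟩
      one_mem' := ⟨0, hω0.symm⟩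
      inv_mem' := fun {g} ⟨b, hb⟩ => ⟨b, by
        rw [hb, inv_eq_iff_mul_eq_one, ← hω_add, CharTwo.add_self_eq_zero, hω0]⟩ }
  have hle : ⁅P, P⁆ ≤ W₀ := by
    rw [Subgroup.commutator_le]
    intro g hg h hh
    obtain ⟨a, b, hab⟩ := hP (Subgroup.mem_map_of_mem σ hg)
    obtain ⟨c, d', hcd⟩ := hP (Subgroup.mem_map_of_mem σ hh)
    refine ⟨β a c, ?_⟩
    rw [hred g h a b c d' hab hcd]
    exact mul_inv_eq_one.1 (congrArg Subtype.val (hB a c))
  rw [Subgroup.eq_bot_iff_forall]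
  rintro g ⟨hg, hgk⟩
  obtain ⟨b, rfl⟩ := hle hg
  have h1 := hσω b
  rw [MonoidHom.mem_ker.1 hgk, ← tr_zero hF] at h1
  rw [← (tr_injective hF h1).2, hω0]

/-- Commutators of lifts of elements of `U` avoid the kernel. -/
theorem derived_inf_ker {P : Subgroup Γ} (hP : P.map σ ≤ U hF) (hm : 2 ≤ m) :
    ⁅P, P⁆ ⊓ σ.ker = ⊥ :=
  derived_inf_ker_of hF σ hsur hc (by omega) (inv_witness hm hF)
    (fun g g' {_ _ _} h h' => comm_mixed hF σ hsur hc g g' h h' hm) hP

end Cfsg.Agent.Suzuki.MultiplierSylow
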