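import Cfsg.Agent.Lib.Suzuki.Tori

/-!
# Cyclic Sylow subgroups, nilpotent centralizers and the partition of the Suzuki group
-/

set_option autoImplicit false
set_option linter.unusedSectionVars false

namespace Cfsg.Agent.Suzuki

open Matrix MulAction

variable {F : Type*} [Field F] [Fintype F] [CharP F 2] {m : ℕ}
variable (hm : 1 ≤ m) (hF : Fintype.card F = 2 ^ (2 * m + 1))

/-- The diagonal torus as a subgroup. -/
noncomputable def torusSubgroup : Subgroup (Cfsg.Sz F m) :=
  (MonoidHom.mk' (tor hF) (tor_mul hF) : Fˣ →* Cfsg.Sz F m).range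

include hF

theorem mem_torusSubgroup {x : Cfsg.Sz F m} : x ∈ torusSubgroup hF ↔ ∃ s, x = tor hF s := by
  constructor
  · rintro ⟨s, rfl⟩; exact ⟨s, rfl⟩
  · rintro ⟨s, rfl⟩; exact ⟨s, rfl⟩

theorem card_torusSubgroup : Nat.card (torusSubgroup (m := m) hF) = Fintype.card F - 1 := by
  rw [torusSubgroup, ← Nat.card_congr (MonoidHom.ofInjective (f := MonoidHom.mk' (tor hF) (tor_mul hF))
    (tor_injective hF)).toEquiv, Nat.card_units, Nat.card_eq_fintype_card]

theorem torusSubgroup_cyclic : IsCyclic (torusSubgroup (m := m) hF) :=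
  isCyclic_of_surjective (MonoidHom.ofInjective (f := MonoidHom.mk' (tor hF) (tor_mul hF))
    (tor_injective hF)) (MulEquiv.surjective _)

include hm

/-- The three kinds of non-identity elements. -/
theorem element_cases {g : Cfsg.Sz F m} (hg : g ≠ 1) :
    FPF g ∨ (∃ h a b, (a ≠ 0 ∨ b ≠ 0) ∧ h * g * h⁻¹ = tr hF a b) ∨
      ∃ h s, s ≠ 1 ∧ h * g * h⁻¹ = tor hF s := by
  by_cases hf : FPF g
  · exact Or.inl hf
  right
  simp only [FPF, not_forall, not_not] at hf
  obtain ⟨p, hp⟩ := hf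
  rcases cases_of_fixed hm hF hp with ⟨h, a, b, -, he⟩ | ⟨h, s, hs, -, he⟩
  · refine Or.inl ⟨h, a, b, ?_, he⟩
    by_contra hc
    push Not at hc
    rw [hc.1, hc.2, tr_zero, conj_eq_one_iff] at he
    exact hg he
  · exact Or.inr ⟨h, s, hs, he⟩

theorem centralizer_tor {s : Fˣ} (hs : s ≠ 1) :
    Subgroup.centralizer ({tor hF s} : Set (Cfsg.Sz F m)) = torusSubgroup hF := by
  ext x
  rw [Subgroup.mem_centralizer_singleton_iff, mem_torusSubgroup hF]
  exact ⟨fun h => tor_centralizer hm hF hs h, by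
    rintro ⟨t, rfl⟩
    rw [← tor_mul, ← tor_mul, mul_comm]⟩

theorem centralizer_tr_le {a b : F} (h : a ≠ 0 ∨ b ≠ 0) :
    Subgroup.centralizer ({tr hF a b} : Set (Cfsg.Sz F m)) ≤ U hF := fun x hx => by
  obtain ⟨c, d, rfl⟩ := tr_centralizer hm hF h (Subgroup.mem_centralizer_singleton_iff.1 hx)
  exact ⟨c, d, rfl⟩

theorem isCNGroup : Cfsg.IsCNGroup (Cfsg.Sz F m) := by
  intro g hg
  have key : ∀ h : Cfsg.Sz F m,
      Group.IsNilpotent (Subgroup.centralizer ({h * g * h⁻¹} : Set (Cfsg.Sz F m))) →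
      Group.IsNilpotent (Subgroup.centralizer ({g} : Set (Cfsg.Sz F m))) := fun h hn => by
    haveI := hn
    rw [centralizer_conj hm hF] at hn
    haveI := hn
    exact Group.nilpotent_of_mulEquiv
      ((Subgroup.centralizer ({g} : Set (Cfsg.Sz F m))).equivMapOfInjective (MulAut.conj h).toMonoidHom
        (MulAut.conj h).injective).symm
  have cyc : ∀ C : Subgroup (Cfsg.Sz F m), IsCyclic C → Group.IsNilpotent C := fun C hC => by
    haveI := hC
    letI : CommGroup C := IsCyclic.commGroup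
    infer_instance
  rcases element_cases hm hF hg with hf | ⟨h, a, b, hab, he⟩ | ⟨h, s, hs, he⟩
  · exact cyc _ (fpf_torus hm hF hf).1
  · refine key h ?_
    rw [he]
    haveI : Fact (Nat.Prime 2) := ⟨Nat.prime_two⟩
    have hU : IsPGroup 2 (U (m := m) hF) := IsPGroup.of_card (n := 2 * (2 * m + 1))
      (by rw [card_U hF, hF, ← pow_mul, mul_comm])
    exact (hU.to_le (centralizer_tr_le hm hF hab)).isNilpotent
  · refine key h ?_
    rw [he, centralizer_tor hm hF hs]
    exact cyc _ (torusSubgroup_cyclic hF)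

theorem sylow_odd_cyclic {p : ℕ} [hp : Fact p.Prime] (hp2 : p ≠ 2) (P : Sylow p (Cfsg.Sz F m)) :
    IsCyclic P := by
  by_cases hd : p ∣ Fintype.card F ^ 2 + 1
  · -- inside the centralizer of a central element of order `p`
    haveI : Nontrivial P := by
      refine Finite.one_lt_card_iff_nontrivial.1 ?_
      refine lt_of_lt_of_le hp.out.one_lt (Nat.le_of_dvd Nat.card_pos ?_)
      exact P.dvd_card_of_dvd_card (by
        rw [card_eq hm hF]; exact Dvd.dvd.mul_right (Dvd.dvd.mul_left hd _) _)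
    haveI := IsPGroup.center_nontrivial P.isPGroup'
    obtain ⟨x, hx⟩ := exists_prime_orderOf_dvd_card' (G := Subgroup.center P) p (by
      obtain ⟨n, hn⟩ := IsPGroup.iff_card.1 (P.isPGroup'.to_subgroup (Subgroup.center P))
      rw [hn]
      refine dvd_pow_self p fun e => ?_
      rw [e, pow_zero] at hn
      exact absurd hn (Finite.one_lt_card (α := Subgroup.center P)).ne')
    have hxo : orderOf ((x : P) : Cfsg.Sz F m) = p := by
      rw [Subgroup.orderOf_coe, Subgroup.orderOf_coe, hx]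
    haveI := (torus_centralizer hm hF hp.out hxo hd).1
    have hle : (P : Subgroup (Cfsg.Sz F m)) ≤
        Subgroup.centralizer ({((x : P) : Cfsg.Sz F m)} : Set (Cfsg.Sz F m)) := fun u hu =>
      Subgroup.mem_centralizer_singleton_iff.2
        (congrArg Subtype.val (Subgroup.mem_center_iff.1 x.2 ⟨u, hu⟩))
    exact isCyclic_of_injective (Subgroup.inclusion hle) (Subgroup.inclusion_injective hle)
  · -- inside a conjugate of the diagonal torus
    haveI := torusSubgroup_cyclic (m := m) hF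
    set T := torusSubgroup (m := m) hF
    obtain ⟨Q⟩ : Nonempty (Sylow p T) := inferInstance
    set R : Subgroup (Cfsg.Sz F m) := (Q : Subgroup T).map T.subtype with hR
    have hRcard : Nat.card R = p ^ (Nat.card (Cfsg.Sz F m)).factorization p := by
      have hev : ¬ p ∣ Fintype.card F ^ 2 := fun h => hp2 (by
        have := hp.out.dvd_of_dvd_pow h
        rw [hF] at this
        exact (Nat.prime_dvd_prime_iff_eq hp.out Nat.prime_two).1 (hp.out.dvd_of_dvd_pow this))
      have h1 : 0 < Fintype.card F - 1 := by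
        have := odd_card_units (F := F) hm hF
        exact this.pos
      rw [hR, Subgroup.card_map_of_injective T.subtype_injective, Q.card_eq_multiplicity,
        card_torusSubgroup hF, card_eq hm hF,
        Nat.factorization_mul (by positivity) h1.ne', Finsupp.add_apply,
        Nat.factorization_mul (by positivity) (by omega), Finsupp.add_apply,
        Nat.factorization_eq_zero_of_not_dvd hd, Nat.factorization_eq_zero_of_not_dvd hev]
      simp
    have hcyc : IsCyclic R := isCyclic_of_surjective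
      ((Q : Subgroup T).equivMapOfInjective T.subtype T.subtype_injective) (MulEquiv.surjective _)
    haveI : IsCyclic (Sylow.ofCard R hRcard : Sylow p (Cfsg.Sz F m)) := hcyc
    exact isCyclic_of_surjective ((Sylow.ofCard R hRcard).equiv P) (MulEquiv.surjective _)

theorem exceptional_subgroups :
    ∀ k ∈ ({2 ^ (2 * m + 1) + 2 ^ (m + 1) + 1, 2 ^ (2 * m + 1) - 2 ^ (m + 1) + 1} : Set ℕ),
      ∃ V : Subgroup (Cfsg.Sz F m), IsCyclic V ∧ Nat.card V = k ∧
        (∀ u ∈ V, u ≠ 1 → Subgroup.centralizer {u} = V) ∧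
        Nat.card (Subgroup.normalizer (V : Set (Cfsg.Sz F m))) = 4 * k := by
  obtain ⟨g, g', hg, hg', e1, e2, e3, e4, -⟩ := exists_two_tori hm hF
  rintro k (rfl | rfl)
  · exact ⟨_, (fpf_torus hm hF hg).1, e1, fun u hu hu1 => ((fpf_torus hm hF hg).2.2.1 u hu hu1).2, e3⟩
  · exact ⟨_, (fpf_torus hm hF hg').1, e2, fun u hu hu1 => ((fpf_torus hm hF hg').2.2.1 u hu hu1).2, e4⟩

omit hm in
theorem conj_pow_card {h g : Cfsg.Sz F m} {T : Subgroup (Cfsg.Sz F m)} (hm' : h * g * h⁻¹ ∈ T) :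
    orderOf g ∣ Nat.card T := by
  rw [← orderOf_conj_eq h g]
  exact Subgroup.orderOf_dvd_natCard T hm'

/-- Every non-identity element lies in exactly one member of the partition. -/
theorem partition (g : Cfsg.Sz F m) (hg : g ≠ 1) :
    ∃! V : Subgroup (Cfsg.Sz F m), ((∃ P : Sylow 2 (Cfsg.Sz F m), V = (P : Subgroup (Cfsg.Sz F m))) ∨
      (IsCyclic V ∧ Nat.card V ∈ ({2 ^ (2 * m + 1) - 1, 2 ^ (2 * m + 1) + 2 ^ (m + 1) + 1,
        2 ^ (2 * m + 1) - 2 ^ (m + 1) + 1} : Set ℕ))) ∧ g ∈ V := by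
  haveI : Fact (Nat.Prime 2) := ⟨Nat.prime_two⟩
  have hne : orderOf g ≠ 1 := fun e => hg (orderOf_eq_one_iff.1 e)
  have hq := hF
  -- coprimality of the four kinds of orders
  have codd : ∀ {d : ℕ}, Odd d → ∀ j, Nat.Coprime (2 ^ j) d := fun hd j =>
    (coprime_of_two_pow hd).symm
  have hkk := kPlus_mul_kMinus hm
  rw [← hF] at hkk
  have cq1 : Nat.Coprime (Fintype.card F - 1) (kPlus m * kMinus m) := by
    rw [hkk]
    exact (Nat.coprime_mul_iff_left.1 (coprime_stabilizer hm hF)).2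
  have hP : ∀ P : Sylow 2 (Cfsg.Sz F m), g ∈ (P : Subgroup (Cfsg.Sz F m)) →
      orderOf g ∣ 2 ^ (2 * (2 * m + 1)) := fun P h => by
    rw [← two_pow_factorization hm hF, ← P.card_eq_multiplicity]
    exact Subgroup.orderOf_dvd_natCard _ h
  have hcy : ∀ V : Subgroup (Cfsg.Sz F m), IsCyclic V → g ∈ V →
      V ≤ Subgroup.centralizer ({g} : Set (Cfsg.Sz F m)) := fun V hV hgV u hu => by
    haveI := hV
    letI : CommGroup V := IsCyclic.commGroup
    exact Subgroup.mem_centralizer_singleton_iff.2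
      (congrArg Subtype.val (mul_comm (⟨u, hu⟩ : V) ⟨g, hgV⟩))
  -- a member containing `g` whose type matches the order of `g`
  have cyclic_case : ∀ (n : ℕ), n ∈ ({2 ^ (2 * m + 1) - 1, 2 ^ (2 * m + 1) + 2 ^ (m + 1) + 1,
        2 ^ (2 * m + 1) - 2 ^ (m + 1) + 1} : Set ℕ) →
      IsCyclic (Subgroup.centralizer ({g} : Set (Cfsg.Sz F m))) →
      Nat.card (Subgroup.centralizer ({g} : Set (Cfsg.Sz F m))) = n →
      (∀ n' ∈ ({2 ^ (2 * m + 1) - 1, 2 ^ (2 * m + 1) + 2 ^ (m + 1) + 1,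
        2 ^ (2 * m + 1) - 2 ^ (m + 1) + 1} : Set ℕ), n' = n ∨ Nat.Coprime n n') →
      Odd n →
      ∃! V : Subgroup (Cfsg.Sz F m), ((∃ P : Sylow 2 (Cfsg.Sz F m), V = (P : Subgroup (Cfsg.Sz F m))) ∨
        (IsCyclic V ∧ Nat.card V ∈ ({2 ^ (2 * m + 1) - 1, 2 ^ (2 * m + 1) + 2 ^ (m + 1) + 1,
          2 ^ (2 * m + 1) - 2 ^ (m + 1) + 1} : Set ℕ))) ∧ g ∈ V := by
    intro n hn hc hcard hall hodd
    have hgn : orderOf g ∣ n := hcard ▸ Subgroup.orderOf_dvd_natCard _
      (Subgroup.mem_centralizer_singleton_iff.2 rfl)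
    refine ⟨_, ⟨Or.inr ⟨hc, hcard ▸ hn⟩, Subgroup.mem_centralizer_singleton_iff.2 rfl⟩, ?_⟩
    rintro V ⟨⟨P, rfl⟩ | ⟨hV, hVn⟩, hgV⟩
    · exact absurd (Nat.eq_one_of_dvd_coprimes (codd hodd _) (hP P hgV) hgn) hne
    · refine Subgroup.eq_of_le_of_card_ge (hcy V hV hgV) (le_of_eq ?_)
      rcases hall _ hVn with e | e
      · rw [hcard, e]
      · exact absurd (Nat.eq_one_of_dvd_coprimes e hgn (Subgroup.orderOf_dvd_natCard _ hgV)) hne
  have hqodd : Odd (2 ^ (2 * m + 1) - 1) := hF ▸ odd_card_units hm hF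
  rw [hF] at cq1
  rcases element_cases hm hF hg with hf | ⟨h, a, b, hab, he⟩ | ⟨h, s, hs, he⟩
  · obtain ⟨x, x', hx, hx', e1, e2, -, -, hcov⟩ := exists_two_tori hm hF
    rcases hcov g hf with ⟨-, h, hh⟩ | ⟨-, h, hh⟩
    · have e := ((fpf_torus hm hF hx).2.2.1 _ hh fun e => hg (conj_eq_one_iff.1 e)).2
      refine cyclic_case (kPlus m) (by simp [kPlus]) (fpf_torus hm hF hf).1 ?_ ?_ (odd_kPlus hm)
      · rw [← card_centralizer_conj hm hF (h := h), e, e1]
      · rintro n' (rfl | rfl | rfl)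
        · exact Or.inr (Nat.coprime_mul_iff_right.1 cq1).1.symm
        · exact Or.inl rfl
        · exact Or.inr (coprime_kPlus_kMinus hm)
    · have e := ((fpf_torus hm hF hx').2.2.1 _ hh fun e => hg (conj_eq_one_iff.1 e)).2
      refine cyclic_case (kMinus m) (by simp [kMinus]) (fpf_torus hm hF hf).1 ?_ ?_ (odd_kMinus hm)
      · rw [← card_centralizer_conj hm hF (h := h), e, e2]
      · rintro n' (rfl | rfl | rfl)
        · exact Or.inr (Nat.coprime_mul_iff_right.1 cq1).2.symm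
        · exact Or.inr (coprime_kPlus_kMinus hm).symm
        · exact Or.inl rfl
  · -- a 2-element
    obtain ⟨P₀, hP₀⟩ := exists_sylow hm hF
    set P₁ : Sylow 2 (Cfsg.Sz F m) := h⁻¹ • P₀ with hP₁
    have hgP : g ∈ (P₁ : Subgroup (Cfsg.Sz F m)) := by
      have h1 : tr hF a b ∈ (P₀ : Subgroup (Cfsg.Sz F m)) := hP₀ ▸ ⟨a, b, rfl⟩
      have h2 : (MulAut.conj h⁻¹) (tr hF a b) = g := by
        show h⁻¹ * tr hF a b * h⁻¹⁻¹ = g
        rw [← he]; group
      rw [hP₁, Sylow.coe_subgroup_smul, ← h2]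
      exact Subgroup.smul_mem_pointwise_smul _ (MulAut.conj h⁻¹) _ h1
    have hg2 := hP P₁ hgP
    refine ⟨_, ⟨Or.inl ⟨P₁, rfl⟩, hgP⟩, ?_⟩
    rintro V ⟨⟨P, rfl⟩ | ⟨-, hVn⟩, hgV⟩
    · obtain ⟨y, hy⟩ := MulAction.exists_smul_eq (Cfsg.Sz F m) P P₀
      have hmem : y * g * y⁻¹ ∈ U (m := m) hF := by
        rw [← hP₀, ← hy, Sylow.coe_subgroup_smul]
        exact Subgroup.smul_mem_pointwise_smul g (MulAut.conj y) _ hgV
      obtain ⟨c, d, hcd⟩ := hmem
      obtain ⟨k, hk⟩ : ∃ k, k = y * h⁻¹ := ⟨_, rfl⟩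
      obtain ⟨c', d', s', hkeq, -, -⟩ := exists_of_conj_tr hm hF hab (a' := c) (b' := d) (x := k) (by
        rw [hk, ← hcd, ← he]; group)
      have hnorm : k • P₀ = P₀ := by
        have hmemN : k ∈ Subgroup.normalizer ((P₀ : Subgroup (Cfsg.Sz F m)) : Set (Cfsg.Sz F m)) := by
          rw [hP₀, normalizer_U hm hF, mem_stabilizer_iff, hkeq, mul_smul, tor_smul_infty,
            tr_smul_infty]
        exact Sylow.smul_eq_iff_mem_normalizer.2 hmemN
      congr 1
      calc P = y⁻¹ • (y • P) := by rw [inv_smul_smul]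
        _ = y⁻¹ • (k • P₀) := by rw [hy, hnorm]
        _ = P₁ := by rw [hP₁, hk, ← mul_smul, inv_mul_cancel_left]
    · have hVodd : Odd (Nat.card V) := by
        rcases hVn with e | e | e <;> rw [e]
        exacts [hqodd, odd_kPlus hm, odd_kMinus hm]
      exact absurd (Nat.eq_one_of_dvd_coprimes (codd hVodd _) hg2
        (Subgroup.orderOf_dvd_natCard _ hgV)) hne
  · -- a torus element
    have e : Nat.card (Subgroup.centralizer ({g} : Set (Cfsg.Sz F m))) = 2 ^ (2 * m + 1) - 1 := by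
      rw [← card_centralizer_conj hm hF (h := h), he, centralizer_tor hm hF hs, card_torusSubgroup hF,
        hF]
    have hc : IsCyclic (Subgroup.centralizer ({g} : Set (Cfsg.Sz F m))) := by
      have h1 : IsCyclic (Subgroup.centralizer ({h * g * h⁻¹} : Set (Cfsg.Sz F m))) := by
        rw [he, centralizer_tor hm hF hs]; exact torusSubgroup_cyclic hF
      rw [centralizer_conj hm hF] at h1
      haveI := h1
      exact isCyclic_of_surjective
        ((Subgroup.centralizer ({g} : Set (Cfsg.Sz F m))).equivMapOfInjective (MulAut.conj h).toMonoidHom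
          (MulAut.conj h).injective).symm (MulEquiv.surjective _)
    refine cyclic_case _ (by simp) hc e ?_ hqodd
    rintro n' (rfl | rfl | rfl)
    · exact Or.inl rfl
    · exact Or.inr (Nat.coprime_mul_iff_right.1 cq1).1
    · exact Or.inr (Nat.coprime_mul_iff_right.1 cq1).2

end Cfsg.Agent.Suzuki
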