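import Cfsg.Agent.Lib.Suzuki.TorusType
import Cfsg.Agent.Lib.Suzuki.Covers

/-!
# Solubilizers in the Suzuki group
-/

set_option autoImplicit false
set_option linter.unusedSectionVars false

namespace Cfsg.Agent.Suzuki

open Matrix MulAction

variable {F : Type*} [Field F] [Fintype F] [CharP F 2] {m : ℕ}
variable (hm : 1 ≤ m) (hF : Fintype.card F = 2 ^ (2 * m + 1))

include hm hF

theorem stabilizer_point_solvable (p : Cfsg.suzukiOvoid F m) :
    Group.IsSolvable (stabilizer (Cfsg.Sz F m) p) := by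
  haveI := pretransitive (m := m) hF
  obtain ⟨g, rfl⟩ := MulAction.exists_smul_eq (Cfsg.Sz F m) (infty (F := F) m) p
  haveI := stabilizer_solvable hm hF
  rw [stabilizer_smul_eq_stabilizer_map_conj]
  exact Group.isSolvable_of_surjective
    (f := ((stabilizer (Cfsg.Sz F m) (infty (F := F) m)).equivMapOfInjective _
      (MulAut.conj g).injective).toMonoidHom) (MulEquiv.surjective _)

theorem card_stabilizer_point (p : Cfsg.suzukiOvoid F m) :
    Nat.card (stabilizer (Cfsg.Sz F m) p) = Fintype.card F ^ 2 * (Fintype.card F - 1) := by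
  haveI := pretransitive (m := m) hF
  obtain ⟨g, rfl⟩ := MulAction.exists_smul_eq (Cfsg.Sz F m) (infty (F := F) m) p
  rw [stabilizer_smul_eq_stabilizer_map_conj,
    ← card_stabilizer hm hF]
  exact Subgroup.card_map_of_injective (MulAut.conj g).injective

/-- A non-trivial solvable subgroup fixes a point or normalizes a torus. -/
theorem solvable_structure {H : Subgroup (Cfsg.Sz F m)} (hH : Group.IsSolvable H) (hne : H ≠ ⊥) :
    (∃ p : Cfsg.suzukiOvoid F m, ∀ h ∈ H, h • p = p) ∨
      ∃ T : Subgroup (Cfsg.Sz F m), IsTor T ∧ H ≤ Subgroup.normalizer (T : Set (Cfsg.Sz F m)) := by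
  classical
  obtain ⟨n, hn⟩ := (Group.isSolvable_def H).1 hH
  have hex : ∃ n, derivedSeries H n = ⊥ := ⟨n, hn⟩
  set d := Nat.find hex with hd
  have hd0 : d ≠ 0 := fun e => hne (by
    have h0 := Nat.find_spec hex
    rw [← hd, e, derivedSeries_zero] at h0
    refine eq_bot_iff.2 fun h hh => ?_
    have : (⟨h, hh⟩ : H) ∈ (⊥ : Subgroup H) := h0 ▸ Subgroup.mem_top _
    exact congrArg Subtype.val (Subgroup.mem_bot.1 this))
  obtain ⟨e, he⟩ := Nat.exists_eq_succ_of_ne_zero hd0
  have hAne : derivedSeries H e ≠ ⊥ := fun h => by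
    have := Nat.find_min hex (show e < d by omega)
    exact this h
  have hAcomm : ∀ a ∈ derivedSeries H e, ∀ b ∈ derivedSeries H e, a * b = b * a := by
    intro a ha b hb
    have h0 := Nat.find_spec hex
    rw [← hd, he, derivedSeries_succ, Subgroup.commutator_eq_bot_iff_le_centralizer] at h0
    exact (Subgroup.mem_centralizer_iff.1 (h0 hb) a ha)
  have hAnorm : ∀ a ∈ derivedSeries H e, ∀ h : H, h * a * h⁻¹ ∈ derivedSeries H e :=
    fun a ha h => (derivedSeries_normal H e).conj_mem a ha h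
  obtain ⟨a, ha, ha1⟩ := (derivedSeries H e).bot_or_exists_ne_one.resolve_left hAne
  have ha1' : (a : Cfsg.Sz F m) ≠ 1 := fun e' => ha1 (Subtype.ext e')
  rcases trType_or_isTor hm hF ha1' with htr | hT
  · left
    obtain ⟨p, hp, huniq⟩ := htr.exists_fixed hm hF
    refine ⟨p, fun h hh => huniq _ ?_⟩
    have hmem := hAnorm a ha ⟨h, hh⟩⁻¹
    have hc := congrArg Subtype.val (hAcomm _ hmem a ha)
    simp only [Subgroup.coe_mul, Subgroup.coe_inv, inv_inv] at hc
    have := fixed_of_commute hm hF ha1' hc hp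
    rwa [mul_smul, mul_smul, inv_smul_eq_iff] at this
  · right
    refine ⟨_, hT, fun h hh => hT.mem_normalizer hm hF
      (Subgroup.mem_centralizer_singleton_iff.2 rfl) ha1' (Subgroup.mem_centralizer_singleton_iff.2 ?_)⟩
    exact congrArg Subtype.val (hAcomm _ (hAnorm a ha ⟨h, hh⟩) a ha)

omit hm hF in
/-- The elements generating a solvable subgroup together with `x`. -/
def sol (x : Cfsg.Sz F m) : Set (Cfsg.Sz F m) :=
  {y | Group.IsSolvable (Subgroup.closure ({x, y} : Set (Cfsg.Sz F m)))}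

theorem mem_sol_iff {x y : Cfsg.Sz F m} (hx : x ≠ 1) :
    y ∈ sol x ↔ (∃ p : Cfsg.suzukiOvoid F m, x • p = p ∧ y • p = p) ∨
      ∃ T : Subgroup (Cfsg.Sz F m), IsTor T ∧ x ∈ Subgroup.normalizer (T : Set (Cfsg.Sz F m)) ∧
        y ∈ Subgroup.normalizer (T : Set (Cfsg.Sz F m)) := by
  have hxmem : x ∈ Subgroup.closure ({x, y} : Set (Cfsg.Sz F m)) := Subgroup.subset_closure (Or.inl rfl)
  have hymem : y ∈ Subgroup.closure ({x, y} : Set (Cfsg.Sz F m)) := Subgroup.subset_closure (Or.inr rfl)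
  constructor
  · intro h
    have hne : Subgroup.closure ({x, y} : Set (Cfsg.Sz F m)) ≠ ⊥ := fun e => by
      rw [e, Subgroup.mem_bot] at hxmem
      exact hx hxmem
    rcases solvable_structure hm hF h hne with ⟨p, hp⟩ | ⟨T, hT, hle⟩
    · exact Or.inl ⟨p, hp x hxmem, hp y hymem⟩
    · exact Or.inr ⟨T, hT, hle hxmem, hle hymem⟩
  · have key : ∀ K : Subgroup (Cfsg.Sz F m), Group.IsSolvable K → x ∈ K → y ∈ K → y ∈ sol x := by
      intro K hK h1 h2
      haveI := hK
      have hle : Subgroup.closure ({x, y} : Set (Cfsg.Sz F m)) ≤ K :=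
        (Subgroup.closure_le K).2 (by rintro z (rfl | rfl) <;> assumption)
      exact Group.isSolvable_of_isSolvable_injective (f := Subgroup.inclusion hle) (Subgroup.inclusion_injective hle)
    rintro (⟨p, h1, h2⟩ | ⟨T, hT, h1, h2⟩)
    · exact key _ (stabilizer_point_solvable hm hF p) h1 h2
    · exact key _ (hT.normalizer_solvable hm hF) h1 h2

theorem ncard_sol_conj (h x : Cfsg.Sz F m) : (sol (h * x * h⁻¹)).ncard = (sol x).ncard := by
  have : sol (h * x * h⁻¹) = MulAut.conj h '' sol x := by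
    have key : ∀ (g a b : Cfsg.Sz F m), b ∈ sol a → g * b * g⁻¹ ∈ sol (g * a * g⁻¹) := by
      intro g a b hb
      have himg : ({g * a * g⁻¹, g * b * g⁻¹} : Set (Cfsg.Sz F m)) = MulAut.conj g '' {a, b} := by
        simp [Set.image_pair]
      show Group.IsSolvable (Subgroup.closure ({g * a * g⁻¹, g * b * g⁻¹} : Set (Cfsg.Sz F m)))
      rw [himg, ← MulEquiv.coe_toMonoidHom, ← MonoidHom.map_closure]
      haveI : Group.IsSolvable (Subgroup.closure ({a, b} : Set (Cfsg.Sz F m))) := hb
      exact Group.isSolvable_of_surjective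
        (f := ((Subgroup.closure ({a, b} : Set (Cfsg.Sz F m))).equivMapOfInjective _
          (MulAut.conj g).injective).toMonoidHom) (MulEquiv.surjective _)
    ext y
    constructor
    · intro hy
      refine ⟨h⁻¹ * y * h, ?_, show h * (h⁻¹ * y * h) * h⁻¹ = y by group⟩
      have := key h⁻¹ _ _ hy
      rw [show h⁻¹ * (h * x * h⁻¹) * h⁻¹⁻¹ = x by group] at this
      rw [inv_inv] at this
      exact this
    · rintro ⟨z, hz, rfl⟩
      exact key h _ _ hz
  rw [this, Set.ncard_image_of_injective _ (MulAut.conj h).injective]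

/-! ### Torus elements -/

theorem odd_orderOf_tor' (s : Fˣ) : Odd (orderOf (tor hF s : Cfsg.Sz F m)) :=
  (isTor_torusSubgroup hm hF).2.2.1.of_dvd_nat
    (Subgroup.orderOf_dvd_natCard _ ((mem_torusSubgroup hF).2 ⟨s, rfl⟩))

theorem ncard_sol_fpf {x : Cfsg.Sz F m} (hx : FPF x) :
    (sol x).ncard = Nat.card (Subgroup.normalizer
      ((Subgroup.centralizer ({x} : Set (Cfsg.Sz F m))) : Set (Cfsg.Sz F m))) := by
  have hT := isTor_of_fpf hm hF hx
  have hxT : x ∈ Subgroup.centralizer ({x} : Set (Cfsg.Sz F m)) :=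
    Subgroup.mem_centralizer_singleton_iff.2 rfl
  have hodd : Odd (orderOf x) := hT.2.2.1.of_dvd_nat (Subgroup.orderOf_dvd_natCard _ hxT)
  have : sol x = (Subgroup.normalizer
      ((Subgroup.centralizer ({x} : Set (Cfsg.Sz F m))) : Set (Cfsg.Sz F m)) : Set (Cfsg.Sz F m)) := by
    ext y
    rw [mem_sol_iff hm hF hx.ne_one]
    constructor
    · rintro (⟨p, hp, -⟩ | ⟨T, hT', h1, h2⟩)
      · exact absurd hp (hx p)
      · rwa [hT'.eq_of_mem hm hF hT (hT'.mem_of_normalizer hm hF h1 hodd) hxT hx.ne_one] at h2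
    · exact fun hy => Or.inr ⟨_, hT, Subgroup.le_normalizer hxT, hy⟩
  rw [this, ← Nat.card_coe_set_eq]
  rfl

theorem ncard_sol_tor {s : Fˣ} (hs : s ≠ 1) :
    (sol (tor hF s : Cfsg.Sz F m)).ncard = 2 * Fintype.card F ^ 2 * (Fintype.card F - 1) := by
  classical
  set x : Cfsg.Sz F m := tor hF s with hxdef
  have hx1 : x ≠ 1 := fun e => hs (tor_injective hF (e.trans (tor_one hF).symm))
  set T := torusSubgroup (m := m) hF with hTdef
  have hT : IsTor T := isTor_torusSubgroup hm hF
  have hxT : x ∈ T := (mem_torusSubgroup hF).2 ⟨s, rfl⟩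
  set B := (stabilizer (Cfsg.Sz F m) (infty (F := F) m) : Set (Cfsg.Sz F m)) with hB
  set B' := (stabilizer (Cfsg.Sz F m) (point (F := F) m 0 0) : Set (Cfsg.Sz F m)) with hB'
  set N := (Subgroup.normalizer (T : Set (Cfsg.Sz F m)) : Set (Cfsg.Sz F m)) with hN
  have hsol : sol x = (B ∪ B') ∪ N := by
    ext y
    rw [mem_sol_iff hm hF hx1]
    constructor
    · rintro (⟨p, hp, hy⟩ | ⟨T', hT', h1, h2⟩)
      · rcases tor_fixed hF hs hp with rfl | rfl
        exacts [Or.inl (Or.inl hy), Or.inl (Or.inr hy)]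
      · refine Or.inr ?_
        rwa [hN, SetLike.mem_coe, ← hT'.eq_of_mem hm hF hT
          (hT'.mem_of_normalizer hm hF h1 (odd_orderOf_tor' hm hF s)) hxT hx1]
    · rintro ((hy | hy) | hy)
      · exact Or.inl ⟨_, tor_smul_infty hF s, hy⟩
      · exact Or.inl ⟨_, tor_smul_zero hF s, hy⟩
      · exact Or.inr ⟨T, hT, Subgroup.le_normalizer hxT, hy⟩
  have hfix : ∀ y ∈ N, y • infty (F := F) m = infty m ∨ y • point (F := F) m 0 0 = point m 0 0 →
      y ∈ (T : Set (Cfsg.Sz F m)) := by
    intro y hy hor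
    have hmem : y⁻¹ * x * y ∈ T := (Subgroup.mem_set_normalizer_iff''.1 hy _).1 hxT
    obtain ⟨t, ht⟩ := (mem_torusSubgroup hF).1 hmem
    have hp : ∀ p : Cfsg.suzukiOvoid F m, tor hF t • p = p →
        y • p = infty m ∨ y • p = point m 0 0 := fun p hp => tor_fixed hF hs (by
      rw [← mul_smul, show x * y = y * (y⁻¹ * x * y) by group, ht, mul_smul, hp])
    have e0 := hp _ (tor_smul_infty hF t)
    have e1 := hp _ (tor_smul_zero hF t)
    have hne := point_ne_infty (F := F) (m := m) 0 0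
    refine (mem_torusSubgroup hF).2 ?_
    rcases hor with h | h
    · exact exists_to hm hF h (e1.resolve_left fun e => hne (smul_left_cancel y (e.trans h.symm)))
    · exact exists_to hm hF (e0.resolve_right fun e => hne (smul_left_cancel y (h.trans e.symm))) h
  have hT1 : B ∩ B' = (T : Set (Cfsg.Sz F m)) := by
    ext y
    constructor
    · rintro ⟨h1, h2⟩; exact (mem_torusSubgroup hF).2 (exists_to hm hF h1 h2)
    · intro hy
      obtain ⟨t, rfl⟩ := (mem_torusSubgroup hF).1 hy
      exact ⟨tor_smul_infty hF t, tor_smul_zero hF t⟩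
  have hT2 : (B ∪ B') ∩ N = (T : Set (Cfsg.Sz F m)) := by
    ext y
    constructor
    · rintro ⟨h1, h2⟩; exact hfix y h2 h1
    · intro hy
      refine ⟨Or.inl ?_, Subgroup.le_normalizer hy⟩
      rw [← hT1] at hy
      exact hy.1
  have c1 : (T : Set (Cfsg.Sz F m)).ncard = Fintype.card F - 1 := by
    rw [← Nat.card_coe_set_eq]; exact card_torusSubgroup hF
  have c2 : N.ncard = 2 * (Fintype.card F - 1) := by
    rw [← Nat.card_coe_set_eq]; exact card_normalizer_torusSubgroup hm hF
  have c3 : B.ncard = Fintype.card F ^ 2 * (Fintype.card F - 1) := by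
    rw [← Nat.card_coe_set_eq]; exact card_stabilizer hm hF
  have c4 : B'.ncard = Fintype.card F ^ 2 * (Fintype.card F - 1) := by
    rw [← Nat.card_coe_set_eq]; exact card_stabilizer_point hm hF _
  have e1 := Set.ncard_union_add_ncard_inter B B'
  have e2 := Set.ncard_union_add_ncard_inter (B ∪ B') N
  rw [hT1, c1, c3, c4] at e1
  rw [hT2, c1, c2, ← hsol] at e2
  rw [show 2 * Fintype.card F ^ 2 * (Fintype.card F - 1) =
    2 * (Fintype.card F ^ 2 * (Fintype.card F - 1)) by ring]
  omega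

/-! ### Elements of translation type -/

/-- Elements of a torus normalizer outside the torus are of translation type. -/
theorem IsTor.trType_of_notMem {T : Subgroup (Cfsg.Sz F m)} (hT : IsTor T) {y : Cfsg.Sz F m}
    (hy : y ∈ Subgroup.normalizer (T : Set (Cfsg.Sz F m))) (hyT : y ∉ T) : IsTrType hF y := by
  rcases trType_or_isTor hm hF (fun e : y = 1 => hyT (e ▸ T.one_mem)) with h | h
  · exact h
  · exact absurd (hT.mem_of_normalizer hm hF hy
      (h.2.2.1.of_dvd_nat (Subgroup.orderOf_dvd_natCard _ (Subgroup.mem_centralizer_singleton_iff.2 rfl)))) hyT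

theorem IsTrType.notMem_tor {x : Cfsg.Sz F m} (hx : IsTrType hF x) {T : Subgroup (Cfsg.Sz F m)}
    (hT : IsTor T) : x ∉ T := fun h => hT.not_trType hm hF h hx

theorem IsTrType.order_cases {x : Cfsg.Sz F m} (hx : IsTrType hF x) :
    orderOf x = 2 ∨ orderOf x = 4 := by
  have hd : orderOf x ∣ 2 ^ 2 := orderOf_dvd_of_pow_eq_one (hx.pow_four hm hF)
  obtain ⟨i, hi, e⟩ := (Nat.dvd_prime_pow Nat.prime_two).1 hd
  interval_cases i
  · exact absurd (orderOf_eq_one_iff.1 e) (hx.ne_one hm hF)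
  · exact Or.inl e
  · exact Or.inr e

theorem trType_of_order {x : Cfsg.Sz F m} (hx : orderOf x = 2 ∨ orderOf x = 4) : IsTrType hF x := by
  have h1 : x ≠ 1 := fun e => by rw [e, orderOf_one] at hx; omega
  rcases trType_or_isTor hm hF h1 with h | h
  · exact h
  · have := h.2.2.1.of_dvd_nat (Subgroup.orderOf_dvd_natCard _
      (Subgroup.mem_centralizer_singleton_iff.2 rfl : x ∈ Subgroup.centralizer ({x} : Set (Cfsg.Sz F m))))
    rcases hx with e | e <;> rw [e] at this <;> exact absurd this (by decide)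

/-- An involution normalizing a torus inverts it. -/
theorem IsTor.inverted {T : Subgroup (Cfsg.Sz F m)} (hT : IsTor T) {z : Cfsg.Sz F m}
    (hz : z ∈ Subgroup.normalizer (T : Set (Cfsg.Sz F m))) (h2 : orderOf z = 2) {u : Cfsg.Sz F m}
    (hu : u ∈ T) : z * u * z = u⁻¹ := by
  have hzz : z * z = 1 := by rw [← sq, ← h2, pow_orderOf_eq_one]
  have hzi : z⁻¹ = z := inv_eq_of_mul_eq_one_right hzz
  have hu' : z * u * z ∈ T := by
    have := (Subgroup.mem_set_normalizer_iff.1 hz u).1 hu
    rwa [hzi] at this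
  haveI := hT.2.1
  letI : CommGroup T := IsCyclic.commGroup
  have hcomm : z * u * z * u = u * (z * u * z) :=
    congrArg Subtype.val (mul_comm (⟨_, hu'⟩ : T) ⟨u, hu⟩)
  by_contra hne
  have hne' : u * (z * u * z) ≠ 1 := fun e => hne (eq_inv_of_mul_eq_one_right e)
  have hc : z * (u * (z * u * z)) = u * (z * u * z) * z := by
    calc z * (u * (z * u * z)) = z * u * z * u * z := by group
      _ = u * (z * u * z) * z := by rw [hcomm]
  have := hT.2.2.2 _ (T.mul_mem hu hu') hne'
  have hmem : z ∈ T := this ▸ Subgroup.mem_centralizer_singleton_iff.2 hc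
  exact (trType_of_order hm hF (Or.inl h2)).notMem_tor hm hF hT hmem

/-- Numbers of involutions and of elements of order four in the normalizer of a torus. -/
theorem IsTor.count {T : Subgroup (Cfsg.Sz F m)} (hT : IsTor T) :
    {y : Cfsg.Sz F m | y ∈ Subgroup.normalizer (T : Set (Cfsg.Sz F m)) ∧ orderOf y = 2}.ncard = Nat.card T ∧
      {y : Cfsg.Sz F m | y ∈ Subgroup.normalizer (T : Set (Cfsg.Sz F m)) ∧ orderOf y = 4}.ncard =
        Nat.card (Subgroup.normalizer (T : Set (Cfsg.Sz F m))) - 2 * Nat.card T := by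
  set N := Subgroup.normalizer (T : Set (Cfsg.Sz F m)) with hN
  haveI : Fact (Nat.Prime 2) := ⟨Nat.prime_two⟩
  have hev : 2 ∣ Nat.card N := by
    rcases hT.cases hm hF with ⟨-, -, e⟩ | ⟨-, -, e⟩ <;> rw [hN, e]
    exacts [dvd_mul_right _ _, Dvd.dvd.mul_right (by norm_num) _]
  obtain ⟨⟨z, hz⟩, hzo⟩ := exists_prime_orderOf_dvd_card' 2 hev
  rw [Subgroup.orderOf_mk] at hzo
  have hzz : z * z = 1 := by rw [← sq, ← hzo, pow_orderOf_eq_one]
  have hcount2 : {y : Cfsg.Sz F m | y ∈ N ∧ orderOf y = 2} = (fun t => z * t) '' (T : Set (Cfsg.Sz F m)) := by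
    ext y
    constructor
    · rintro ⟨hy, hyo⟩
      have hyy : y * y = 1 := by rw [← sq, ← hyo, pow_orderOf_eq_one]
      refine ⟨z * y, ?_, show z * (z * y) = y by rw [← mul_assoc, hzz, one_mul]⟩
      obtain ⟨t, ht, ht1⟩ := T.bot_or_exists_ne_one.resolve_left hT.1
      rw [SetLike.mem_coe, ← hT.2.2.2 t ht ht1, Subgroup.mem_centralizer_singleton_iff]
      have e1 := hT.inverted hm hF hy hyo ht
      have e2 := hT.inverted hm hF hz hzo (T.inv_mem ht)
      rw [inv_inv] at e2
      have e3 : y * t = t⁻¹ * y := by rw [← e1, mul_assoc, hyy, mul_one]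
      have e4 : z * t⁻¹ = t * z := by
        calc z * t⁻¹ = z * t⁻¹ * z * z := by rw [mul_assoc _ z z, hzz, mul_one]
          _ = t * z := by rw [e2]
      rw [mul_assoc, e3, ← mul_assoc, e4, mul_assoc]
    · rintro ⟨t, ht, rfl⟩
      have hmem : z * t ∈ N := mul_mem hz (Subgroup.le_normalizer ht)
      refine ⟨hmem, orderOf_eq_prime ?_ fun e => ?_⟩
      · rw [sq, show z * t * (z * t) = z * t * z * t by group, hT.inverted hm hF hz hzo ht, inv_mul_cancel]
      · have : z ∈ T := by
          rw [eq_inv_of_mul_eq_one_left e]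
          exact T.inv_mem ht
        exact (trType_of_order hm hF (Or.inl hzo)).notMem_tor hm hF hT this
  have h2 : {y : Cfsg.Sz F m | y ∈ N ∧ orderOf y = 2}.ncard = Nat.card T := by
    rw [hcount2, Set.ncard_image_of_injective _ (mul_right_injective z), ← Nat.card_coe_set_eq]
    rfl
  refine ⟨h2, ?_⟩
  have hunion : (N : Set (Cfsg.Sz F m)) = (T : Set (Cfsg.Sz F m)) ∪
      {y | y ∈ N ∧ orderOf y = 2} ∪ {y | y ∈ N ∧ orderOf y = 4} := by
    ext y
    constructor
    · intro hy
      by_cases hyT : y ∈ T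
      · exact Or.inl (Or.inl hyT)
      rcases (hT.trType_of_notMem hm hF hy hyT).order_cases hm hF with e | e
      exacts [Or.inl (Or.inr ⟨hy, e⟩), Or.inr ⟨hy, e⟩]
    · rintro ((hy | hy) | hy)
      exacts [Subgroup.le_normalizer hy, hy.1, hy.1]
  have hd1 : Disjoint (T : Set (Cfsg.Sz F m)) {y | y ∈ N ∧ orderOf y = 2} := by
    rw [Set.disjoint_left]
    exact fun y hy hy' => (trType_of_order hm hF (Or.inl hy'.2)).notMem_tor hm hF hT hy
  have hd2 : Disjoint ((T : Set (Cfsg.Sz F m)) ∪ {y | y ∈ N ∧ orderOf y = 2})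
      {y | y ∈ N ∧ orderOf y = 4} := by
    rw [Set.disjoint_left]
    rintro y (hy | hy) hy'
    · exact (trType_of_order hm hF (Or.inr hy'.2)).notMem_tor hm hF hT hy
    · exact absurd (hy.2.symm.trans hy'.2) (by norm_num)
  have e := congrArg Set.ncard hunion
  rw [Set.ncard_union_eq hd2, Set.ncard_union_eq hd1, h2] at e
  rw [← Nat.card_coe_set_eq, ← Nat.card_coe_set_eq (s := (T : Set (Cfsg.Sz F m)))] at e
  have e' : Nat.card N = Nat.card T + Nat.card T +
      {y : Cfsg.Sz F m | y ∈ N ∧ orderOf y = 4}.ncard := e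
  omega

omit hm in
theorem orderOf_tr_zero_iff {a b : F} :
    (orderOf (tr hF a b : Cfsg.Sz F m) = 2 ↔ a = 0 ∧ b ≠ 0) ∧
      (orderOf (tr hF a b : Cfsg.Sz F m) = 4 ↔ a ≠ 0) := by
  by_cases ha : a = 0
  · subst ha
    by_cases hb : b = 0
    · subst hb
      simp [tr_zero]
    · simp [orderOf_center_tr hF hb, hb]
  · have hsq : (tr hF a b : Cfsg.Sz F m) ^ 2 = tr hF 0 (a ^ 2 ^ (m + 1) * a) := by
      rw [sq, tr_mul, CharTwo.add_self_eq_zero, CharTwo.add_self_eq_zero, zero_add]
    have h4 : orderOf (tr hF a b : Cfsg.Sz F m) = 2 ^ (1 + 1) := by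
      refine orderOf_eq_prime_pow ?_ ?_
      · rw [pow_one, hsq, ← tr_zero hF]
        exact fun e => mul_ne_zero (pow_ne_zero _ ha) ha (tr_injective hF e).2
      · rw [pow_succ, pow_one, pow_mul, hsq, sq, tr_mul]
        simp [CharTwo.add_self_eq_zero, tr_zero]
    simp [h4, ha]

/-- Number of elements of order two or four. -/
theorem card_order (d : ℕ) (hd : d = 2 ∨ d = 4) :
    {y : Cfsg.Sz F m | orderOf y = d}.ncard = (Fintype.card F ^ 2 + 1) *
      (if d = 2 then Fintype.card F - 1 else (Fintype.card F - 1) * Fintype.card F) := by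
  classical
  haveI := pretransitive (m := m) hF
  choose γ hγ using fun p : Cfsg.suzukiOvoid F m =>
    MulAction.exists_smul_eq (Cfsg.Sz F m) (infty (F := F) m) p
  let P := {ab : F × F // orderOf (tr hF ab.1 ab.2 : Cfsg.Sz F m) = d}
  let f : Cfsg.suzukiOvoid F m × P → {y : Cfsg.Sz F m | orderOf y = d} := fun a =>
    ⟨γ a.1 * tr hF a.2.1.1 a.2.1.2 * (γ a.1)⁻¹, by
      show orderOf _ = d
      rw [orderOf_conj_eq]; exact a.2.2⟩
  have hne : ∀ ab : P, ab.1.1 ≠ 0 ∨ ab.1.2 ≠ 0 := fun ab => by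
    by_contra hc
    push Not at hc
    have := ab.2
    rw [hc.1, hc.2, tr_zero, orderOf_one] at this
    omega
  have hf : Function.Bijective f := by
    refine ⟨?_, ?_⟩
    · rintro ⟨p, ab⟩ ⟨p', ab'⟩ he
      have he' : γ p * tr hF ab.1.1 ab.1.2 * (γ p)⁻¹ = γ p' * tr hF ab'.1.1 ab'.1.2 * (γ p')⁻¹ :=
        congrArg Subtype.val he
      have hp : p = p' := by
        have h1 : (tr hF ab'.1.1 ab'.1.2) • ((γ p')⁻¹ • p) = (γ p')⁻¹ • p := by
          rw [eq_inv_smul_iff]
          calc γ p' • tr hF ab'.1.1 ab'.1.2 • (γ p')⁻¹ • p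
              = (γ p' * tr hF ab'.1.1 ab'.1.2 * (γ p')⁻¹) • p := by rw [mul_smul, mul_smul]
            _ = (γ p * tr hF ab.1.1 ab.1.2 * (γ p)⁻¹) • p := by rw [he']
            _ = p := by
              rw [mul_smul, mul_smul,
                show (γ p)⁻¹ • p = infty (F := F) m from inv_smul_eq_iff.2 (hγ p).symm, tr_smul_infty, hγ]
        have h2 := eq_infty_of_tr_fixed hF (hne ab') h1
        rw [inv_smul_eq_iff, hγ] at h2
        exact h2
      subst hp
      obtain ⟨e1, e2⟩ := tr_injective hF (mul_left_cancel (mul_right_cancel he'))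
      exact Prod.ext rfl (Subtype.ext (Prod.ext e1 e2))
    · rintro ⟨y, hy⟩
      have hy' : orderOf y = d := hy
      obtain ⟨p, hp, -⟩ := (trType_of_order hm hF (hy' ▸ hd : orderOf y = 2 ∨ orderOf y = 4)).exists_fixed hm hF
      obtain ⟨a, b, s, hs⟩ := exists_tr_to hm hF (g := (γ p)⁻¹ * y * γ p) (by
        rw [mul_smul, mul_smul, hγ, hp, inv_smul_eq_iff, hγ])
      have hs1 : s = 1 := by
        by_contra hs1
        obtain ⟨c, e, hce⟩ := exists_conj_tor hF a b hs1
        have h1 : orderOf ((γ p)⁻¹ * y * γ p) = d := by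
          rw [show (γ p)⁻¹ * y * γ p = (γ p)⁻¹ * y * (γ p)⁻¹⁻¹ by group, orderOf_conj_eq, hy']
        rw [hs, ← hce, orderOf_conj_eq] at h1
        have h2 : Odd d := by
          rw [← h1, ← Subgroup.orderOf_mk (H := torusSubgroup (m := m) hF) _
            ((mem_torusSubgroup hF).2 ⟨s, rfl⟩)]
          exact (isTor_torusSubgroup hm hF).2.2.1.of_dvd_nat (orderOf_dvd_natCard _)
        rcases hd with rfl | rfl <;> exact absurd h2 (by decide)
      rw [hs1, tor_one, mul_one] at hs
      refine ⟨⟨p, ⟨(a, b), ?_⟩⟩, Subtype.ext ?_⟩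
      · show orderOf (tr hF a b : Cfsg.Sz F m) = d
        rw [← hs, show (γ p)⁻¹ * y * γ p = (γ p)⁻¹ * y * (γ p)⁻¹⁻¹ by group, orderOf_conj_eq, hy']
      · show γ p * tr hF a b * (γ p)⁻¹ = y
        rw [← hs]; group
  rw [← Nat.card_coe_set_eq, ← Nat.card_eq_of_bijective f hf, Nat.card_prod, ovoid_equiv hF]
  congr 1
  rcases hd with rfl | rfl
  · rw [if_pos rfl, ← Nat.card_eq_fintype_card (α := F),
      ← Nat.card_units F]
    refine Nat.card_congr
      { toFun := fun ab => Units.mk0 ab.1.2 ((orderOf_tr_zero_iff hF).1.1 ab.2).2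
        invFun := fun u => ⟨(0, (u : F)), (orderOf_tr_zero_iff hF).1.2 ⟨rfl, u.ne_zero⟩⟩
        left_inv := fun ab => Subtype.ext (Prod.ext ((orderOf_tr_zero_iff hF).1.1 ab.2).1.symm rfl)
        right_inv := fun u => Units.ext rfl }
  · rw [if_neg (by norm_num), ← Nat.card_eq_fintype_card (α := F), ← Nat.card_units F, ← Nat.card_prod]
    refine Nat.card_congr
      { toFun := fun ab => (Units.mk0 ab.1.1 ((orderOf_tr_zero_iff hF).2.1 ab.2), ab.1.2)
        invFun := fun u => ⟨((u.1 : F), u.2), (orderOf_tr_zero_iff hF).2.2 u.1.ne_zero⟩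
        left_inv := fun ab => rfl
        right_inv := fun u => Prod.ext (Units.ext rfl) rfl }

/-- Every element of the same order is conjugate to `x` or to its inverse. -/
theorem conj_or_conj_inv {x y : Cfsg.Sz F m} (hx : orderOf x = 2 ∨ orderOf x = 4)
    (hxy : orderOf y = orderOf x) : IsConj x y ∨ IsConj x⁻¹ y := by
  have h2 : (2 : F) = 0 := CharTwo.two_eq_zero
  -- representatives
  have rep2 : ∀ b : F, b ≠ 0 → IsConj (tr hF 0 1 : Cfsg.Sz F m) (tr hF 0 b) := by
    intro b hb
    have hinj : Function.Injective (fun a : F => theta F m a * a ^ 2) := by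
      intro u v e
      have e' : theta F m u * u ^ 2 = theta F m v * v ^ 2 := e
      by_cases hv : v = 0
      · subst hv
        rw [map_zero, zero_mul, mul_eq_zero, map_eq_zero, pow_eq_zero_iff two_ne_zero, or_self] at e'
        exact e'
      · have h0 : theta F m v ≠ 0 := (map_ne_zero _).2 hv
        refine (div_eq_one_iff_eq hv).1 (eq_one_of_theta_mul_sq hF (m := m) ?_)
        rw [map_div₀]
        field_simp
        linear_combination e'
    obtain ⟨u, hu⟩ := Finite.surjective_of_injective hinj b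
    have hu' : theta F m u * u ^ 2 = b := hu
    refine isConj_iff.2 ⟨tor hF (Units.mk0 u fun e => hb (by rw [← hu', e]; simp)), ?_⟩
    rw [conj_tr, Units.val_mk0, mul_zero, mul_one, ← theta_def, hu']
  have rep4 : ∀ a b : F, a ≠ 0 → IsConj (tr hF 1 0 : Cfsg.Sz F m) (tr hF a b) ∨
      IsConj (tr hF 1 1 : Cfsg.Sz F m) (tr hF a b) := by
    intro a b ha
    obtain ⟨u, hu⟩ := exists_theta hF (m := m) a
    have hu0 : u ≠ 0 := fun e => ha (by rw [← hu, e, map_zero])
    set s := Units.mk0 u hu0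
    set K := (s : F) ^ 2 ^ (m + 1) * (s : F) ^ 2 with hK
    have hK0 : K ≠ 0 := mul_ne_zero (pow_ne_zero _ s.ne_zero) (pow_ne_zero _ s.ne_zero)
    have hs : (s : F) ^ 2 ^ (m + 1) = a := by rw [← theta_def]; exact hu
    -- reduce to `tr 1 β` and shift `β` by the image of `c ↦ c ^ θ + c`
    let φ : F →+ F :=
      { toFun := fun c => theta F m c + c
        map_zero' := by simp
        map_add' := fun c d => by rw [map_add]; ring }
    have hker : φ.ker = AddSubgroup.zmultiples (1 : F) := by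
      ext c
      rw [AddMonoidHom.mem_ker]
      constructor
      · intro hc
        rcases eq_zero_or_one_of_theta hF (m := m) (x := c) (CharTwo.add_eq_zero.1 hc) with rfl | rfl
        exacts [AddSubgroup.zero_mem _, AddSubgroup.mem_zmultiples _]
      · intro hc
        obtain ⟨k, rfl⟩ := AddSubgroup.mem_zmultiples_iff.1 hc
        rw [map_zsmul]
        show k • (theta F m 1 + 1) = 0
        rw [map_one, CharTwo.add_self_eq_zero, smul_zero]
    have hone : (1 : F) ∉ φ.range := by
      rintro ⟨c, hc⟩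
      have hc' : theta F m c + c = 1 := hc
      have e4 := congrArg (theta F m) hc'
      rw [map_add, theta_theta hF, map_one] at e4
      have e5 : c * (c - 1) = 0 := by linear_combination e4 - hc'
      rcases mul_eq_zero.1 e5 with rfl | h5
      · simp at hc'
      · rw [sub_eq_zero.1 h5, map_one] at hc'
        exact one_ne_zero (show (1 : F) = 0 by linear_combination -hc' + h2)
    have hindex : φ.range.index = 2 := by
      have h1 := AddSubgroup.card_mul_index φ.range
      have h3 := AddSubgroup.card_mul_index φ.ker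
      rw [AddSubgroup.index_ker, hker, Nat.card_zmultiples,
        addOrderOf_eq_prime (p := 2) (by rw [two_nsmul]; exact CharTwo.add_self_eq_zero 1) one_ne_zero] at h3
      have hpos : 0 < Nat.card φ.range := Nat.card_pos
      nlinarith
    obtain ⟨ε, hε, c, hc⟩ : ∃ ε : F, (ε = 0 ∨ ε = 1) ∧ ∃ c, theta F m c + c = b / K + ε := by
      by_cases hb : b / K ∈ φ.range
      · obtain ⟨c, hc⟩ := hb
        exact ⟨0, Or.inl rfl, c, by rw [add_zero]; exact hc⟩
      · have h1 := (AddSubgroup.add_mem_iff_of_index_two hindex (a := b / K) (b := 1)).2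
          (iff_of_false hb hone)
        obtain ⟨c, hc⟩ := h1
        exact ⟨1, Or.inr rfl, c, hc⟩
    have hconj : IsConj (tr hF 1 ε : Cfsg.Sz F m) (tr hF a b) := by
      refine isConj_iff.2 ⟨tor hF s * tr hF c 0, ?_⟩
      rw [show tor hF s * tr hF c 0 * tr hF 1 ε * (tor hF s * tr hF c 0)⁻¹ =
        tor hF s * (tr hF c 0 * tor hF 1 * tr hF 1 ε * (tr hF c 0 * tor hF 1)⁻¹) * (tor hF s)⁻¹ by
          rw [tor_one]; group, conj_mul_tr, conj_tr]
      congr 1
      · rw [hs]; simp
      · rw [← hK]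
        simp only [Units.val_one, one_pow, one_mul, mul_one]
        rw [← theta_def (x := c)]
        have hb' : b = K * (b / K) := (mul_div_cancel₀ b hK0).symm
        linear_combination K * hc - hb' + K * ε * h2
    rcases hε with rfl | rfl
    exacts [Or.inl hconj, Or.inr hconj]
  have reduce : ∀ z : Cfsg.Sz F m, orderOf z = 2 ∨ orderOf z = 4 → ∃ a b, IsConj z (tr hF a b) ∧
      orderOf (tr hF a b : Cfsg.Sz F m) = orderOf z := by
    intro z hz
    obtain ⟨h, a, b, -, he⟩ := trType_of_order hm hF hz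
    exact ⟨a, b, isConj_iff.2 ⟨h, he⟩, by rw [← he, orderOf_conj_eq]⟩
  obtain ⟨a, b, hc, ho⟩ := reduce x hx
  obtain ⟨a', b', hc', ho'⟩ := reduce y (hxy ▸ hx)
  rcases hx with h | h
  · left
    obtain ⟨rfl, hb⟩ := (orderOf_tr_zero_iff hF).1.1 (ho.trans h)
    obtain ⟨rfl, hb'⟩ := (orderOf_tr_zero_iff hF).1.1 (ho'.trans (hxy.trans h))
    exact hc.trans ((rep2 b hb).symm.trans ((rep2 b' hb').trans hc'.symm))
  · have ha := (orderOf_tr_zero_iff hF).2.1 (ho.trans h)
    have ha' := (orderOf_tr_zero_iff hF).2.1 (ho'.trans (hxy.trans h))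
    have hinv : (tr hF 1 0 : Cfsg.Sz F m)⁻¹ = tr hF 1 1 := by rw [tr_inv]; simp
    have hinv' : (tr hF 1 1 : Cfsg.Sz F m)⁻¹ = tr hF 1 0 := by rw [← hinv, inv_inv]
    have inv_conj : ∀ {u v : Cfsg.Sz F m}, IsConj u v → IsConj u⁻¹ v⁻¹ := fun {u v} huv => by
      obtain ⟨c, hc⟩ := isConj_iff.1 huv
      exact isConj_iff.2 ⟨c, by rw [← hc]; group⟩
    rcases rep4 a b ha with e | e <;> rcases rep4 a' b' ha' with e' | e'
    · exact Or.inl (hc.trans (e.symm.trans (e'.trans hc'.symm)))
    · refine Or.inr ((inv_conj hc).trans ((inv_conj e).symm.trans ?_))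
      rw [hinv]
      exact e'.trans hc'.symm
    · refine Or.inr ((inv_conj hc).trans ((inv_conj e).symm.trans ?_))
      rw [hinv']
      exact e'.trans hc'.symm
    · exact Or.inl (hc.trans (e.symm.trans (e'.trans hc'.symm)))

omit hm hF in
/-- The tori of order `n` normalized by `x`. -/
def toriAt (n : ℕ) (x : Cfsg.Sz F m) : Set (Subgroup (Cfsg.Sz F m)) :=
  {T | IsTor T ∧ Nat.card T = n ∧ x ∈ Subgroup.normalizer (T : Set (Cfsg.Sz F m))}

theorem ncard_toriAt_conj (n : ℕ) (h x : Cfsg.Sz F m) :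
    (toriAt n (h * x * h⁻¹)).ncard = (toriAt n x).ncard := by
  have key : ∀ (g a : Cfsg.Sz F m) (T : Subgroup (Cfsg.Sz F m)), T ∈ toriAt n a →
      T.map (MulAut.conj g).toMonoidHom ∈ toriAt n (g * a * g⁻¹) := by
    rintro g a T ⟨h1, h2, h3⟩
    refine ⟨h1.map_conj hm hF g, by rw [Subgroup.card_map_of_injective (MulAut.conj g).injective, h2], ?_⟩
    rw [← Subgroup.map_equiv_normalizer_eq]
    exact ⟨a, h3, rfl⟩
  have : toriAt n (h * x * h⁻¹) = (fun T => T.map (MulAut.conj h).toMonoidHom) '' toriAt n x := by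
    ext T
    constructor
    · intro hT
      refine ⟨T.map (MulAut.conj h⁻¹).toMonoidHom, ?_, ?_⟩
      · have := key h⁻¹ _ T hT
        rwa [show h⁻¹ * (h * x * h⁻¹) * h⁻¹⁻¹ = x by group] at this
      · show (T.map (MulAut.conj h⁻¹).toMonoidHom).map (MulAut.conj h).toMonoidHom = T
        rw [Subgroup.map_map]
        convert Subgroup.map_id T using 2
        exact MonoidHom.ext fun z => show h * (h⁻¹ * z * h⁻¹⁻¹) * h⁻¹ = z by group
    · rintro ⟨T', hT', rfl⟩
      exact key h x T' hT'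
  rw [this]
  exact Set.ncard_image_of_injective _ (Subgroup.map_injective (MulAut.conj h).injective)

/-- Double counting tori against elements of order `d`. -/
theorem toriAt_count {x : Cfsg.Sz F m} (hx : orderOf x = 2 ∨ orderOf x = 4)
    {T₀ : Subgroup (Cfsg.Sz F m)} (hT₀ : IsTor T₀) :
    {y : Cfsg.Sz F m | orderOf y = orderOf x}.ncard * (toriAt (Nat.card T₀) x).ncard *
        Nat.card (Subgroup.normalizer (T₀ : Set (Cfsg.Sz F m))) =
      Nat.card (Cfsg.Sz F m) *
        {y : Cfsg.Sz F m | y ∈ Subgroup.normalizer (T₀ : Set (Cfsg.Sz F m)) ∧ orderOf y = orderOf x}.ncard := by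
  classical
  haveI : Fintype (Cfsg.Sz F m) := Fintype.ofFinite _
  haveI : Fintype (Subgroup (Cfsg.Sz F m)) := Fintype.ofFinite _
  set n := Nat.card T₀
  let 𝒯 : Finset (Subgroup (Cfsg.Sz F m)) := Finset.univ.filter fun T => IsTor T ∧ Nat.card T = n
  let E : Finset (Cfsg.Sz F m) := Finset.univ.filter fun y => orderOf y = orderOf x
  -- the number of tori
  have htori : 𝒯.card * Nat.card (Subgroup.normalizer (T₀ : Set (Cfsg.Sz F m))) =
      Nat.card (Cfsg.Sz F m) := by
    rw [Nat.card_eq_fintype_card (α := Cfsg.Sz F m), ← Finset.card_univ,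
      Finset.card_eq_sum_card_fiberwise (f := fun g => T₀.map (MulAut.conj g).toMonoidHom) (t := 𝒯)
        (fun g _ => Finset.mem_filter.2 ⟨Finset.mem_univ _, hT₀.map_conj hm hF g,
          Subgroup.card_map_of_injective (MulAut.conj g).injective⟩),
      Finset.sum_const_nat (m := Nat.card (Subgroup.normalizer (T₀ : Set (Cfsg.Sz F m))))]
    intro T hT
    obtain ⟨-, hT1, hT2⟩ := Finset.mem_filter.1 hT
    obtain ⟨h, hh⟩ := hT₀.conj_of_card_eq hm hF hT1 hT2.symm
    rw [← Fintype.card_coe, ← Nat.card_eq_fintype_card]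
    refine Eq.symm (Nat.card_congr ?_)
    refine
      { toFun := fun k => ⟨h * (k : Cfsg.Sz F m), Finset.mem_filter.2 ⟨Finset.mem_univ _, ?_⟩⟩
        invFun := fun g => ⟨h⁻¹ * (g : Cfsg.Sz F m), ?_⟩
        left_inv := fun k => Subtype.ext (inv_mul_cancel_left _ _)
        right_inv := fun g => by
          apply Subtype.ext
          show h * (h⁻¹ * (g : Cfsg.Sz F m)) = g
          exact mul_inv_cancel_left _ _ }
    · rw [map_mul, show (MulAut.conj h * MulAut.conj (k : Cfsg.Sz F m)).toMonoidHom =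
        (MulAut.conj h).toMonoidHom.comp (MulAut.conj (k : Cfsg.Sz F m)).toMonoidHom from rfl,
        ← Subgroup.map_map, show T₀.map (MulAut.conj (k : Cfsg.Sz F m)).toMonoidHom = T₀ from
          Subgroup.mem_normalizer_iff_map_conj_eq.1 k.2, hh]
    · rw [Subgroup.mem_normalizer_iff_map_conj_eq]
      exact map_conj_of_eq (Finset.mem_filter.1 g.2).2 hh
  -- double counting
  have hsum : ∑ y ∈ E, (toriAt n y).ncard = ∑ T ∈ 𝒯,
      {y : Cfsg.Sz F m | y ∈ Subgroup.normalizer (T : Set (Cfsg.Sz F m)) ∧ orderOf y = orderOf x}.ncard := by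
    have e1 : ∀ y, (toriAt n y).ncard =
        ∑ T ∈ 𝒯, if y ∈ Subgroup.normalizer (T : Set (Cfsg.Sz F m)) then 1 else 0 := by
      intro y
      rw [Finset.sum_boole, Nat.cast_id, ← Set.ncard_coe_finset]
      congr 1
      ext T
      simp [toriAt, 𝒯, and_assoc]
    have e2 : ∀ T : Subgroup (Cfsg.Sz F m),
        {y : Cfsg.Sz F m | y ∈ Subgroup.normalizer (T : Set (Cfsg.Sz F m)) ∧ orderOf y = orderOf x}.ncard =
        ∑ y ∈ E, if y ∈ Subgroup.normalizer (T : Set (Cfsg.Sz F m)) then 1 else 0 := by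
      intro T
      rw [Finset.sum_boole, Nat.cast_id, ← Set.ncard_coe_finset]
      congr 1
      ext y
      simp [E, and_comm]
    simp only [e1, e2]
    exact Finset.sum_comm
  have hconst : ∀ y ∈ E, (toriAt n y).ncard = (toriAt n x).ncard := by
    intro y hy
    rcases conj_or_conj_inv hm hF hx (Finset.mem_filter.1 hy).2 with h | h <;>
      obtain ⟨c, rfl⟩ := isConj_iff.1 h <;> rw [ncard_toriAt_conj hm hF]
    congr 1
    ext T
    simp [toriAt]
  have hconst' : ∀ T ∈ 𝒯,
      {y : Cfsg.Sz F m | y ∈ Subgroup.normalizer (T : Set (Cfsg.Sz F m)) ∧ orderOf y = orderOf x}.ncard =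
      {y : Cfsg.Sz F m | y ∈ Subgroup.normalizer (T₀ : Set (Cfsg.Sz F m)) ∧ orderOf y = orderOf x}.ncard := by
    intro T hT
    obtain ⟨-, hT1, hT2⟩ := Finset.mem_filter.1 hT
    obtain ⟨h, hh⟩ := hT₀.conj_of_card_eq hm hF hT1 hT2.symm
    rw [← Set.ncard_image_of_injective
      {y : Cfsg.Sz F m | y ∈ Subgroup.normalizer (T₀ : Set (Cfsg.Sz F m)) ∧ orderOf y = orderOf x}
      (MulAut.conj h).injective]
    congr 1
    ext y
    rw [← hh, ← Subgroup.map_equiv_normalizer_eq]
    constructor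
    · rintro ⟨⟨z, hz, rfl⟩, ho⟩
      exact ⟨z, ⟨hz, by rw [← orderOf_conj_eq h z]; exact ho⟩, rfl⟩
    · rintro ⟨z, ⟨hz, ho⟩, rfl⟩
      exact ⟨⟨z, hz, rfl⟩, (orderOf_conj_eq h z).trans ho⟩
  rw [Finset.sum_const_nat hconst, Finset.sum_const_nat hconst'] at hsum
  have hE : E.card = {y : Cfsg.Sz F m | orderOf y = orderOf x}.ncard := by
    rw [← Set.ncard_coe_finset]; congr 1; ext y; simp [E]
  rw [← hE, hsum, mul_assoc, mul_comm _ (Nat.card (Subgroup.normalizer (T₀ : Set (Cfsg.Sz F m)))),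
    ← mul_assoc, htori]

/-- How a torus normalizer meets the point stabilizer. -/
theorem inter_card {x : Cfsg.Sz F m} (hx : IsTrType hF x) {p : Cfsg.suzukiOvoid F m} (hp : x • p = p)
    {T : Subgroup (Cfsg.Sz F m)} (hT : IsTor T) (hxN : x ∈ Subgroup.normalizer (T : Set (Cfsg.Sz F m))) :
    Nat.card ↥(Subgroup.normalizer (T : Set (Cfsg.Sz F m)) ⊓ stabilizer (Cfsg.Sz F m) p) * Nat.card T =
      Nat.card (Subgroup.normalizer (T : Set (Cfsg.Sz F m))) := by
  set N := Subgroup.normalizer (T : Set (Cfsg.Sz F m)) with hN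
  set K := N ⊓ stabilizer (Cfsg.Sz F m) p with hK
  obtain ⟨p₀, -, huniq⟩ := hx.exists_fixed hm hF
  have hpuniq : ∀ p', x • p' = p' → p' = p := fun p' hp' => (huniq p' hp').trans (huniq p hp).symm
  -- the torus has no element fixing `p`
  have hKT : ∀ d ∈ T, d • p = p → d = 1 := by
    intro d hd hdp
    by_contra hd1
    have hall : ∀ t ∈ T, t • p = p := fun t ht => fixed_of_commute hm hF hd1
      (Subgroup.mem_centralizer_singleton_iff.1 (by rw [hT.2.2.2 d hd hd1]; exact ht)) hdp
    rcases cases_of_fixed hm hF hdp with ⟨h, a, b, -, he⟩ | ⟨h, s, hs, hh, he⟩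
    · refine hT.not_trType hm hF hd ⟨h, a, b, ?_, he⟩
      by_contra hc
      push Not at hc
      rw [hc.1, hc.2, tr_zero, conj_eq_one_iff] at he
      exact hd1 he
    · set p' := h⁻¹ • point (F := F) m 0 0 with hp'
      have hdp' : d • p' = p' := by
        rw [hp', eq_inv_smul_iff]
        calc h • d • h⁻¹ • point (F := F) m 0 0 = (h * d * h⁻¹) • point m 0 0 := by
              rw [mul_smul, mul_smul]
          _ = point m 0 0 := by rw [he, tor_smul_zero]
      have hne : p' ≠ p := fun e => point_ne_infty (F := F) (m := m) 0 0 (by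
        rw [← hh, ← e, hp', smul_inv_smul])
      have hdxp' : d • x • p' = x • p' := by
        have hconj : x⁻¹ * d * x ∈ T := (Subgroup.mem_set_normalizer_iff''.1 hxN d).1 hd
        have h1 : (x⁻¹ * d * x) • p' = p' := fixed_of_commute hm hF hd1
          (Subgroup.mem_centralizer_singleton_iff.1 (by rw [hT.2.2.2 d hd hd1]; exact hconj)) hdp'
        rwa [mul_smul, mul_smul, inv_smul_eq_iff] at h1
      have h3 : ({p, p', x • p'} : Set (Cfsg.suzukiOvoid F m)).ncard ≤ 2 := by
        haveI : Finite (Cfsg.suzukiOvoid F m) := Nat.finite_of_card_ne_zero (by rw [ovoid_equiv hF]; omega)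
        refine le_trans (Set.ncard_le_ncard ?_ (Set.toFinite _))
          (by have := card_fixed_le hm hF hd1; rwa [Nat.card_coe_set_eq] at this)
        rintro z (rfl | rfl | rfl)
        exacts [hdp, hdp', hdxp']
      rw [Set.ncard_eq_three.2 ⟨p, p', x • p', hne.symm,
        fun e => hne (smul_left_cancel x ((hp.trans e).symm)), fun e => hne (hpuniq p' e.symm), rfl⟩] at h3
      omega
  -- upper bound
  haveI hnor : (T.subgroupOf N).Normal := Subgroup.normal_in_normalizer
  have hidx := Subgroup.card_mul_index (T.subgroupOf N)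
  rw [Nat.card_congr (Subgroup.subgroupOfEquivOfLe Subgroup.le_normalizer).toEquiv] at hidx
  have hinj : Function.Injective
      ((QuotientGroup.mk' (T.subgroupOf N)).comp (Subgroup.inclusion (inf_le_left : K ≤ N))) := by
    rw [← MonoidHom.ker_eq_bot_iff, eq_bot_iff]
    intro k hk
    rw [MonoidHom.mem_ker, MonoidHom.comp_apply, QuotientGroup.mk'_apply, QuotientGroup.eq_one_iff,
      Subgroup.mem_subgroupOf] at hk
    exact Subtype.ext (hKT _ hk k.2.2)
  have hle : Nat.card K ≤ (T.subgroupOf N).index := by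
    rw [Subgroup.index_eq_card]; exact Nat.card_le_card_of_injective _ hinj
  have hxK : x ∈ K := ⟨hxN, hp⟩
  have hge2 : 2 ≤ Nat.card K := by
    refine le_trans ?_ (Nat.le_of_dvd Nat.card_pos (Subgroup.orderOf_dvd_natCard K hxK))
    rcases hx.order_cases hm hF with e | e <;> omega
  rcases hT.cases hm hF with ⟨-, -, e⟩ | ⟨-, -, e⟩ <;> rw [← hN] at e <;> rw [e, mul_comm] at hidx
  · rw [Nat.eq_of_mul_eq_mul_right Nat.card_pos hidx] at hle
    rw [e, show Nat.card K = 2 by omega]
  · rw [Nat.eq_of_mul_eq_mul_right Nat.card_pos hidx] at hle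
    haveI : Fact (Nat.Prime 2) := ⟨Nat.prime_two⟩
    obtain ⟨S, hS⟩ := (IsPGroup.of_card (G := Subgroup.zpowers (⟨x, hxN⟩ : N)) (p := 2)
      (n := if orderOf x = 2 then 1 else 2) (by
        rw [Nat.card_zpowers, Subgroup.orderOf_mk]
        rcases hx.order_cases hm hF with e' | e' <;> rw [e'] <;> rfl)).exists_le_sylow
    have hS4 : 4 ∣ Nat.card S := by
      refine (Nat.Prime.pow_dvd_iff_le_factorization Nat.prime_two Nat.card_pos.ne' (k := 2)).2 ?_
      rw [S.card_eq_multiplicity, Nat.factorization_pow, Finsupp.smul_apply,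
        Nat.Prime.factorization_self Nat.prime_two, smul_eq_mul, mul_one]
      exact (Nat.Prime.pow_dvd_iff_le_factorization Nat.prime_two Nat.card_pos.ne').1
        ⟨Nat.card T, by rw [e]; rfl⟩
    haveI := S.isPGroup'.isNilpotent
    set S' := (S : Subgroup N).map N.subtype with hS'
    have hnil : Group.IsNilpotent S' :=
      Group.nilpotent_of_mulEquiv ((S : Subgroup N).equivMapOfInjective _ N.subtype_injective)
    have hS'K : S' ≤ K := by
      intro a ha
      refine ⟨?_, nilpotent_fixes hm hF hnil (g := x) ⟨⟨x, hxN⟩, hS (Subgroup.mem_zpowers _), rfl⟩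
        (hx.ne_one hm hF) hp ha⟩
      obtain ⟨a', -, rfl⟩ := ha
      exact a'.2
    have h4 : 4 ≤ Nat.card K := by
      refine le_trans (Nat.le_of_dvd Nat.card_pos ?_) (Nat.le_of_dvd Nat.card_pos (Subgroup.card_dvd_of_le hS'K))
      rw [hS', Subgroup.card_map_of_injective N.subtype_injective]
      exact hS4
    rw [e, show Nat.card K = 4 by omega]

/-- The solubilizer of an element of translation type. -/
theorem ncard_sol_trType {x : Cfsg.Sz F m} (hx : IsTrType hF x) :
    (sol x).ncard = Fintype.card F ^ 2 * (Fintype.card F - 1) +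
      ((toriAt (Fintype.card F - 1) x).ncard * (2 * (Fintype.card F - 1) - 2) +
        (toriAt (kPlus m) x).ncard * (4 * kPlus m - 4) +
        (toriAt (kMinus m) x).ncard * (4 * kMinus m - 4)) := by
  classical
  haveI : Fintype (Cfsg.Sz F m) := Fintype.ofFinite _
  haveI : Fintype (Subgroup (Cfsg.Sz F m)) := Fintype.ofFinite _
  obtain ⟨p, hp, huniq⟩ := hx.exists_fixed hm hF
  have hx1 := hx.ne_one hm hF
  set B := stabilizer (Cfsg.Sz F m) p with hB
  let S : Finset (Subgroup (Cfsg.Sz F m)) :=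
    Finset.univ.filter fun T => IsTor T ∧ x ∈ Subgroup.normalizer (T : Set (Cfsg.Sz F m))
  let D : Subgroup (Cfsg.Sz F m) → Finset (Cfsg.Sz F m) := fun T =>
    Finset.univ.filter fun y => y ∈ Subgroup.normalizer (T : Set (Cfsg.Sz F m)) ∧ y ∉ B
  have hdisj : (S : Set (Subgroup (Cfsg.Sz F m))).PairwiseDisjoint D := by
    intro T hT T' hT' hne
    rw [Function.onFun, Finset.disjoint_left]
    intro y hy hy'
    obtain ⟨-, hT1, hxT⟩ := Finset.mem_filter.1 (Finset.mem_coe.1 hT)
    obtain ⟨-, hT1', hxT'⟩ := Finset.mem_filter.1 (Finset.mem_coe.1 hT')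
    obtain ⟨-, hyT, hyB⟩ := Finset.mem_filter.1 hy
    obtain ⟨-, hyT', -⟩ := Finset.mem_filter.1 hy'
    set N := Subgroup.normalizer (T : Set (Cfsg.Sz F m))
    set M := N ⊓ Subgroup.normalizer (T' : Set (Cfsg.Sz F m))
    haveI hnor : (T.subgroupOf N).Normal := Subgroup.normal_in_normalizer
    have hidx := Subgroup.card_mul_index (T.subgroupOf N)
    rw [Nat.card_congr (Subgroup.subgroupOfEquivOfLe Subgroup.le_normalizer).toEquiv] at hidx
    have hinj : Function.Injective
        ((QuotientGroup.mk' (T.subgroupOf N)).comp (Subgroup.inclusion (inf_le_left : M ≤ N))) := by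
      rw [← MonoidHom.ker_eq_bot_iff, eq_bot_iff]
      intro k hk
      rw [MonoidHom.mem_ker, MonoidHom.comp_apply, QuotientGroup.mk'_apply, QuotientGroup.eq_one_iff,
        Subgroup.mem_subgroupOf] at hk
      by_contra hk1
      have hk1' : (k : Cfsg.Sz F m) ≠ 1 := fun e => hk1 (Subtype.ext e)
      exact hne (hT1.eq_of_mem hm hF hT1'
        hk (hT1'.mem_of_normalizer hm hF k.2.2 (hT1.2.2.1.of_dvd_nat (Subgroup.orderOf_dvd_natCard T hk)))
        hk1')
    haveI : Fact (Nat.Prime 2) := ⟨Nat.prime_two⟩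
    have hq : IsPGroup 2 (N ⧸ T.subgroupOf N) := by
      rcases hT1.cases hm hF with ⟨-, -, e⟩ | ⟨-, -, e⟩ <;> rw [e, mul_comm] at hidx
      · exact IsPGroup.of_card (n := 1) (by
          rw [← Subgroup.index_eq_card, Nat.eq_of_mul_eq_mul_right Nat.card_pos hidx, pow_one])
      · exact IsPGroup.of_card (n := 2) (by
          rw [← Subgroup.index_eq_card, Nat.eq_of_mul_eq_mul_right Nat.card_pos hidx]; rfl)
    have hM : IsPGroup 2 M := hq.of_injective _ hinj
    exact hyB (nilpotent_fixes hm hF hM.isNilpotent (g := x) ⟨hxT, hxT'⟩ hx1 hp ⟨hyT, hyT'⟩)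
  have hsol : (sol x).ncard = Nat.card B + ∑ T ∈ S, (D T).card := by
    have e : sol x = (B : Set (Cfsg.Sz F m)) ∪ ↑(S.biUnion D) := by
      ext y
      rw [mem_sol_iff hm hF hx1]
      constructor
      · rintro (⟨p', h1, h2⟩ | ⟨T, hT, h1, h2⟩)
        · left; rw [huniq p' h1] at h2; exact h2
        · by_cases hyB : y ∈ B
          · exact Or.inl hyB
          · exact Or.inr (Finset.mem_coe.2 (Finset.mem_biUnion.2 ⟨T,
              Finset.mem_filter.2 ⟨Finset.mem_univ _, hT, h1⟩,
              Finset.mem_filter.2 ⟨Finset.mem_univ _, h2, hyB⟩⟩))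
      · rintro (hy | hy)
        · exact Or.inl ⟨p, hp, hy⟩
        · obtain ⟨T, hT, hyT⟩ := Finset.mem_biUnion.1 (Finset.mem_coe.1 hy)
          obtain ⟨-, hT1, hxT⟩ := Finset.mem_filter.1 hT
          exact Or.inr ⟨T, hT1, hxT, (Finset.mem_filter.1 hyT).2.1⟩
    rw [e, Set.ncard_union_eq ?_ (Set.toFinite _) (Set.toFinite _), Set.ncard_coe_finset,
      Finset.card_biUnion hdisj, ← Nat.card_coe_set_eq]
    · rfl
    · rw [Set.disjoint_left]
      intro y hy hy'
      obtain ⟨T, -, hyT⟩ := Finset.mem_biUnion.1 (Finset.mem_coe.1 hy')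
      exact (Finset.mem_filter.1 hyT).2.2 hy
  have hD : ∀ T ∈ S, ∀ j, Nat.card (Subgroup.normalizer (T : Set (Cfsg.Sz F m))) = j * Nat.card T →
      (D T).card = j * Nat.card T - j := by
    intro T hT j hj
    obtain ⟨-, hT1, hxT⟩ := Finset.mem_filter.1 hT
    have h1 := inter_card hm hF hx hp hT1 hxT
    rw [hj] at h1
    have h2 := Nat.eq_of_mul_eq_mul_right Nat.card_pos h1
    set N := Subgroup.normalizer (T : Set (Cfsg.Sz F m))
    have e : ((N : Set (Cfsg.Sz F m)) ∩ B).ncard + ((N : Set (Cfsg.Sz F m)) \ B).ncard =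
        (N : Set (Cfsg.Sz F m)).ncard := Set.ncard_inter_add_ncard_sdiff_eq_ncard _ _ (Set.toFinite _)
    have e1 : (N : Set (Cfsg.Sz F m)).ncard = j * Nat.card T := by
      rw [← Nat.card_coe_set_eq]; exact hj
    have e2 : ((N : Set (Cfsg.Sz F m)) ∩ B).ncard = j := by
      rw [← Nat.card_coe_set_eq]; exact h2
    have e3 : ((N : Set (Cfsg.Sz F m)) \ B).ncard = (D T).card := by
      rw [← Set.ncard_coe_finset]; congr 1; ext y; simp [D, N]
    omega
  obtain ⟨hk1, hk2, hk3⟩ := kPlus_ne (F := F) hm hF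
  have hsplit : ∑ T ∈ S, (D T).card =
      (toriAt (Fintype.card F - 1) x).ncard * (2 * (Fintype.card F - 1) - 2) +
        (toriAt (kPlus m) x).ncard * (4 * kPlus m - 4) +
        (toriAt (kMinus m) x).ncard * (4 * kMinus m - 4) := by
    have hcardS : ∀ n, (S.filter fun T : Subgroup (Cfsg.Sz F m) => Nat.card T = n).card =
        (toriAt n x).ncard := by
      intro n
      rw [← Set.ncard_coe_finset]
      congr 1
      ext T
      simp [S, toriAt]
      tauto
    have hmaps : ∀ T ∈ S, Nat.card T ∈ ({Fintype.card F - 1, kPlus m, kMinus m} : Finset ℕ) := by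
      intro T hT
      obtain ⟨-, hT1, -⟩ := Finset.mem_filter.1 hT
      simp only [Finset.mem_insert, Finset.mem_singleton]
      rcases hT1.cases hm hF with ⟨e, -⟩ | ⟨e | e, -⟩
      exacts [Or.inl e, Or.inr (Or.inl e), Or.inr (Or.inr e)]
    rw [← Finset.sum_fiberwise_of_maps_to hmaps, Finset.sum_insert (by simp [hk1.symm, hk2.symm]),
      Finset.sum_insert (by simp [hk3]), Finset.sum_singleton, ← add_assoc,
      ← hcardS, ← hcardS, ← hcardS]
    congr 1
    congr 1
    all_goals
      refine Finset.sum_const_nat fun T hT => ?_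
      obtain ⟨hTS, hTc⟩ := Finset.mem_filter.1 hT
      obtain ⟨-, hT1, -⟩ := Finset.mem_filter.1 hTS
      rcases hT1.cases hm hF with ⟨e, -, e'⟩ | ⟨e | e, -, e'⟩ <;>
        first
          | omega
          | (rw [hD T hTS _ e', hTc])
  rw [hsol, hsplit, hB, card_stabilizer_point hm hF]

/-- The solubilizer of an involution. -/
theorem ncard_sol_two {x : Cfsg.Sz F m} (hx : orderOf x = 2) :
    (sol x).ncard = Fintype.card F ^ 2 * (4 * Fintype.card F - 3) := by
  obtain ⟨g, g', hg, hg', e1, e2, n1, n2, -⟩ := exists_two_tori hm hF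
  have hT0 := isTor_torusSubgroup (m := m) hm hF
  have hTp := isTor_of_fpf hm hF hg
  have hTm := isTor_of_fpf hm hF hg'
  have a0 := toriAt_count hm hF (x := x) (Or.inl hx) hT0
  have ap := toriAt_count hm hF (x := x) (Or.inl hx) hTp
  have am := toriAt_count hm hF (x := x) (Or.inl hx) hTm
  rw [hx, card_order hm hF 2 (Or.inl rfl), if_pos rfl, (hT0.count hm hF).1, card_torusSubgroup hF,
    card_normalizer_torusSubgroup hm hF, card_eq hm hF] at a0
  rw [hx, card_order hm hF 2 (Or.inl rfl), if_pos rfl, (hTp.count hm hF).1, n1, e1, card_eq hm hF] at ap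
  rw [hx, card_order hm hF 2 (Or.inl rfl), if_pos rfl, (hTm.count hm hF).1, n2, e2, card_eq hm hF] at am
  rw [ncard_sol_trType hm hF (trType_of_order hm hF (Or.inl hx))]
  set c0 := (toriAt (Fintype.card F - 1) x).ncard
  set cp := (toriAt (kPlus m) x).ncard
  set cm := (toriAt (kMinus m) x).ncard
  have hsum : kPlus m + kMinus m = 2 * (Fintype.card F + 1) := by
    have := two_mul_r_le hm
    rw [hF]
    unfold kPlus kMinus
    omega
  have h5 := five_le_kPlus hm
  have h5' := five_le_kMinus hm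
  have hq1 : 2 ≤ Fintype.card F := Fintype.one_lt_card
  obtain ⟨q, hq⟩ : ∃ q, Fintype.card F = q + 2 := ⟨Fintype.card F - 2, by omega⟩
  obtain ⟨k, hk⟩ : ∃ k, kPlus m = k + 1 := ⟨kPlus m - 1, by omega⟩
  obtain ⟨l, hl⟩ : ∃ l, kMinus m = l + 1 := ⟨kMinus m - 1, by omega⟩
  rw [hq] at a0 ap am hsum ⊢
  rw [hk] at ap hsum ⊢
  rw [hl] at am hsum ⊢
  rw [show q + 2 - 1 = q + 1 by omega] at a0 ap am ⊢
  have b0 : 2 * c0 = (q + 2) ^ 2 := by
    refine Nat.eq_of_mul_eq_mul_left (show 0 < ((q + 2) ^ 2 + 1) * (q + 1) * (q + 1) by positivity) ?_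
    linear_combination a0
  have bp : 4 * cp = (q + 2) ^ 2 := by
    refine Nat.eq_of_mul_eq_mul_left (show 0 < ((q + 2) ^ 2 + 1) * (q + 1) * (k + 1) by positivity) ?_
    linear_combination ap
  have bm : 4 * cm = (q + 2) ^ 2 := by
    refine Nat.eq_of_mul_eq_mul_left (show 0 < ((q + 2) ^ 2 + 1) * (q + 1) * (l + 1) by positivity) ?_
    linear_combination am
  rw [show 2 * (q + 1) - 2 = 2 * q by omega, show 4 * (k + 1) - 4 = 4 * k by omega,
    show 4 * (l + 1) - 4 = 4 * l by omega, show 4 * (q + 2) - 3 = 4 * q + 5 by omega]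
  linear_combination q * b0 + k * bp + l * bm + (q + 2) ^ 2 * hsum

/-- The solubilizer of an element of order four. -/
theorem ncard_sol_four {x : Cfsg.Sz F m} (hx : orderOf x = 4) :
    (sol x).ncard = Fintype.card F ^ 2 * (Fintype.card F + 3) := by
  obtain ⟨g, g', hg, hg', e1, e2, n1, n2, -⟩ := exists_two_tori hm hF
  have hT0 := isTor_torusSubgroup (m := m) hm hF
  have hTp := isTor_of_fpf hm hF hg
  have hTm := isTor_of_fpf hm hF hg'
  have a0 := toriAt_count hm hF (x := x) (Or.inr hx) hT0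
  have ap := toriAt_count hm hF (x := x) (Or.inr hx) hTp
  have am := toriAt_count hm hF (x := x) (Or.inr hx) hTm
  rw [hx, card_order hm hF 4 (Or.inr rfl), if_neg (by norm_num), (hT0.count hm hF).2,
    card_torusSubgroup hF, card_normalizer_torusSubgroup hm hF, card_eq hm hF, Nat.sub_self] at a0
  rw [hx, card_order hm hF 4 (Or.inr rfl), if_neg (by norm_num), (hTp.count hm hF).2, n1, e1,
    card_eq hm hF] at ap
  rw [hx, card_order hm hF 4 (Or.inr rfl), if_neg (by norm_num), (hTm.count hm hF).2, n2, e2,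
    card_eq hm hF] at am
  rw [ncard_sol_trType hm hF (trType_of_order hm hF (Or.inr hx))]
  set c0 := (toriAt (Fintype.card F - 1) x).ncard
  set cp := (toriAt (kPlus m) x).ncard
  set cm := (toriAt (kMinus m) x).ncard
  have hsum : kPlus m + kMinus m = 2 * (Fintype.card F + 1) := by
    have := two_mul_r_le hm
    rw [hF]
    unfold kPlus kMinus
    omega
  have h5 := five_le_kPlus hm
  have h5' := five_le_kMinus hm
  have hq1 : 2 ≤ Fintype.card F := Fintype.one_lt_card
  obtain ⟨q, hq⟩ : ∃ q, Fintype.card F = q + 2 := ⟨Fintype.card F - 2, by omega⟩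
  obtain ⟨k, hk⟩ : ∃ k, kPlus m = k + 1 := ⟨kPlus m - 1, by omega⟩
  obtain ⟨l, hl⟩ : ∃ l, kMinus m = l + 1 := ⟨kMinus m - 1, by omega⟩
  rw [hq] at a0 ap am hsum ⊢
  rw [hk] at ap hsum ⊢
  rw [hl] at am hsum ⊢
  rw [show q + 2 - 1 = q + 1 by omega] at a0 ap am ⊢
  rw [show 4 * (k + 1) - 2 * (k + 1) = 2 * (k + 1) by omega] at ap
  rw [show 4 * (l + 1) - 2 * (l + 1) = 2 * (l + 1) by omega] at am
  have b0 : c0 = 0 := by
    simpa [Nat.mul_eq_zero] using a0
  have bp : 2 * cp = q + 2 := by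
    refine Nat.eq_of_mul_eq_mul_left
      (show 0 < ((q + 2) ^ 2 + 1) * ((q + 1) * (q + 2)) * (2 * (k + 1)) by positivity) ?_
    linear_combination ap
  have bm : 2 * cm = q + 2 := by
    refine Nat.eq_of_mul_eq_mul_left
      (show 0 < ((q + 2) ^ 2 + 1) * ((q + 1) * (q + 2)) * (2 * (l + 1)) by positivity) ?_
    linear_combination am
  rw [b0, zero_mul, zero_add, show 4 * (k + 1) - 4 = 4 * k by omega,
    show 4 * (l + 1) - 4 = 4 * l by omega]
  linear_combination 2 * k * bp + 2 * l * bm + 2 * (q + 2) * hsum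

/-- All five cases of the solubilizer count. -/
theorem solubilizer_card (x : Cfsg.Sz F m) :
    (orderOf x = 2 → (sol x).ncard = Fintype.card F ^ 2 * (4 * Fintype.card F - 3)) ∧
    (orderOf x = 4 → (sol x).ncard = Fintype.card F ^ 2 * (Fintype.card F + 3)) ∧
    (x ≠ 1 → orderOf x ∣ Fintype.card F - 1 →
      (sol x).ncard = 2 * Fintype.card F ^ 2 * (Fintype.card F - 1)) ∧
    (x ≠ 1 → orderOf x ∣ kPlus m → (sol x).ncard = 4 * kPlus m) ∧
    (x ≠ 1 → orderOf x ∣ kMinus m → (sol x).ncard = 4 * kMinus m) := by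
  have hkk := kPlus_mul_kMinus hm
  rw [← hF] at hkk
  have cs := coprime_stabilizer (F := F) hm hF
  rw [← hkk] at cs
  have cq1 := (Nat.coprime_mul_iff_left.1 cs).2
  refine ⟨fun h => ncard_sol_two hm hF h, fun h => ncard_sol_four hm hF h, fun h1 hd => ?_, ?_, ?_⟩
  · rcases element_cases hm hF h1 with hf | ⟨h, a, b, hab, he⟩ | ⟨h, s, hs, he⟩
    · exfalso
      have hne : orderOf x ≠ 1 := fun e => h1 (orderOf_eq_one_iff.1 e)
      rcases (fpf_torus hm hF hf).2.1 with e | e
      · exact hne (Nat.eq_one_of_dvd_coprimes (Nat.coprime_mul_iff_right.1 cq1).1 hd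
          ((Subgroup.orderOf_dvd_natCard _ (Subgroup.mem_centralizer_singleton_iff.2 rfl)).trans e))
      · exact hne (Nat.eq_one_of_dvd_coprimes (Nat.coprime_mul_iff_right.1 cq1).2 hd
          ((Subgroup.orderOf_dvd_natCard _ (Subgroup.mem_centralizer_singleton_iff.2 rfl)).trans e))
    · exfalso
      have h2 := (IsTrType.even_orderOf hm hF (g := x) ⟨h, a, b, hab, he⟩).trans hd
      exact Nat.not_even_iff_odd.2 (odd_card_units hm hF) (even_iff_two_dvd.2 h2)
    · rw [← ncard_sol_conj hm hF h, he, ncard_sol_tor hm hF hs]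
  all_goals
    intro h1 hd
    obtain ⟨p, hp, hpd⟩ := Nat.exists_prime_and_dvd (fun e => h1 (orderOf_eq_one_iff.1 e))
    have hk' : orderOf x ∣ Fintype.card F ^ 2 + 1 := by
      rw [← hkk]
      first
        | exact hd.trans (dvd_mul_right _ _)
        | exact hd.trans (dvd_mul_left _ _)
    have ho := orderOf_pow_orderOf_div (orderOf_pos x).ne' hpd
    have hxf : FPF x := by
      intro q hq
      refine (fpf_iff_dvd hm hF hp ho).2 (hpd.trans hk') q ?_
      exact mem_stabilizer_iff.1 (pow_mem (mem_stabilizer_iff.2 hq) _)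
    rw [ncard_sol_fpf hm hF hxf]
    obtain ⟨g, g', hg, hg', e1, e2, n1, n2, hcov⟩ := exists_two_tori hm hF
    rcases hcov x hxf with ⟨-, h, hh⟩ | ⟨-, h, hh⟩
    · have e := ((fpf_torus hm hF hg).2.2.1 _ hh fun e => h1 (conj_eq_one_iff.1 e)).2
      have hdk : orderOf x ∣ kPlus m := e1 ▸ orderOf_conj_eq h x ▸ Subgroup.orderOf_dvd_natCard _ hh
      rw [centralizer_conj hm hF] at e
      rw [← e, ← Subgroup.map_equiv_normalizer_eq,
        Subgroup.card_map_of_injective (MulAut.conj h).injective] at n1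
      first
        | exact n1
        | exact absurd (Nat.eq_one_of_dvd_coprimes (coprime_kPlus_kMinus hm) hdk hd)
            (fun e => h1 (orderOf_eq_one_iff.1 e))
    · have e := ((fpf_torus hm hF hg').2.2.1 _ hh fun e => h1 (conj_eq_one_iff.1 e)).2
      have hdk : orderOf x ∣ kMinus m := e2 ▸ orderOf_conj_eq h x ▸ Subgroup.orderOf_dvd_natCard _ hh
      rw [centralizer_conj hm hF] at e
      rw [← e, ← Subgroup.map_equiv_normalizer_eq,
        Subgroup.card_map_of_injective (MulAut.conj h).injective] at n2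
      first
        | exact n2
        | exact absurd (Nat.eq_one_of_dvd_coprimes (coprime_kPlus_kMinus hm) hd hdk)
            (fun e => h1 (orderOf_eq_one_iff.1 e))

end Cfsg.Agent.Suzuki
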