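import Cfsg.Agent.Lib.Suzuki.Local

/-!
# Fixed points of Suzuki group elements on the ovoid
-/

set_option autoImplicit false
set_option linter.unusedSectionVars false

namespace Cfsg.Agent.Suzuki

open Matrix MulAction

variable {F : Type*} [Field F] [Fintype F] [CharP F 2] {m : ℕ}
variable (hm : 1 ≤ m) (hF : Fintype.card F = 2 ^ (2 * m + 1))

/-- An element fixing no point of the ovoid. -/
def FPF (g : Cfsg.Sz F m) : Prop := ∀ p : Cfsg.suzukiOvoid F m, g • p ≠ p

theorem FPF.ne_one {g : Cfsg.Sz F m} (h : FPF g) : g ≠ 1 := fun e => h (infty m) (by rw [e, one_smul])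

theorem fpf_conj_iff (h g : Cfsg.Sz F m) : FPF (h * g * h⁻¹) ↔ FPF g := by
  constructor
  · intro hh p hp
    exact hh (h • p) (by rw [mul_smul, mul_smul, inv_smul_smul, hp])
  · intro hg p hp
    refine hg (h⁻¹ • p) ?_
    calc g • h⁻¹ • p = h⁻¹ • (h * g * h⁻¹) • p := by rw [mul_smul, mul_smul, inv_smul_smul]
      _ = h⁻¹ • p := by rw [hp]

include hF

/-- The points of the ovoid. -/
theorem ovoid_equiv : Nat.card (Cfsg.suzukiOvoid F m) = Fintype.card F ^ 2 + 1 := by
  let f : Option (F × F) → Cfsg.suzukiOvoid F m := fun o => o.elim (infty m) fun p => point m p.1 p.2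
  have hf : Function.Bijective f := by
    refine ⟨?_, fun p => ?_⟩
    · rintro (_ | ⟨a, b⟩) (_ | ⟨c, d⟩) h
      · rfl
      · exact absurd h (point_ne_infty c d).symm
      · exact absurd h (point_ne_infty a b)
      · obtain ⟨rfl, rfl⟩ := point_injective (m := m) h
        rfl
    · rcases cases_point p with rfl | ⟨x, y, rfl⟩
      · exact ⟨none, rfl⟩
      · exact ⟨some (x, y), rfl⟩
  rw [← Nat.card_eq_of_bijective f hf]
  simp [sq]

theorem tor_fixed {s : Fˣ} (hs : s ≠ 1) {p : Cfsg.suzukiOvoid F m} (hp : tor hF s • p = p) :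
    p = infty m ∨ p = point m 0 0 := by
  rcases cases_point p with rfl | ⟨x, y, rfl⟩
  · exact Or.inl rfl
  · right
    rw [tor_smul_point] at hp
    obtain ⟨h1, h2⟩ := point_injective hp
    have hk : (s : F) ^ 2 ^ (m + 1) ≠ 1 := fun e => hs (Units.ext ((theta F m).injective (by
      rw [Units.val_one, map_one, theta_def]; exact e)))
    have hk' : (s : F) ^ 2 ^ (m + 1) * (s : F) ^ 2 ≠ 1 := fun e => hs (Units.ext
      ((eq_one_of_theta_mul_sq (m := m) hF (u := (s : F)) (by rw [theta_def]; exact e)).trans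
        Units.val_one.symm))
    have hx : x = 0 := by
      refine (mul_eq_zero.1 (show ((s : F) ^ 2 ^ (m + 1) - 1) * x = 0 from ?_)).resolve_left
        (sub_ne_zero.2 hk)
      linear_combination h1
    have hy : y = 0 := by
      refine (mul_eq_zero.1 (show ((s : F) ^ 2 ^ (m + 1) * (s : F) ^ 2 - 1) * y = 0 from ?_)).resolve_left
        (sub_ne_zero.2 hk')
      linear_combination h2
    rw [hx, hy]

/-- A translation times a non-trivial torus element is conjugate to that torus element. -/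
theorem exists_conj_tor (a b : F) {s : Fˣ} (hs : s ≠ 1) :
    ∃ c d, (tr hF c d : Cfsg.Sz F m) * tor hF s * (tr hF c d)⁻¹ = tr hF a b * tor hF s := by
  set k := (s : F) ^ 2 ^ (m + 1) with hk
  set k' := (s : F) ^ 2 ^ (m + 1) * (s : F) ^ 2 with hk'
  have hk1 : 1 + k ≠ 0 := fun e => hs (Units.ext ((theta F m).injective (by
    rw [Units.val_one, map_one, theta_def, ← hk]; exact (CharTwo.add_eq_zero.1 e).symm)))
  have hk2 : 1 + k' ≠ 0 := fun e => hs (Units.ext ((eq_one_of_theta_mul_sq (m := m) hF (u := (s : F))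
    (by rw [theta_def, ← hk']; exact (CharTwo.add_eq_zero.1 e).symm)).trans Units.val_one.symm))
  obtain ⟨c, hc⟩ : ∃ c, c + k * c = a := ⟨a / (1 + k), by
    rw [show a / (1 + k) + k * (a / (1 + k)) = (1 + k) * (a / (1 + k)) by ring,
      mul_div_cancel₀ _ hk1]⟩
  set e := k' * c ^ 2 ^ (m + 1) * c + c ^ 2 ^ (m + 1) * (k * c) with he
  obtain ⟨d, hd⟩ : ∃ d, d + k' * d + e = b := ⟨(b - e) / (1 + k'), by
    rw [show (b - e) / (1 + k') + k' * ((b - e) / (1 + k')) =
      (1 + k') * ((b - e) / (1 + k')) by ring, mul_div_cancel₀ _ hk2, sub_add_cancel]⟩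
  refine ⟨c, d, ?_⟩
  rw [tr_inv, mul_assoc, tor_mul_tr, ← mul_assoc, tr_mul]
  congr 2
  linear_combination hd

include hm

/-- Every element fixing a point is conjugate to a translation or to a torus element. -/
theorem cases_of_fixed {g : Cfsg.Sz F m} {p : Cfsg.suzukiOvoid F m} (hp : g • p = p) :
    (∃ h a b, h • p = infty m ∧ h * g * h⁻¹ = tr hF a b) ∨
      ∃ h s, s ≠ 1 ∧ h • p = infty m ∧ h * g * h⁻¹ = tor hF s := by
  haveI := pretransitive hF
  obtain ⟨h, hh⟩ := MulAction.exists_smul_eq (Cfsg.Sz F m) p (infty m)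
  obtain ⟨a, b, s, hs⟩ := exists_tr_to hm hF (g := h * g * h⁻¹) (by
    rw [mul_smul, mul_smul, ← hh, inv_smul_smul, hp])
  by_cases h1 : s = 1
  · left
    exact ⟨h, a, b, hh, by rw [hs, h1, tor_one, mul_one]⟩
  · right
    obtain ⟨c, d, hcd⟩ := exists_conj_tor hF a b h1
    refine ⟨(tr hF c d)⁻¹ * h, s, h1, by rw [mul_smul, hh, inv_smul_eq_iff, tr_smul_infty], ?_⟩
    rw [show (tr hF c d)⁻¹ * h * g * ((tr hF c d)⁻¹ * h)⁻¹ =
      (tr hF c d)⁻¹ * (h * g * h⁻¹) * tr hF c d by group, hs, ← hcd]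
    group

/-- A non-identity element fixes at most two points. -/
theorem card_fixed_le {g : Cfsg.Sz F m} (hg : g ≠ 1) :
    Nat.card (fixedBy (Cfsg.suzukiOvoid F m) g) ≤ 2 := by
  by_cases hne : ∃ p : Cfsg.suzukiOvoid F m, g • p = p
  · obtain ⟨p, hp⟩ := hne
    rw [Nat.card_coe_set_eq]
    rcases cases_of_fixed hm hF hp with ⟨h, a, b, hh, he⟩ | ⟨h, s, hs, hh, he⟩
    · have hab : a ≠ 0 ∨ b ≠ 0 := by
        by_contra hc
        push Not at hc
        rw [hc.1, hc.2, tr_zero, conj_eq_one_iff] at he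
        exact hg he
      refine le_trans (Set.ncard_le_ncard (t := {h⁻¹ • infty m}) fun x hx => ?_) (by simp)
      rw [Set.mem_singleton_iff, eq_inv_smul_iff]
      refine eq_infty_of_tr_fixed hF hab ?_
      rw [← he, mul_smul, mul_smul, inv_smul_smul, show g • x = x from hx]
    · refine le_trans (Set.ncard_le_ncard (t := {h⁻¹ • infty m, h⁻¹ • point m 0 0}) fun x hx => ?_)
        ((Set.ncard_insert_le _ _).trans (by simp))
      rw [Set.mem_insert_iff, Set.mem_singleton_iff, eq_inv_smul_iff, eq_inv_smul_iff]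
      refine tor_fixed hF hs ?_
      rw [← he, mul_smul, mul_smul, inv_smul_smul, show g • x = x from hx]
  · rw [Nat.card_coe_set_eq]
    rw [show fixedBy (Cfsg.suzukiOvoid F m) g = ∅ from Set.eq_empty_iff_forall_notMem.2
      fun x hx => hne ⟨x, hx⟩]
    simp

theorem tr_centralizer {a b : F} (h : a ≠ 0 ∨ b ≠ 0) {x : Cfsg.Sz F m}
    (hx : x * tr hF a b = tr hF a b * x) : ∃ c d, x = tr hF c d := by
  obtain ⟨c, d, s, rfl, ha, hb⟩ := exists_of_conj_tr hm hF h (a' := a) (b' := b) (x := x)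
    (by rw [hx, mul_inv_cancel_right])
  suffices hs : s = 1 by exact ⟨c, d, by rw [hs, tor_one, mul_one]⟩
  by_cases ha0 : a = 0
  · subst ha0
    simp only [mul_zero, add_zero, zero_pow (show 2 ^ (m + 1) ≠ 0 by positivity), zero_mul] at hb
    refine Units.ext ((eq_one_of_theta_mul_sq (m := m) hF (u := (s : F)) ?_).trans Units.val_one.symm)
    rw [theta_def]
    exact mul_right_cancel₀ (h.resolve_left fun e => e rfl) (hb.symm.trans (one_mul b).symm)
  · refine Units.ext ((theta F m).injective ?_)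
    rw [Units.val_one, map_one, theta_def]
    exact mul_right_cancel₀ ha0 (ha.symm.trans (one_mul a).symm)

theorem odd_card_units : Odd (Fintype.card F - 1) := by
  have hev : Even (Fintype.card F) := by rw [hF]; exact even_two.pow_of_ne_zero (by omega)
  have hpos : 0 < Fintype.card F := Fintype.card_pos
  obtain ⟨k, hk⟩ := hev
  exact ⟨k - 1, by omega⟩

/-- The centralizer of a non-trivial torus element is the torus. -/
theorem tor_centralizer {s : Fˣ} (hs : s ≠ 1) {x : Cfsg.Sz F m}
    (hx : x * tor hF s = tor hF s * x) : ∃ t, x = tor hF t := by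
  have hfix : ∀ p : Cfsg.suzukiOvoid F m, tor hF s • p = p → tor hF s • (x • p) = x • p := fun p hp => by
    rw [← mul_smul, ← hx, mul_smul, hp]
  rcases tor_fixed hF hs (hfix _ (tor_smul_infty hF s)) with h1 | h1
  · have h2 : x • point (F := F) m 0 0 = point m 0 0 :=
      (tor_fixed hF hs (hfix _ (tor_smul_zero hF s))).resolve_left fun e =>
        point_ne_infty (F := F) (m := m) 0 0 (smul_left_cancel x (e.trans h1.symm))
    exact exists_to hm hF h1 h2
  · exfalso
    have h2 : x • point (F := F) m 0 0 = infty m :=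
      (tor_fixed hF hs (hfix _ (tor_smul_zero hF s))).resolve_right fun e =>
        point_ne_infty (F := F) (m := m) 0 0 (smul_left_cancel x (e.trans h1.symm))
    obtain ⟨t, ht⟩ := exists_to hm hF (g := sw hF * x) (by rw [mul_smul, h1, sw_smul_zero])
      (by rw [mul_smul, h2, sw_smul_infty])
    have hxe : x = sw hF * tor hF t := by rw [← ht, ← mul_assoc, sw_mul_self, one_mul]
    have h3 : tor hF s⁻¹ = (tor hF s : Cfsg.Sz F m) := by
      have hcomm : (tor hF t * tor hF s * (tor hF t)⁻¹ : Cfsg.Sz F m) = tor hF s := by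
        rw [← tor_mul, mul_comm t s, tor_mul, mul_inv_cancel_right]
      calc tor hF s⁻¹ = sw hF * tor hF s * (sw hF)⁻¹ := by rw [sw_inv, tor_swap]
        _ = sw hF * (tor hF t * tor hF s * (tor hF t)⁻¹) * (sw hF)⁻¹ := by rw [hcomm]
        _ = x * tor hF s * x⁻¹ := by rw [hxe]; group
        _ = tor hF s := by rw [hx, mul_inv_cancel_right]
    have h4 : s * s = 1 := by
      have := tor_injective hF h3
      calc s * s = s⁻¹ * s := by rw [this]
        _ = 1 := inv_mul_cancel s
    have h5 : orderOf s ∣ 2 := orderOf_dvd_of_pow_eq_one (by rw [sq]; exact h4)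
    have h6 : orderOf s ∣ Fintype.card F - 1 := by
      classical
      rw [← Fintype.card_units]; exact orderOf_dvd_card
    have h7 := Nat.dvd_gcd h6 h5
    rw [Nat.coprime_iff_gcd_eq_one.1 (Nat.coprime_two_right.2 (odd_card_units hm hF)), Nat.dvd_one,
      orderOf_eq_one_iff] at h7
    exact hs h7

/-- Whatever centralizes a non-identity element fixes each of its fixed points. -/
theorem fixed_of_commute {g x : Cfsg.Sz F m} (hg : g ≠ 1) (hx : x * g = g * x)
    {p : Cfsg.suzukiOvoid F m} (hp : g • p = p) : x • p = p := by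
  have key : ∀ h : Cfsg.Sz F m, h • p = infty m → (h * x * h⁻¹) • infty (F := F) m = infty m → x • p = p := by
    intro h hh he
    rw [← hh, mul_smul, mul_smul, inv_smul_smul] at he
    exact smul_left_cancel h he
  have hc : ∀ h : Cfsg.Sz F m, h * x * h⁻¹ * (h * g * h⁻¹) = h * g * h⁻¹ * (h * x * h⁻¹) := fun h => by
    calc h * x * h⁻¹ * (h * g * h⁻¹) = h * (x * g) * h⁻¹ := by group
      _ = h * (g * x) * h⁻¹ := by rw [hx]
      _ = h * g * h⁻¹ * (h * x * h⁻¹) := by group
  rcases cases_of_fixed hm hF hp with ⟨h, a, b, hh, he⟩ | ⟨h, s, hs, hh, he⟩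
  · have hab : a ≠ 0 ∨ b ≠ 0 := by
      by_contra hc'
      push Not at hc'
      rw [hc'.1, hc'.2, tr_zero, conj_eq_one_iff] at he
      exact hg he
    obtain ⟨c, d, e⟩ := tr_centralizer hm hF hab (x := h * x * h⁻¹) (by rw [← he]; exact hc h)
    exact key h hh (by rw [e, tr_smul_infty])
  · obtain ⟨t, e⟩ := tor_centralizer hm hF hs (x := h * x * h⁻¹) (by rw [← he]; exact hc h)
    exact key h hh (by rw [e, tor_smul_infty])

/-- Twice the number of fixed point free elements. -/
theorem two_mul_card_fpf :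
    2 * Nat.card {g : Cfsg.Sz F m // FPF g} + 2 + (Fintype.card F ^ 2 + 1) * Fintype.card F ^ 2 =
      Nat.card (Cfsg.Sz F m) + 2 * (Fintype.card F ^ 2 + 1) := by
  classical
  let Ω : Type _ := ↥(Cfsg.suzukiOvoid F m)
  haveI : Fintype (Cfsg.Sz F m) := Fintype.ofFinite _
  haveI : Finite Ω := Nat.finite_of_card_ne_zero (by rw [ovoid_equiv hF]; omega)
  haveI : Fintype Ω := Fintype.ofFinite _
  have hΩ : Fintype.card Ω = Fintype.card F ^ 2 + 1 := by
    rw [← Nat.card_eq_fintype_card]; exact ovoid_equiv hF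
  -- Burnside on points and on pairs of points
  have burn : ∀ (X : Type _) [MulAction (Cfsg.Sz F m) X] [Fintype X] [Nonempty X]
      [IsPretransitive (Cfsg.Sz F m) X],
      ∑ g : Cfsg.Sz F m, Nat.card (fixedBy X g) = Fintype.card (Cfsg.Sz F m) := by
    intro X _ _ _ _
    simp only [Nat.card_eq_fintype_card]
    haveI : Fintype (Quotient (orbitRel (Cfsg.Sz F m) X)) := Fintype.ofFinite _
    rw [sum_card_fixedBy_eq_card_orbits_mul_card_group (Cfsg.Sz F m) X]
    obtain ⟨u⟩ := (pretransitive_iff_unique_quotient_of_nonempty (Cfsg.Sz F m) X).1 inferInstance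
    haveI := u
    rw [← Nat.card_eq_fintype_card, Nat.card_unique, one_mul]
  haveI := pretransitive (m := m) hF
  haveI : IsPretransitive (Cfsg.Sz F m) (Fin 2 ↪ Ω) := two_transitive hF
  haveI : Nonempty Ω := ⟨infty m⟩
  haveI : Nonempty (Fin 2 ↪ Ω) := by
    refine ⟨⟨![infty m, point m 0 0], ?_⟩⟩
    intro i j
    have := point_ne_infty (F := F) (m := m) 0 0
    fin_cases i <;> fin_cases j <;> simp [this, this.symm]
  have h1 := burn Ω
  have h2 := burn (Fin 2 ↪ Ω)
  set φ : Cfsg.Sz F m → ℕ := fun g => Nat.card (fixedBy Ω g) with hφ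
  have hpairs : ∀ g : Cfsg.Sz F m, Nat.card (fixedBy (Fin 2 ↪ Ω) g) = φ g * (φ g - 1) := by
    intro g
    have e : fixedBy (Fin 2 ↪ Ω) g ≃ (Fin 2 ↪ fixedBy Ω g) :=
      { toFun := fun f => ⟨fun i => ⟨f.1 i, by
            have := congrFun (congrArg DFunLike.coe f.2) i
            exact this⟩, fun i j h => f.1.injective (congrArg Subtype.val h)⟩
        invFun := fun f => ⟨f.trans ⟨Subtype.val, Subtype.val_injective⟩, by
            apply DFunLike.ext
            intro i
            exact (f i).2⟩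
        left_inv := fun f => by rfl
        right_inv := fun f => by rfl }
    rw [Nat.card_congr e, Nat.card_eq_fintype_card, Fintype.card_embedding_eq, Fintype.card_fin,
      ← Nat.card_eq_fintype_card]
    simp [Nat.descFactorial, hφ, mul_comm]
  have hφ1 : φ 1 = Fintype.card F ^ 2 + 1 := by
    rw [← hΩ, ← Nat.card_eq_fintype_card]
    exact Nat.card_congr (Equiv.subtypeUnivEquiv fun x => one_smul _ x)
  have hpt : ∀ g ∈ (Finset.univ : Finset (Cfsg.Sz F m)).erase 1,
      2 * (if FPF g then 1 else 0) + 2 * φ g = 2 + φ g * (φ g - 1) := by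
    intro g hg
    have hle : φ g ≤ 2 := by
      exact card_fixed_le hm hF (Finset.ne_of_mem_erase hg)
    have h0 : φ g = 0 ↔ FPF g := by
      simp only [hφ, Nat.card_eq_fintype_card, Fintype.card_eq_zero_iff, Set.isEmpty_coe_sort, Set.eq_empty_iff_forall_notMem,
        mem_fixedBy]
      rfl
    split_ifs with hf
    · rw [h0.2 hf]
    · have : φ g ≠ 0 := mt h0.1 hf
      rcases (by omega : φ g = 1 ∨ φ g = 2) with e | e <;> rw [e]
  have hsum := Finset.sum_congr rfl hpt
  simp only [Finset.sum_add_distrib, ← Finset.mul_sum, Finset.sum_const, smul_eq_mul,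
    Finset.card_erase_of_mem (Finset.mem_univ _), Finset.card_univ] at hsum
  rw [Finset.sum_congr rfl (fun g _ => hpairs g)] at h2
  rw [← Finset.sum_erase_add _ _ (Finset.mem_univ (1 : Cfsg.Sz F m)), hφ1] at h2
  have h1' : ∑ g ∈ (Finset.univ : Finset (Cfsg.Sz F m)).erase 1, φ g + φ 1 =
      Fintype.card (Cfsg.Sz F m) := by
    rw [Finset.sum_erase_add _ _ (Finset.mem_univ (1 : Cfsg.Sz F m))]; exact h1
  rw [hφ1] at h1'
  have hN : ∑ g ∈ (Finset.univ : Finset (Cfsg.Sz F m)).erase 1, (if FPF g then 1 else 0) =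
      Nat.card {g : Cfsg.Sz F m // FPF g} := by
    rw [Nat.card_eq_fintype_card, Fintype.card_subtype, Finset.sum_erase _ (by
      rw [if_neg fun h => FPF.ne_one h rfl]), Finset.sum_boole, Nat.cast_id]
  rw [hN] at hsum
  rw [Nat.add_sub_cancel] at h2
  rw [Nat.card_eq_fintype_card (α := Cfsg.Sz F m)]
  have hpos : 1 ≤ Fintype.card (Cfsg.Sz F m) := Fintype.card_pos
  omega

theorem card_fpf :
    2 * (Fintype.card F ^ 2 + 1) * Nat.card {g : Cfsg.Sz F m // FPF g} =
      Nat.card (Cfsg.Sz F m) * (Fintype.card F * (Fintype.card F - 1)) := by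
  have h := two_mul_card_fpf hm hF
  rw [card_eq hm hF] at h ⊢
  obtain ⟨p, hp⟩ : ∃ p, Fintype.card F = p + 1 := ⟨Fintype.card F - 1, by
    have : 0 < Fintype.card F := Fintype.card_pos
    omega⟩
  rw [hp, Nat.add_sub_cancel] at h ⊢
  have h2 : 2 * Nat.card {g : Cfsg.Sz F m // FPF g} = (p + 1) ^ 3 * p ^ 2 := by nlinarith
  calc 2 * ((p + 1) ^ 2 + 1) * Nat.card {g : Cfsg.Sz F m // FPF g}
      = ((p + 1) ^ 2 + 1) * (2 * Nat.card {g : Cfsg.Sz F m // FPF g}) := by ring
    _ = _ := by rw [h2]; ring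

end Cfsg.Agent.Suzuki
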