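import Cfsg.Agent.Lib.Suzuki.TorusCent
import Cfsg.Agent.Lib.Suzuki.FixedPoints

/-!
# The two tori of orders `q ± r + 1` and the partition of the Suzuki group
-/

set_option autoImplicit false
set_option linter.unusedSectionVars false

namespace Cfsg.Agent.Suzuki

open Matrix MulAction

/-- The non-identity elements conjugate into `T`. -/
def classSet {G : Type*} [Group G] (T : Subgroup G) : Set G :=
  {y | y ≠ 1 ∧ ∃ h, h * y * h⁻¹ ∈ T}

/-- The number of elements conjugate into a TI subgroup. -/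
theorem ncard_classSet {G : Type*} [Group G] [Finite G] (T : Subgroup G)
    (hTI : ∀ h u : G, u ∈ T → u ≠ 1 → h * u * h⁻¹ ∈ T →
      h ∈ Subgroup.normalizer (T : Set G)) :
    (classSet T).ncard = (Subgroup.normalizer (T : Set G)).index * (Nat.card T - 1) := by
  set N := Subgroup.normalizer (T : Set G)
  let f : (G ⧸ N) × ↥((T : Set G) \ {1}) → classSet T := fun a =>
    ⟨a.1.out * (a.2 : G) * a.1.out⁻¹, fun e => a.2.2.2 (conj_eq_one_iff.1 e),
      a.1.out⁻¹, by
        rw [show a.1.out⁻¹ * (a.1.out * (a.2 : G) * a.1.out⁻¹) * (a.1.out⁻¹)⁻¹ = (a.2 : G) by group]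
        exact a.2.2.1⟩
  have hf : Function.Bijective f := by
    refine ⟨?_, ?_⟩
    · rintro ⟨c₁, u₁, hu₁, hu₁'⟩ ⟨c₂, u₂, hu₂, hu₂'⟩ he
      have he' : c₁.out * u₁ * c₁.out⁻¹ = c₂.out * u₂ * c₂.out⁻¹ := congrArg Subtype.val he
      have e1 : c₁.out⁻¹ * c₂.out * u₂ * (c₁.out⁻¹ * c₂.out)⁻¹ = u₁ := by
        calc c₁.out⁻¹ * c₂.out * u₂ * (c₁.out⁻¹ * c₂.out)⁻¹
            = c₁.out⁻¹ * (c₂.out * u₂ * c₂.out⁻¹) * c₁.out := by group
          _ = c₁.out⁻¹ * (c₁.out * u₁ * c₁.out⁻¹) * c₁.out := by rw [he']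
          _ = u₁ := by group
      have hn := hTI _ u₂ hu₂ hu₂' (by rw [e1]; exact hu₁)
      have hc : c₁ = c₂ := by
        rw [← QuotientGroup.out_eq' c₁, ← QuotientGroup.out_eq' c₂]
        exact QuotientGroup.eq.2 hn
      subst hc
      exact Prod.ext rfl (Subtype.ext (mul_left_cancel (mul_right_cancel he')))
    · rintro ⟨y, hy1, h, hh⟩
      obtain ⟨n, hn⟩ := QuotientGroup.mk_out_eq_mul N h⁻¹
      set c : G ⧸ N := QuotientGroup.mk h⁻¹
      have hmem : c.out⁻¹ * y * c.out ∈ T := by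
        rw [hn, show (h⁻¹ * (n : G))⁻¹ * y * (h⁻¹ * n) = (n : G)⁻¹ * (h * y * h⁻¹) * ((n : G)⁻¹)⁻¹ by
          group]
        exact (Subgroup.mem_set_normalizer_iff.1 (inv_mem n.2) _).1 hh
      refine ⟨⟨c, ⟨c.out⁻¹ * y * c.out, hmem, fun e => hy1 ?_⟩⟩, Subtype.ext ?_⟩
      · rw [Set.mem_singleton_iff] at e
        calc y = c.out * (c.out⁻¹ * y * c.out) * c.out⁻¹ := by group
          _ = 1 := by rw [e]; group
      · show c.out * (c.out⁻¹ * y * c.out) * c.out⁻¹ = y
        group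
  rw [← Nat.card_coe_set_eq, ← Nat.card_eq_of_bijective f hf, Nat.card_prod, ← Subgroup.index_eq_card,
    Nat.card_coe_set_eq, Set.ncard_diff (Set.singleton_subset_iff.2 T.one_mem), Set.ncard_singleton,
    ← Nat.card_coe_set_eq]
  rfl

theorem orderOf_conj_eq {G : Type*} [Group G] (h g : G) : orderOf (h * g * h⁻¹) = orderOf g :=
  MulEquiv.orderOf_eq (MulAut.conj h) g

variable {F : Type*} [Field F] [Fintype F] [CharP F 2] {m : ℕ}
variable (hm : 1 ≤ m) (hF : Fintype.card F = 2 ^ (2 * m + 1))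

include hm hF

theorem card_eq' : Nat.card (Cfsg.Sz F m) =
    (Nat.card (stabilizer (Cfsg.Sz F m) (infty (F := F) m))) * (Fintype.card F ^ 2 + 1) := by
  rw [card_eq hm hF, card_stabilizer hm hF]
  ring

/-- `q ^ 2 + 1` is coprime to the order of a point stabilizer. -/
theorem coprime_stabilizer :
    Nat.Coprime (Fintype.card F ^ 2 * (Fintype.card F - 1)) (Fintype.card F ^ 2 + 1) := by
  refine Nat.Coprime.mul_left ?_ ?_
  · rw [Nat.coprime_self_add_right]
    exact Nat.coprime_one_right _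
  · refine Nat.coprime_of_dvd' fun p hp hp1 hp2 => ?_
    have h1 : 1 ≤ Fintype.card F := Fintype.card_pos
    obtain ⟨k, hk⟩ : ∃ k, Fintype.card F = k + 1 := ⟨Fintype.card F - 1, by omega⟩
    rw [hk, Nat.add_sub_cancel] at hp1
    rw [hk, show (k + 1) ^ 2 + 1 = k * (k + 2) + 2 by ring] at hp2
    have h2 : p ∣ 2 := (Nat.dvd_add_right (Dvd.dvd.mul_right hp1 _)).1 hp2
    have := (Nat.prime_dvd_prime_iff_eq hp Nat.prime_two).1 h2
    subst this
    exfalso
    have h3 := odd_card_units (F := F) hm hF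
    rw [hk, Nat.add_sub_cancel] at h3
    exact Nat.not_even_iff_odd.2 h3 (even_iff_two_dvd.2 hp1)

/-- An element of prime order fixes a point exactly when the prime does not divide `q ^ 2 + 1`. -/
theorem fpf_iff_dvd {x : Cfsg.Sz F m} {p : ℕ} (hp : p.Prime) (hx : orderOf x = p) :
    FPF x ↔ p ∣ Fintype.card F ^ 2 + 1 := by
  haveI := Fact.mk hp
  haveI := pretransitive (m := m) hF
  constructor
  · intro hfpf
    by_contra hnd
    -- a Sylow subgroup of the point stabilizer is a Sylow subgroup of the group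
    set B := stabilizer (Cfsg.Sz F m) (infty (F := F) m)
    obtain ⟨P, hxP⟩ := (IsPGroup.of_card (G := Subgroup.zpowers x) (p := p) (n := 1)
      (by rw [Nat.card_zpowers, hx, pow_one])).exists_le_sylow
    obtain ⟨Q⟩ : Nonempty (Sylow p B) := inferInstance
    set R : Subgroup (Cfsg.Sz F m) := (Q : Subgroup B).map B.subtype with hR
    have hRcard : Nat.card R = p ^ (Nat.card (Cfsg.Sz F m)).factorization p := by
      rw [hR, Subgroup.card_map_of_injective B.subtype_injective, Q.card_eq_multiplicity,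
        card_eq' hm hF, Nat.factorization_mul Nat.card_pos.ne' (by omega), Finsupp.add_apply,
        Nat.factorization_eq_zero_of_not_dvd hnd, add_zero]
    obtain ⟨g, hg⟩ := MulAction.exists_smul_eq (Cfsg.Sz F m) P (Sylow.ofCard R hRcard)
    have hmem : g * x * g⁻¹ ∈ R := by
      have : g * x * g⁻¹ ∈ (g • P : Sylow p (Cfsg.Sz F m)) := by
        rw [← SetLike.mem_coe, Sylow.coe_smul]
        exact Set.smul_mem_smul_set (hxP (Subgroup.mem_zpowers x))
      rw [hg] at this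
      exact this
    obtain ⟨b, -, hb⟩ := hmem
    refine (fpf_conj_iff g x).2 hfpf (infty m) ?_
    rw [← hb]
    exact b.2
  · intro hd q hq
    obtain ⟨g, hg⟩ := MulAction.exists_smul_eq (Cfsg.Sz F m) q (infty m)
    have hmem : g * x * g⁻¹ ∈ stabilizer (Cfsg.Sz F m) (infty (F := F) m) := by
      rw [mem_stabilizer_iff, mul_smul, mul_smul, ← hg, inv_smul_smul, hq]
    have h1 : p ∣ Fintype.card F ^ 2 * (Fintype.card F - 1) := by
      rw [← card_stabilizer hm hF, ← hx, ← orderOf_conj_eq g x]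
      exact Subgroup.orderOf_dvd_natCard _ hmem
    exact hp.ne_one (Nat.eq_one_of_dvd_coprimes (coprime_stabilizer hm hF) h1 hd)

/-- Every non-trivial power of a fixed point free element is fixed point free. -/
theorem FPF_of_commute {g x : Cfsg.Sz F m} (hg : FPF g) (hx1 : x ≠ 1) (hc : g * x = x * g) :
    FPF x := fun p hp => hg p (fixed_of_commute hm hF hx1 hc hp)

theorem fpf_torus {g : Cfsg.Sz F m} (hg : FPF g) :
    IsCyclic (Subgroup.centralizer ({g} : Set (Cfsg.Sz F m))) ∧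
      (Nat.card (Subgroup.centralizer ({g} : Set (Cfsg.Sz F m))) ∣ kPlus m ∨
        Nat.card (Subgroup.centralizer ({g} : Set (Cfsg.Sz F m))) ∣ kMinus m) ∧
      (∀ y ∈ Subgroup.centralizer ({g} : Set (Cfsg.Sz F m)), y ≠ 1 →
        FPF y ∧ Subgroup.centralizer ({y} : Set (Cfsg.Sz F m)) =
          Subgroup.centralizer ({g} : Set (Cfsg.Sz F m))) ∧
      Nat.card (Subgroup.normalizer
          ((Subgroup.centralizer ({g} : Set (Cfsg.Sz F m))) : Set (Cfsg.Sz F m))) ≤
        4 * Nat.card (Subgroup.centralizer ({g} : Set (Cfsg.Sz F m))) := by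
  -- a power of prime order
  have hpow : ∀ y : Cfsg.Sz F m, FPF y → ∃ (p : ℕ) (x : Cfsg.Sz F m), p.Prime ∧ orderOf x = p ∧
      p ∣ Fintype.card F ^ 2 + 1 ∧ x ∈ Subgroup.zpowers y ∧ FPF x := by
    intro y hy
    have h1 : orderOf y ≠ 1 := fun e => hy.ne_one (orderOf_eq_one_iff.1 e)
    obtain ⟨p, hp, hpd⟩ := Nat.exists_prime_and_dvd h1
    refine ⟨p, y ^ (orderOf y / p), hp, ?_, ?_⟩
    · exact orderOf_pow_orderOf_div (orderOf_pos y).ne' hpd
    have ho := orderOf_pow_orderOf_div (orderOf_pos y).ne' hpd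
    have hx : FPF (y ^ (orderOf y / p)) := FPF_of_commute hm hF hy
      (fun e => hp.ne_one (by rw [← ho, e, orderOf_one])) ((Commute.refl y).pow_right _).eq
    exact ⟨(fpf_iff_dvd hm hF hp ho).1 hx, Subgroup.npow_mem_zpowers _ _, hx⟩
  obtain ⟨p, x, hp, hox, hpd, hxg, hxf⟩ := hpow g hg
  obtain ⟨hcyc, hord, hnorm⟩ := torus_centralizer hm hF hp hox hpd
  set C := Subgroup.centralizer ({x} : Set (Cfsg.Sz F m)) with hC
  haveI := hcyc
  obtain ⟨k, hk⟩ := Subgroup.mem_zpowers_iff.1 hxg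
  have hgC : g ∈ C := Subgroup.mem_centralizer_singleton_iff.2 (by
    rw [← hk]; exact ((Commute.refl g).zpow_right k).eq)
  have hxC : x ∈ C := Subgroup.mem_centralizer_singleton_iff.2 rfl
  have hcomm : ∀ a ∈ C, ∀ b ∈ C, a * b = b * a := fun a ha b hb => by
    obtain ⟨⟨c, hc⟩, hgen⟩ := IsCyclic.exists_generator (α := C)
    obtain ⟨i, hi⟩ := Subgroup.mem_zpowers_iff.1 (hgen ⟨a, ha⟩)
    obtain ⟨j, hj⟩ := Subgroup.mem_zpowers_iff.1 (hgen ⟨b, hb⟩)
    have := ((Commute.refl (⟨c, hc⟩ : C)).zpow_zpow i j).eq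
    rw [hi, hj] at this
    exact congrArg Subtype.val this
  -- every non-trivial element of `C` has centralizer `C`
  have key : ∀ y ∈ C, y ≠ 1 → FPF y ∧ Subgroup.centralizer ({y} : Set (Cfsg.Sz F m)) = C := by
    intro y hy hy1
    have hyf : FPF y := FPF_of_commute hm hF hxf hy1 (hcomm x hxC y hy)
    refine ⟨hyf, le_antisymm (fun z hz => ?_) fun z hz =>
      Subgroup.mem_centralizer_singleton_iff.2 (hcomm z hz y hy)⟩
    obtain ⟨p', w, hp', how, hpd', hwy, hwf⟩ := hpow y hyf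
    obtain ⟨hcyc', -, -⟩ := torus_centralizer hm hF hp' how hpd'
    obtain ⟨l, hl⟩ := Subgroup.mem_zpowers_iff.1 hwy
    have hwC : w ∈ C := hl ▸ zpow_mem hy l
    haveI := hcyc'
    have hz' : z ∈ Subgroup.centralizer ({w} : Set (Cfsg.Sz F m)) :=
      Subgroup.mem_centralizer_singleton_iff.2 (by
        rw [← hl]
        exact (Commute.zpow_right (Subgroup.mem_centralizer_singleton_iff.1 hz) l).eq)
    have hx' : x ∈ Subgroup.centralizer ({w} : Set (Cfsg.Sz F m)) :=
      Subgroup.mem_centralizer_singleton_iff.2 (hcomm x hxC w hwC)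
    obtain ⟨⟨c, hc⟩, hgen⟩ := IsCyclic.exists_generator
      (α := Subgroup.centralizer ({w} : Set (Cfsg.Sz F m)))
    obtain ⟨i, hi⟩ := Subgroup.mem_zpowers_iff.1 (hgen ⟨z, hz'⟩)
    obtain ⟨j, hj⟩ := Subgroup.mem_zpowers_iff.1 (hgen ⟨x, hx'⟩)
    have := ((Commute.refl (⟨c, hc⟩ : Subgroup.centralizer ({w} : Set (Cfsg.Sz F m)))).zpow_zpow i j).eq
    rw [hi, hj] at this
    exact Subgroup.mem_centralizer_singleton_iff.2 (congrArg Subtype.val this)
  have hCg : Subgroup.centralizer ({g} : Set (Cfsg.Sz F m)) = C := (key g hgC hg.ne_one).2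
  rw [hCg]
  refine ⟨hcyc, ?_, key, hnorm⟩
  obtain ⟨c, hgen⟩ := IsCyclic.exists_generator (α := C)
  rw [← orderOf_eq_card_of_forall_mem_zpowers hgen, ← Subgroup.orderOf_coe]
  exact hord c c.2

/-- The centralizer of a conjugate. -/
theorem centralizer_conj (h g : Cfsg.Sz F m) :
    Subgroup.centralizer ({h * g * h⁻¹} : Set (Cfsg.Sz F m)) =
      (Subgroup.centralizer ({g} : Set (Cfsg.Sz F m))).map (MulAut.conj h).toMonoidHom := by
  ext z
  rw [Subgroup.mem_centralizer_singleton_iff, Subgroup.mem_map]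
  constructor
  · intro hz
    refine ⟨h⁻¹ * z * h, Subgroup.mem_centralizer_singleton_iff.2 ?_, by
      show h * (h⁻¹ * z * h) * h⁻¹ = z
      group⟩
    calc h⁻¹ * z * h * g = h⁻¹ * (z * (h * g * h⁻¹)) * h := by group
      _ = h⁻¹ * (h * g * h⁻¹ * z) * h := by rw [hz]
      _ = g * (h⁻¹ * z * h) := by group
  · rintro ⟨w, hw, rfl⟩
    rw [Subgroup.mem_centralizer_singleton_iff] at hw
    show h * w * h⁻¹ * (h * g * h⁻¹) = h * g * h⁻¹ * (h * w * h⁻¹)
    calc h * w * h⁻¹ * (h * g * h⁻¹) = h * (w * g) * h⁻¹ := by group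
      _ = h * (g * w) * h⁻¹ := by rw [hw]
      _ = _ := by group

theorem classSet_fpf {g : Cfsg.Sz F m} (hg : FPF g) {y : Cfsg.Sz F m}
    (hy : y ∈ classSet (Subgroup.centralizer ({g} : Set (Cfsg.Sz F m)))) : FPF y := by
  obtain ⟨hy1, h, hh⟩ := hy
  exact (fpf_conj_iff h y).1 ((fpf_torus hm hF hg).2.2.1 _ hh fun e => hy1 (conj_eq_one_iff.1 e)).1

theorem mem_classSet_self {g : Cfsg.Sz F m} (hg : FPF g) :
    g ∈ classSet (Subgroup.centralizer ({g} : Set (Cfsg.Sz F m))) :=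
  ⟨hg.ne_one, 1, by simp [Subgroup.mem_centralizer_singleton_iff]⟩

/-- The number of elements conjugate into a torus. -/
theorem classSet_bound {g : Cfsg.Sz F m} (hg : FPF g) :
    Nat.card (Subgroup.normalizer
        ((Subgroup.centralizer ({g} : Set (Cfsg.Sz F m))) : Set (Cfsg.Sz F m))) *
      (classSet (Subgroup.centralizer ({g} : Set (Cfsg.Sz F m)))).ncard =
      Nat.card (Cfsg.Sz F m) * (Nat.card (Subgroup.centralizer ({g} : Set (Cfsg.Sz F m))) - 1) := by
  have key := (fpf_torus hm hF hg).2.2.1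
  rw [ncard_classSet _ fun h u hu hu1 hhu => ?_, ← mul_assoc, Subgroup.card_mul_index]
  rw [Subgroup.mem_normalizer_iff_map_conj_eq]
  have e := (key _ hhu fun e => hu1 (conj_eq_one_iff.1 e)).2
  rw [centralizer_conj hm hF, (key u hu hu1).2] at e
  exact e

theorem three_le_card {g : Cfsg.Sz F m} (hg : FPF g) :
    3 ≤ Nat.card (Subgroup.centralizer ({g} : Set (Cfsg.Sz F m))) := by
  set c := Nat.card (Subgroup.centralizer ({g} : Set (Cfsg.Sz F m))) with hc
  have hodd : Odd c := by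
    rcases (fpf_torus hm hF hg).2.1 with h | h
    · exact (odd_kPlus hm).of_dvd_nat h
    · exact (odd_kMinus hm).of_dvd_nat h
  have hne : c ≠ 1 := fun e => hg.ne_one (by
    have h0 : Subgroup.centralizer ({g} : Set (Cfsg.Sz F m)) = ⊥ := Subgroup.card_eq_one.1 e
    have h1 : g ∈ Subgroup.centralizer ({g} : Set (Cfsg.Sz F m)) :=
      Subgroup.mem_centralizer_singleton_iff.2 rfl
    rw [h0] at h1
    exact h1)
  obtain ⟨k, hk⟩ := hodd
  omega

/-- Each class of tori covers at least a sixth of the group. -/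
theorem classSet_large {g : Cfsg.Sz F m} (hg : FPF g) :
    Nat.card (Cfsg.Sz F m) ≤ 6 * (classSet (Subgroup.centralizer ({g} : Set (Cfsg.Sz F m)))).ncard := by
  have h1 := classSet_bound hm hF hg
  have h2 := (fpf_torus hm hF hg).2.2.2
  obtain ⟨d, hd⟩ : ∃ d, Nat.card (Subgroup.centralizer ({g} : Set (Cfsg.Sz F m))) = d + 3 :=
    ⟨_, (Nat.sub_add_cancel (three_le_card hm hF hg)).symm⟩
  rw [hd] at h1 h2
  rw [show d + 3 - 1 = d + 2 by omega] at h1
  nlinarith [Nat.mul_le_mul_right (classSet (Subgroup.centralizer ({g} : Set (Cfsg.Sz F m)))).ncard h2]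

theorem classSet_inter {g g' y : Cfsg.Sz F m} (hg : FPF g) (hg' : FPF g')
    (hy : y ∈ classSet (Subgroup.centralizer ({g} : Set (Cfsg.Sz F m))))
    (hy' : y ∈ classSet (Subgroup.centralizer ({g'} : Set (Cfsg.Sz F m)))) :
    ∃ h, h * g' * h⁻¹ ∈ Subgroup.centralizer ({g} : Set (Cfsg.Sz F m)) := by
  obtain ⟨hy1, h, hh⟩ := hy
  obtain ⟨-, h', hh'⟩ := hy'
  have e := ((fpf_torus hm hF hg').2.2.1 _ hh' fun e => hy1 (conj_eq_one_iff.1 e)).2
  have e' := ((fpf_torus hm hF hg).2.2.1 _ hh fun e => hy1 (conj_eq_one_iff.1 e)).2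
  refine ⟨h * h'⁻¹, ?_⟩
  rw [← e', show h * y * h⁻¹ = h * h'⁻¹ * (h' * y * h'⁻¹) * (h * h'⁻¹)⁻¹ by group,
    centralizer_conj hm hF, e]
  exact ⟨g', Subgroup.mem_centralizer_singleton_iff.2 rfl, rfl⟩

/-- An element of order `p` for each prime `p ∣ q ^ 2 + 1`. -/
theorem exists_fpf_of_prime {p : ℕ} (hp : p.Prime) (hd : p ∣ Fintype.card F ^ 2 + 1) :
    ∃ x : Cfsg.Sz F m, orderOf x = p ∧ FPF x := by
  haveI := Fact.mk hp
  obtain ⟨x, hx⟩ := exists_prime_orderOf_dvd_card' (G := Cfsg.Sz F m) p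
    (by rw [card_eq hm hF]; exact Dvd.dvd.mul_right (Dvd.dvd.mul_left hd _) _)
  exact ⟨x, hx, (fpf_iff_dvd hm hF hp hx).2 hd⟩

theorem card_centralizer_conj {h g : Cfsg.Sz F m} :
    Nat.card (Subgroup.centralizer ({h * g * h⁻¹} : Set (Cfsg.Sz F m))) =
      Nat.card (Subgroup.centralizer ({g} : Set (Cfsg.Sz F m))) := by
  rw [centralizer_conj hm hF]
  exact Subgroup.card_map_of_injective (MulAut.conj h).injective

/-- The two tori. -/
theorem exists_two_tori : ∃ g g' : Cfsg.Sz F m, FPF g ∧ FPF g' ∧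
    Nat.card (Subgroup.centralizer ({g} : Set (Cfsg.Sz F m))) = kPlus m ∧
    Nat.card (Subgroup.centralizer ({g'} : Set (Cfsg.Sz F m))) = kMinus m ∧
    Nat.card (Subgroup.normalizer
        ((Subgroup.centralizer ({g} : Set (Cfsg.Sz F m))) : Set (Cfsg.Sz F m))) = 4 * kPlus m ∧
    Nat.card (Subgroup.normalizer
        ((Subgroup.centralizer ({g'} : Set (Cfsg.Sz F m))) : Set (Cfsg.Sz F m))) = 4 * kMinus m ∧
    ∀ y : Cfsg.Sz F m, FPF y → y ∈ classSet (Subgroup.centralizer ({g} : Set (Cfsg.Sz F m))) ∨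
      y ∈ classSet (Subgroup.centralizer ({g'} : Set (Cfsg.Sz F m))) := by
  classical
  have hkk := kPlus_mul_kMinus hm
  rw [← hF] at hkk
  have h5 := five_le_kPlus hm
  have h5' := five_le_kMinus hm
  obtain ⟨p, hp, hpd⟩ := Nat.exists_prime_and_dvd (show kPlus m ≠ 1 by omega)
  obtain ⟨p', hp', hpd'⟩ := Nat.exists_prime_and_dvd (show kMinus m ≠ 1 by omega)
  obtain ⟨g, hog, hg⟩ := exists_fpf_of_prime hm hF hp (hkk ▸ Dvd.dvd.mul_right hpd _)
  obtain ⟨g', hog', hg'⟩ := exists_fpf_of_prime hm hF hp' (hkk ▸ Dvd.dvd.mul_left hpd' _)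
  set C := Subgroup.centralizer ({g} : Set (Cfsg.Sz F m)) with hC
  set C' := Subgroup.centralizer ({g'} : Set (Cfsg.Sz F m)) with hC'
  have hco := coprime_kPlus_kMinus hm
  have hdC : p ∣ Nat.card C := hog ▸ Subgroup.orderOf_dvd_natCard C
    (Subgroup.mem_centralizer_singleton_iff.2 rfl)
  have hdC' : p' ∣ Nat.card C' := hog' ▸ Subgroup.orderOf_dvd_natCard C'
    (Subgroup.mem_centralizer_singleton_iff.2 rfl)
  have hcd : Nat.card C ∣ kPlus m := ((fpf_torus hm hF hg).2.1).resolve_right fun h =>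
    hp.ne_one (Nat.eq_one_of_dvd_coprimes hco hpd (hdC.trans h))
  have hcd' : Nat.card C' ∣ kMinus m := ((fpf_torus hm hF hg').2.1).resolve_left fun h =>
    hp'.ne_one (Nat.eq_one_of_dvd_coprimes hco (hdC'.trans h) hpd')
  have hdisj : Disjoint (classSet C) (classSet C') := by
    rw [Set.disjoint_left]
    intro y hy hy'
    obtain ⟨h, hh⟩ := classSet_inter hm hF hg hg' hy hy'
    have h1 : p' ∣ kPlus m := by
      refine Nat.dvd_trans ?_ hcd
      rw [← hog', ← orderOf_conj_eq h g']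
      exact Subgroup.orderOf_dvd_natCard C hh
    exact hp'.ne_one (Nat.eq_one_of_dvd_coprimes hco h1 hpd')
  have hNf := card_fpf hm hF
  rw [← Set.coe_setOf, Nat.card_coe_set_eq] at hNf
  have hsub : ∀ {z : Cfsg.Sz F m}, FPF z →
      classSet (Subgroup.centralizer ({z} : Set (Cfsg.Sz F m))) ⊆ {y | FPF y} :=
    fun hz y hy => classSet_fpf hm hF hz hy
  have hcover : ∀ y : Cfsg.Sz F m, FPF y → y ∈ classSet C ∨ y ∈ classSet C' := by
    intro y hy
    by_contra hcon
    push Not at hcon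
    set D := Subgroup.centralizer ({y} : Set (Cfsg.Sz F m)) with hD
    have hmem : ∀ {z : Cfsg.Sz F m}, FPF z → ∀ w,
        w ∈ classSet (Subgroup.centralizer ({z} : Set (Cfsg.Sz F m))) → w ∈ classSet D →
        y ∈ classSet (Subgroup.centralizer ({z} : Set (Cfsg.Sz F m))) := fun hz w hw hw' =>
      ⟨hy.ne_one, classSet_inter hm hF hz hy hw hw'⟩
    have h1 : Disjoint (classSet C ∪ classSet C') (classSet D) := by
      rw [Set.disjoint_left]
      rintro w (hw | hw) hw'
      · exact hcon.1 (hmem hg w hw hw')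
      · exact hcon.2 (hmem hg' w hw hw')
    have h2 := Set.ncard_le_ncard (Set.union_subset (Set.union_subset (hsub hg) (hsub hg')) (hsub hy))
    rw [Set.ncard_union_eq h1, Set.ncard_union_eq hdisj] at h2
    have e1 := classSet_large hm hF hg
    have e2 := classSet_large hm hF hg'
    have e3 := classSet_large hm hF hy
    rw [← hC] at e1
    rw [← hC'] at e2
    rw [← hD] at e3
    obtain ⟨k, hk⟩ : ∃ k, Fintype.card F = k + 1 := ⟨Fintype.card F - 1, by
      have : 0 < Fintype.card F := Fintype.card_pos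
      omega⟩
    rw [hk, Nat.add_sub_cancel] at hNf
    have hGpos : 0 < Nat.card (Cfsg.Sz F m) := Nat.card_pos
    have e4 : Nat.card (Cfsg.Sz F m) ≤ 2 * {y : Cfsg.Sz F m | FPF y}.ncard := by omega
    nlinarith [Nat.mul_le_mul_right ((k + 1) ^ 2 + 1) e4]
  -- Sylow subgroups of the primes dividing `k±` lie in the tori
  have hfull : ∀ {z w : Cfsg.Sz F m} {k k' : ℕ}, FPF z → FPF w →
      Nat.card (Subgroup.centralizer ({z} : Set (Cfsg.Sz F m))) ∣ k →
      Nat.card (Subgroup.centralizer ({w} : Set (Cfsg.Sz F m))) ∣ k' →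
      Nat.Coprime k k' → k ∣ Fintype.card F ^ 2 + 1 →
      (∀ y : Cfsg.Sz F m, FPF y → y ∈ classSet (Subgroup.centralizer ({z} : Set (Cfsg.Sz F m))) ∨
        y ∈ classSet (Subgroup.centralizer ({w} : Set (Cfsg.Sz F m)))) →
      Nat.card (Subgroup.centralizer ({z} : Set (Cfsg.Sz F m))) = k := by
    intro z w k k' hz hw hzk hwk hkco hkq hcov
    refine Nat.dvd_antisymm hzk ((Nat.dvd_iff_prime_pow_dvd_dvd _ _).2 fun r i hr hri => ?_)
    rcases Nat.eq_zero_or_pos i with rfl | hi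
    · simp
    haveI := Fact.mk hr
    obtain ⟨P⟩ : Nonempty (Sylow r (Cfsg.Sz F m)) := inferInstance
    have hrk : r ∣ k := (dvd_pow_self r hi.ne').trans hri
    have hPi : r ^ i ∣ Nat.card P := by
      rw [P.card_eq_multiplicity]
      refine pow_dvd_pow r ((Nat.Prime.pow_dvd_iff_le_factorization hr Nat.card_pos.ne').1 ?_)
      rw [card_eq hm hF]
      exact Dvd.dvd.mul_right (Dvd.dvd.mul_left (hri.trans hkq) _) _
    haveI : Nontrivial P := by
      refine Finite.one_lt_card_iff_nontrivial.1 ?_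
      refine Nat.one_lt_iff_ne_zero_and_ne_one.2 ⟨Nat.card_pos.ne', fun e => hr.ne_one ?_⟩
      exact Nat.dvd_one.1 (e ▸ (dvd_pow_self r hi.ne').trans hPi)
    haveI := IsPGroup.center_nontrivial P.isPGroup'
    obtain ⟨x, hx⟩ := exists_prime_orderOf_dvd_card' (G := Subgroup.center P) r (by
      obtain ⟨n, hn⟩ := IsPGroup.iff_card.1 (P.isPGroup'.to_subgroup (Subgroup.center P))
      rw [hn]
      refine dvd_pow_self r fun e => ?_
      rw [e, pow_zero] at hn
      exact absurd hn (Finite.one_lt_card (α := Subgroup.center P)).ne')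
    have hxo : orderOf ((x : P) : Cfsg.Sz F m) = r := by
      rw [Subgroup.orderOf_coe, Subgroup.orderOf_coe, hx]
    have hxf : FPF ((x : P) : Cfsg.Sz F m) := (fpf_iff_dvd hm hF hr hxo).2 (hrk.trans hkq)
    obtain ⟨hne, h, hh⟩ := (hcov _ hxf).resolve_right fun hin => by
      obtain ⟨-, h, hh⟩ := hin
      have : r ∣ k' := by
        refine Nat.dvd_trans ?_ hwk
        rw [← hxo, ← orderOf_conj_eq h ((x : P) : Cfsg.Sz F m)]
        exact Subgroup.orderOf_dvd_natCard _ hh
      exact hr.ne_one (Nat.eq_one_of_dvd_coprimes hkco hrk this)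
    rw [← ((fpf_torus hm hF hz).2.2.1 _ hh fun e => hne (conj_eq_one_iff.1 e)).2,
      card_centralizer_conj hm hF]
    refine hPi.trans (Subgroup.card_dvd_of_le fun u hu => Subgroup.mem_centralizer_singleton_iff.2 ?_)
    exact congrArg Subtype.val (Subgroup.mem_center_iff.1 x.2 ⟨u, hu⟩)
  have hk1 : Nat.card C = kPlus m :=
    hfull hg hg' hcd hcd' hco (hkk ▸ dvd_mul_right _ _) hcover
  have hk2 : Nat.card C' = kMinus m :=
    hfull hg' hg hcd' hcd hco.symm (hkk ▸ dvd_mul_left _ _) fun y hy => (hcover y hy).symm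
  -- equality in the count forces the normalizers
  have hun : {y : Cfsg.Sz F m | FPF y} = classSet C ∪ classSet C' :=
    Set.eq_of_subset_of_subset (fun y hy => hcover y hy) (Set.union_subset (hsub hg) (hsub hg'))
  rw [hun, Set.ncard_union_eq hdisj] at hNf
  have b1 := classSet_bound hm hF hg
  have b2 := classSet_bound hm hF hg'
  have n1 := (fpf_torus hm hF hg).2.2.2
  have n2 := (fpf_torus hm hF hg').2.2.2
  rw [← hC, hk1] at b1 n1
  rw [← hC', hk2] at b2 n2
  set A := (classSet C).ncard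
  set A' := (classSet C').ncard
  set G' := Nat.card (Cfsg.Sz F m) with hG'
  have hGpos : 0 < G' := Nat.card_pos
  set n := Nat.card (Subgroup.normalizer (C : Set (Cfsg.Sz F m)))
  set n' := Nat.card (Subgroup.normalizer (C' : Set (Cfsg.Sz F m)))
  have hsum : kPlus m + kMinus m = 2 * (Fintype.card F + 1) := by
    have := two_mul_r_le hm
    rw [hF]
    unfold kPlus kMinus
    omega
  obtain ⟨a, ha⟩ : ∃ a, kPlus m = a + 1 := ⟨kPlus m - 1, by omega⟩
  obtain ⟨b, hb⟩ : ∃ b, kMinus m = b + 1 := ⟨kMinus m - 1, by omega⟩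
  obtain ⟨q, hq⟩ : ∃ q, Fintype.card F = q + 1 := ⟨Fintype.card F - 1, by
    have : 0 < Fintype.card F := Fintype.card_pos
    omega⟩
  rw [ha, Nat.add_sub_cancel] at b1
  rw [hb, Nat.add_sub_cancel] at b2
  rw [ha] at n1
  rw [hb] at n2
  rw [ha, hb, hq] at hkk hsum
  rw [hq, Nat.add_sub_cancel] at hNf
  have c1 : G' * a ≤ 4 * (a + 1) * A := b1 ▸ Nat.mul_le_mul_right A n1
  have c2 : G' * b ≤ 4 * (b + 1) * A' := b2 ▸ Nat.mul_le_mul_right A' n2
  have heq : 4 * ((a + 1) * (b + 1)) * (A + A') = G' * (a * (b + 1) + b * (a + 1)) := by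
    have e : a * (b + 1) + b * (a + 1) = 2 * ((q + 1) * q) := by nlinarith
    rw [e, hkk, show 4 * ((q + 1) ^ 2 + 1) * (A + A') = 2 * (2 * ((q + 1) ^ 2 + 1) * (A + A')) by ring,
      hNf]
    ring
  have d1 : 4 * (a + 1) * A = G' * a := by
    refine le_antisymm ?_ c1
    by_contra hlt
    push Not at hlt
    nlinarith [Nat.mul_lt_mul_of_pos_right hlt (show 0 < b + 1 by omega),
      Nat.mul_le_mul_right (a + 1) c2]
  have d2 : 4 * (b + 1) * A' = G' * b := by
    refine le_antisymm ?_ c2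
    by_contra hlt
    push Not at hlt
    nlinarith [Nat.mul_lt_mul_of_pos_right hlt (show 0 < a + 1 by omega),
      Nat.mul_le_mul_right (b + 1) c1]
  have hA : 0 < A := by
    rcases Nat.eq_zero_or_pos A with e | e
    · exfalso
      rw [e, mul_zero] at d1
      rcases mul_eq_zero.1 d1.symm with h | h <;> omega
    · exact e
  have hA' : 0 < A' := by
    rcases Nat.eq_zero_or_pos A' with e | e
    · exfalso
      rw [e, mul_zero] at d2
      rcases mul_eq_zero.1 d2.symm with h | h <;> omega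
    · exact e
  refine ⟨g, g', hg, hg', hk1, hk2, ?_, ?_, hcover⟩
  · rw [ha]; exact Nat.eq_of_mul_eq_mul_right hA (b1.trans d1.symm)
  · rw [hb]; exact Nat.eq_of_mul_eq_mul_right hA' (b2.trans d2.symm)

end Cfsg.Agent.Suzuki
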