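import Mathlib

/-!
# The field with `2 ^ (2 * m + 1)` elements and its endomorphism `x ↦ x ^ 2 ^ (m + 1)`
-/

set_option autoImplicit false
set_option linter.unusedSectionVars false

namespace Cfsg.Agent.Suzuki

variable {F : Type*} [Field F] [Fintype F] {m : ℕ}

theorem charTwo (hF : Fintype.card F = 2 ^ (2 * m + 1)) : CharP F 2 := by
  haveI := Fact.mk Nat.prime_two
  exact charP_of_card_eq_prime_pow hF

omit [Fintype F] in
/-- The first coordinate of the affine points of the ovoid, over any field. -/
def ovf (m : ℕ) (x y : F) : F := x * y + x ^ (2 ^ (m + 1) + 2) + y ^ (2 ^ (m + 1))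

variable [CharP F 2]

variable (F m) in
/-- The endomorphism `x ↦ x ^ 2 ^ (m + 1)`. -/
noncomputable def theta : F →+* F := iterateFrobenius F 2 (m + 1)

theorem theta_def (x : F) : theta F m x = x ^ 2 ^ (m + 1) := iterateFrobenius_def 2 (m + 1) x

theorem ovf_eq (x y : F) :
    ovf m x y = x * y + theta F m x * x ^ 2 + theta F m y := by
  rw [ovf, theta_def, theta_def, pow_add]

variable (hF : Fintype.card F = 2 ^ (2 * m + 1))
include hF

theorem theta_theta (x : F) : theta F m (theta F m x) = x ^ 2 := by
  rw [theta_def, theta_def, ← pow_mul, ← pow_add,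
    show (2 : ℕ) ^ (m + 1 + (m + 1)) = Fintype.card F * 2 by rw [hF, ← pow_succ]; ring_nf,
    pow_mul, FiniteField.pow_card]

theorem theta_injective : Function.Injective (theta F m) := (theta F m).injective

theorem theta_bijective : Function.Bijective (theta F m) :=
  ⟨(theta F m).injective, Finite.surjective_of_injective (theta F m).injective⟩

theorem exists_theta (x : F) : ∃ y, theta F m y = x := (theta_bijective hF).2 x

theorem eq_zero_or_one_of_theta {x : F} (h : theta F m x = x) : x = 0 ∨ x = 1 := by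
  have h1 : x ^ 2 = x := by rw [← theta_theta hF x, h, h]
  have h2 : x * (x - 1) = 0 := by linear_combination h1
  rcases mul_eq_zero.1 h2 with h3 | h3
  · exact Or.inl h3
  · exact Or.inr (sub_eq_zero.1 h3)

/-- `x ↦ θ(x) x` is injective. -/
theorem eq_one_of_theta_mul {u : F} (h : theta F m u * u = 1) : u = 1 := by
  have hu : u ≠ 0 := fun e => by simp [e] at h
  have h1 := congrArg (theta F m) h
  rw [map_mul, theta_theta hF, map_one] at h1
  have h2 : u ^ 2 * theta F m u = theta F m u * u := h1.trans h.symm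
  have h3 : theta F m u * u * (u - 1) = 0 := by linear_combination h2
  rw [h, one_mul] at h3
  exact sub_eq_zero.1 h3

/-- `x ↦ θ(x) x ^ 2` is injective. -/
theorem eq_one_of_theta_mul_sq {u : F} (h : theta F m u * u ^ 2 = 1) : u = 1 := by
  have hu : u ≠ 0 := fun e => by simp [e] at h
  have h1 := congrArg (theta F m) h
  rw [map_mul, theta_theta hF, map_one, map_pow] at h1
  have h2 : theta F m u ^ 2 * u ^ 4 = 1 := by linear_combination (theta F m u * u ^ 2 + 1) * h
  have h3 : u ^ 4 = u ^ 2 := by linear_combination u ^ 2 * h2 - u ^ 4 * h1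
  have h4 : u ^ 2 * ((u + 1) * (u - 1)) = 0 := by linear_combination h3
  rcases mul_eq_zero.1 h4 with h5 | h5
  · exact absurd (pow_eq_zero_iff two_ne_zero |>.1 h5) hu
  · rw [CharTwo.sub_eq_add] at h5
    rcases mul_eq_zero.1 h5 with h6 | h6 <;> exact CharTwo.add_eq_zero.1 h6

theorem ovf_eq_zero {x y : F} (h : ovf m x y = 0) : x = 0 ∧ y = 0 := by
  rw [ovf_eq] at h
  have h1 := congrArg (theta F m) h
  simp only [map_add, map_mul, map_pow, theta_theta hF, map_zero] at h1
  by_cases hx : x = 0
  · subst hx
    simp only [map_zero, zero_mul, zero_add] at h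
    exact ⟨rfl, (map_eq_zero (theta F m)).1 h⟩
  exfalso
  -- with `u = y / (θ x * x)` one gets `θ u + u + 1 = 0`, which has no solution
  obtain ⟨u, rfl⟩ : ∃ u, y = u * (theta F m x * x) :=
    ⟨y / (theta F m x * x), (div_mul_cancel₀ _ (mul_ne_zero ((map_ne_zero _).2 hx) hx)).symm⟩
  have hz : theta F m x * x ^ 2 ≠ 0 := mul_ne_zero ((map_ne_zero _).2 hx) (pow_ne_zero 2 hx)
  have e1 : theta F m x * x ^ 2 * (u + 1 + theta F m u) = 0 := by
    rw [← h, map_mul, map_mul, theta_theta hF]
    ring
  have e2 : u + 1 + theta F m u = 0 := (mul_eq_zero.1 e1).resolve_left hz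
  have e3 := congrArg (theta F m) e2
  rw [map_add, map_add, theta_theta hF, map_one, map_zero] at e3
  have e4 : u * (u - 1) = 0 := by
    linear_combination e3 - e2
  rcases mul_eq_zero.1 e4 with rfl | h5
  · simp at e2
  · rw [sub_eq_zero.1 h5, map_one] at e2
    have h2 : (1 : F) + 1 = 0 := CharTwo.add_self_eq_zero 1
    exact one_ne_zero (show (1 : F) = 0 by linear_combination e2 - h2)

/-- The identity behind the antidiagonal symmetry. -/
theorem ovf_inv {x y : F} (h : ovf m x y ≠ 0) :
    ovf m (y / ovf m x y) (x / ovf m x y) = (ovf m x y)⁻¹ := by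
  set d := ovf m x y with hd
  have hd' := ovf_eq (m := m) x y
  rw [← hd] at hd'
  have hθ : theta F m d = theta F m x * theta F m y + x ^ 2 * theta F m x ^ 2 + y ^ 2 := by
    rw [hd', map_add, map_add, map_mul, map_mul, map_pow, theta_theta hF, theta_theta hF]
  have hd0 : theta F m d ≠ 0 := (map_ne_zero _).2 h
  rw [ovf_eq, map_div₀, map_div₀]
  field_simp
  rw [hθ, hd']
  have h2 : (2 : F) = 0 := CharTwo.two_eq_zero
  linear_combination (y * x * theta F m x * theta F m y + y * x ^ 3 * theta F m x ^ 2) * h2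

end Cfsg.Agent.Suzuki
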