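import Cfsg.Agent.Lib.Suzuki.Sylow
import Cfsg.Agent.Lib.Suzuki.Partition
import Cfsg.Prelude.Def_KGroupFacts

/-!
# The Schur multiplier of `Sz(q)`, `q ≥ 32`, is trivial

For a central extension the torus acts on the preimage of the Sylow 2-subgroup; torus-invariant
biadditive maps vanish for weight reasons, so the derived group of the preimage meets the kernel
trivially and the transfer finishes the argument.
-/

set_option autoImplicit false
set_option linter.unusedSectionVars false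

namespace Cfsg.Agent.Suzuki.Multiplier

open Cfsg.Agent.Suzuki

/-- In a stem extension the kernel has no element of order `p` if the derived group of a Sylow
`p`-subgroup meets it trivially. -/
theorem no_prime_in_kernel {Γ H : Type*} [Group Γ] [Finite Γ] [Group H] (σ : Γ →* H)
    (hc : σ.ker ≤ Subgroup.center Γ) (hd : σ.ker ≤ commutator Γ) {p : ℕ} [Fact p.Prime]
    (P : Sylow p Γ) (h : ⁅(P : Subgroup Γ), (P : Subgroup Γ)⁆ ⊓ σ.ker = ⊥) :
    ¬ p ∣ Nat.card σ.ker := by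
  intro hp
  obtain ⟨⟨z, hz⟩, hzo⟩ := exists_prime_orderOf_dvd_card' (G := σ.ker) p hp
  rw [Subgroup.orderOf_mk] at hzo
  have hcen : ∀ y, y * z = z * y := Subgroup.mem_center_iff.1 (hc hz)
  have hzP : z ∈ (P : Subgroup Γ) := by
    have hZ : IsPGroup p (Subgroup.zpowers z) :=
      IsPGroup.of_card (n := 1) (by rw [Nat.card_zpowers, hzo, pow_one])
    haveI : (Subgroup.zpowers z).Normal := ⟨fun a ha g => by
      obtain ⟨i, rfl⟩ := Subgroup.mem_zpowers_iff.1 ha
      rw [((show Commute g z from hcen g).zpow_right i).eq, mul_inv_cancel_right]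
      exact Subgroup.zpow_mem_zpowers z i⟩
    exact hZ.le_sylow_of_normal P (Subgroup.mem_zpowers z)
  set φ : (P : Subgroup Γ) →* Abelianization (P : Subgroup Γ) := Abelianization.of with hφ
  have key : ∀ (k : ℕ) (g₀ : Γ), g₀⁻¹ * z ^ k * g₀ ∈ (P : Subgroup Γ) →
      g₀⁻¹ * z ^ k * g₀ = z ^ k := fun k g₀ _ => by
    rw [mul_assoc, ← ((show Commute g₀ z from hcen g₀).pow_right k).eq, inv_mul_cancel_left]
  have h1 : MonoidHom.transfer φ z = 1 := Abelianization.commutator_subset_ker _ (hd hz)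
  rw [MonoidHom.transfer_eq_pow φ z key, hφ] at h1
  have h2 : (⟨z ^ (P : Subgroup Γ).index, MonoidHom.transfer_eq_pow_aux z key⟩ :
      (P : Subgroup Γ)) ∈ commutator (P : Subgroup Γ) := (QuotientGroup.eq_one_iff _).1 h1
  have h3 : z ^ (P : Subgroup Γ).index ∈ ⁅(P : Subgroup Γ), (P : Subgroup Γ)⁆ ⊓ σ.ker := by
    refine ⟨?_, σ.ker.pow_mem hz _⟩
    rw [← Subgroup.map_subtype_commutator (P : Subgroup Γ)]
    exact ⟨_, h2, rfl⟩
  rw [h, Subgroup.mem_bot, ← orderOf_dvd_iff_pow_eq_one, hzo] at h3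
  exact P.not_dvd_index h3

section Pairing

variable {F A : Type*} [Field F] [CommGroup A]

/-- A biadditive map with a twisted invariance vanishes if the twist is not additive. -/
theorem pairing_eq_one (B : F → F → A) (f : F → F)
    (hl : ∀ x x' y, B (x + x') y = B x y * B x' y) (hr : ∀ x y y', B x (y + y') = B x y * B x y')
    (hinv : ∀ x w : F, w ≠ 0 → B x (f w) = B (x * w) 1)
    (hsurj : ∀ y : F, y ≠ 0 → ∃ w, w ≠ 0 ∧ f w = y)
    (hwit : ∃ w₁ w₂, w₁ ≠ 0 ∧ w₂ ≠ 0 ∧ w₁ + w₂ ≠ 0 ∧ f w₁ + f w₂ ≠ 0 ∧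
      f (w₁ + w₂) ≠ f w₁ + f w₂) : ∀ x y, B x y = 1 := by
  obtain ⟨w₁, w₂, h1, h2, h12, hs, hne⟩ := hwit
  obtain ⟨w₃, h3, hf3⟩ := hsurj _ hs
  have hw : w₁ + w₂ ≠ w₃ := fun e => hne (e ▸ hf3)
  have hC : ∀ u : F, B u 1 = 1 := by
    intro u
    have e : ∀ x, B (x * (w₁ + w₂)) 1 = B (x * w₃) 1 := fun x => by
      rw [mul_add, hl, ← hinv x w₁ h1, ← hinv x w₂ h2, ← hinv x w₃ h3, hf3, hr]
    have e1 := e (u / (w₁ + w₂ - w₃))
    have hadd : u / (w₁ + w₂ - w₃) * (w₁ + w₂) = u + u / (w₁ + w₂ - w₃) * w₃ := by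
      field_simp [sub_ne_zero.2 hw]
      ring
    rw [hadd, hl] at e1
    exact mul_eq_right.1 e1
  intro x y
  rcases eq_or_ne y 0 with rfl | hy
  · have := hr x 0 0
    rw [add_zero] at this
    exact mul_eq_left.1 this.symm
  · obtain ⟨w, hw0, rfl⟩ := hsurj y hy
    rw [hinv x w hw0, hC]

end Pairing

variable {F : Type*} [Field F] [Fintype F] [CharP F 2] {m : ℕ}
variable (hm : 2 ≤ m) (hF : Fintype.card F = 2 ^ (2 * m + 1))

include hm hF

theorem inv_witness : ∃ w₁ w₂ : F, w₁ ≠ 0 ∧ w₂ ≠ 0 ∧ w₁ + w₂ ≠ 0 ∧ w₁⁻¹ + w₂⁻¹ ≠ 0 ∧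
    (w₁ + w₂)⁻¹ ≠ w₁⁻¹ + w₂⁻¹ := by
  classical
  obtain ⟨w, hw⟩ : ∃ w : F, w ∉ (({0, 1} : Finset F) ∪
      ((Polynomial.X ^ 2 + Polynomial.X + 1 : Polynomial F).roots.toFinset)) := by
    by_contra hcon
    push Not at hcon
    have h1 := Finset.card_le_card (s := Finset.univ) fun x _ => hcon x
    have h2 : (Polynomial.X ^ 2 + Polynomial.X + 1 : Polynomial F).natDegree ≤ 2 := by
      compute_degree
    have h3 := (Polynomial.X ^ 2 + Polynomial.X + 1 : Polynomial F).roots.toFinset_card_le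
    have h4 := (Polynomial.X ^ 2 + Polynomial.X + 1 : Polynomial F).card_roots'
    rw [Finset.card_univ, hF] at h1
    have h5 := (Finset.card_union_le ({0, 1} : Finset F)
      (Polynomial.X ^ 2 + Polynomial.X + 1 : Polynomial F).roots.toFinset)
    have h6 : ({0, 1} : Finset F).card ≤ 2 := Finset.card_le_two
    have h7 : 2 ^ 5 ≤ 2 ^ (2 * m + 1) := Nat.pow_le_pow_right two_pos (by omega)
    omega
  simp only [Finset.mem_union, Finset.mem_insert, Finset.mem_singleton, Multiset.mem_toFinset,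
    not_or] at hw
  obtain ⟨⟨hw0, hw1⟩, hwr⟩ := hw
  have hne : w ^ 2 + w + 1 ≠ 0 := by
    intro h
    apply hwr
    rw [Polynomial.mem_roots', Polynomial.IsRoot.def]
    refine ⟨fun hz => ?_, by simpa using h⟩
    have := congrArg (Polynomial.coeff · 0) hz
    simp at this
  have hw1' : w + 1 ≠ 0 := fun h => hw1 (CharTwo.add_eq_zero.1 h)
  refine ⟨w, 1, hw0, one_ne_zero, hw1', ?_, ?_⟩
  · rw [inv_one]
    intro h
    exact hw1 (inv_eq_one.1 (CharTwo.add_eq_zero.1 h))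
  · rw [inv_one]
    intro h
    field_simp at h
    apply hne
    linear_combination -h

/-- The twist between the weights on `U / Z(U)` and on `Z(U)` is not additive. -/
theorem mixed_witness : ∃ w₁ w₂ : F, w₁ ≠ 0 ∧ w₂ ≠ 0 ∧ w₁ + w₂ ≠ 0 ∧
    (w₁ * theta F m w₁)⁻¹ + (w₂ * theta F m w₂)⁻¹ ≠ 0 ∧
    ((w₁ + w₂) * theta F m (w₁ + w₂))⁻¹ ≠ (w₁ * theta F m w₁)⁻¹ + (w₂ * theta F m w₂)⁻¹ := by
  classical
  set r := 2 ^ (m + 1) with hr
  open Polynomial in
  set P : F[X] := X ^ (2 * r + 2) + X ^ (2 * r + 1) + X ^ (r + 2) + X ^ (r + 1) + X ^ r + X + 1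
    with hP
  have hr8 : 8 ≤ r := by
    rw [hr]
    calc 8 = 2 ^ 3 := rfl
      _ ≤ _ := Nat.pow_le_pow_right two_pos (by omega)
  have hdeg : P.natDegree ≤ 2 * r + 2 := by
    rw [hP]
    compute_degree <;> omega
  have hP0 : P ≠ 0 := fun h => by
    have := congrArg (Polynomial.coeff · 0) h
    simp [hP, Polynomial.coeff_X_pow, Polynomial.coeff_X, show 0 ≠ r by omega] at this
  obtain ⟨w, hw⟩ : ∃ w : F, w ∉ ({0, 1} : Finset F) ∪ P.roots.toFinset := by
    by_contra hcon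
    push Not at hcon
    have h1 := Finset.card_le_card (s := Finset.univ) fun x _ => hcon x
    have h3 := P.roots.toFinset_card_le
    have h4 := P.card_roots'
    rw [Finset.card_univ, hF] at h1
    have h5 := Finset.card_union_le ({0, 1} : Finset F) P.roots.toFinset
    have h6 : ({0, 1} : Finset F).card ≤ 2 := Finset.card_le_two
    have h7 : 2 ^ (2 * m + 1) = r * 2 ^ m := by rw [hr, ← pow_add]; ring_nf
    have h8 : 4 * r ≤ r * 2 ^ m := by
      rw [mul_comm r]
      exact Nat.mul_le_mul_right r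
        ((Nat.pow_le_pow_right two_pos hm : 2 ^ 2 ≤ 2 ^ m))
    omega
  simp only [Finset.mem_union, Finset.mem_insert, Finset.mem_singleton, Multiset.mem_toFinset,
    not_or] at hw
  obtain ⟨⟨hw0, hw1⟩, hwr⟩ := hw
  set v := theta F m w with hv
  have hne : w ^ 2 * v ^ 2 + w * v ^ 2 + w ^ 2 * v + w * v + v + w + 1 ≠ 0 := by
    intro h
    apply hwr
    rw [Polynomial.mem_roots', Polynomial.IsRoot.def]
    refine ⟨hP0, ?_⟩
    simp only [hP, Polynomial.eval_add, Polynomial.eval_pow, Polynomial.eval_X, Polynomial.eval_one]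
    rw [hv, theta_def, ← hr] at h
    linear_combination h
  have hv0 : v ≠ 0 := (_root_.map_ne_zero _).2 hw0
  have hw1' : w + 1 ≠ 0 := fun h => hw1 (CharTwo.add_eq_zero.1 h)
  have hv1' : v + 1 ≠ 0 := by
    rw [hv, ← map_one (theta F m), ← map_add]
    exact (_root_.map_ne_zero _).2 hw1'
  refine ⟨w, 1, hw0, one_ne_zero, hw1', ?_, ?_⟩
  · rw [map_one, one_mul, inv_one, ← hv]
    intro h
    have h1 : w * v = 1 := inv_eq_one.1 (CharTwo.add_eq_zero.1 h)
    exact hw1 (eq_one_of_theta_mul hF (u := w) (by rw [← hv, mul_comm, h1]))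
  · rw [map_add, map_one, one_mul, inv_one, ← hv]
    intro h
    field_simp at h
    apply hne
    have h2 : (2 : F) = 0 := CharTwo.two_eq_zero
    linear_combination h + (w * v + v + w + 1 + w ^ 2 * v ^ 2 + w * v ^ 2 + w ^ 2 * v) * h2

end Cfsg.Agent.Suzuki.Multiplier
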