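import Mathlib

/-!
# Commutant of a matrix whose minimal polynomial is irreducible of full degree
-/

set_option autoImplicit false
set_option linter.unusedSectionVars false

namespace Cfsg.Agent.Suzuki.CyclicField

open Matrix Polynomial

variable {F : Type*} [Field F] {n : ℕ} (M : Matrix (Fin n) (Fin n) F)

/-- The evaluation at `M` on `F[X] / (minpoly M)`. -/
noncomputable def ev : AdjoinRoot (minpoly F M) →ₐ[F] Matrix (Fin n) (Fin n) F :=
  Ideal.Quotient.liftₐ _ (aeval M) fun p hp => by
    obtain ⟨c, rfl⟩ := Ideal.mem_span_singleton.1 hp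
    rw [map_mul, minpoly.aeval, zero_mul]

theorem ev_root : ev M (AdjoinRoot.root (minpoly F M)) = M := by
  show aeval M X = M
  exact aeval_X M

theorem ev_injective [NeZero n] (hirr : Irreducible (minpoly F M)) : Function.Injective (ev M) := by
  haveI := Fact.mk hirr
  exact (ev M).toRingHom.injective

theorem card_field [Fintype F] (hne : minpoly F M ≠ 0) :
    Nat.card (AdjoinRoot (minpoly F M)) = Fintype.card F ^ (minpoly F M).natDegree := by
  haveI := (AdjoinRoot.powerBasis hne).finite
  rw [Module.natCard_eq_pow_finrank (K := F), (AdjoinRoot.powerBasis hne).finrank,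
    AdjoinRoot.powerBasis_dim, Nat.card_eq_fintype_card]

/-- Matrices commuting with `M` are polynomials in it. -/
theorem exists_ev_of_commute [NeZero n] (hirr : Irreducible (minpoly F M))
    (hdeg : (minpoly F M).natDegree = n) {N : Matrix (Fin n) (Fin n) F} (hN : Commute N M) :
    ∃ l, ev M l = N := by
  haveI := Fact.mk hirr
  have hne := hirr.ne_zero
  haveI := (AdjoinRoot.powerBasis hne).finite
  set v : Fin n → F := Pi.single 0 1
  have hv : v ≠ 0 := by
    intro h
    simpa [v] using congrFun h 0
  let L : AdjoinRoot (minpoly F M) →ₗ[F] (Fin n → F) :=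
    ((Matrix.mulVecBilin F F).flip v).comp (ev M).toLinearMap
  have hL : ∀ l, L l = ev M l *ᵥ v := fun _ => rfl
  have hinj : Function.Injective L := by
    rw [← LinearMap.ker_eq_bot, eq_bot_iff]
    intro l hl
    rw [LinearMap.mem_ker, hL] at hl
    rw [Submodule.mem_bot]
    by_contra h0
    refine hv ?_
    have h1 : ev M l⁻¹ *ᵥ (ev M l *ᵥ v) = v := by
      rw [Matrix.mulVec_mulVec, ← map_mul, inv_mul_cancel₀ h0, map_one, Matrix.one_mulVec]
    rw [hl, Matrix.mulVec_zero] at h1
    exact h1.symm
  have hsurj : Function.Surjective L := by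
    rw [← LinearMap.injective_iff_surjective_of_finrank_eq_finrank]
    · exact hinj
    · rw [(AdjoinRoot.powerBasis hne).finrank, AdjoinRoot.powerBasis_dim, hdeg,
        Module.finrank_fin_fun]
  obtain ⟨l, hl⟩ := hsurj (N *ᵥ v)
  rw [hL] at hl
  have hcomm : ∀ p : AdjoinRoot (minpoly F M), Commute N (ev M p) := by
    intro p
    induction p using AdjoinRoot.induction_on with
    | ih p =>
      show Commute N (aeval M p)
      induction p using Polynomial.induction_on' with
      | add p r hp hr => rw [map_add]; exact hp.add_right hr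
      | monomial k c =>
        rw [aeval_monomial]
        exact (Algebra.commute_algebraMap_right c N).mul_right (hN.pow_right k)
  refine ⟨l, Matrix.ext_of_mulVec_single fun i => ?_⟩
  obtain ⟨p, hp⟩ := hsurj (Pi.single i 1)
  rw [← hp, hL, Matrix.mulVec_mulVec, Matrix.mulVec_mulVec, (hcomm p).eq, ← map_mul, mul_comm l p,
    map_mul, ← Matrix.mulVec_mulVec, ← Matrix.mulVec_mulVec, hl]

end Cfsg.Agent.Suzuki.CyclicField
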