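import Cfsg.Agent.Lib.Suzuki.Local
import Cfsg.Agent.Lib.Suzuki.CyclicField

/-!
# The quadratic equation of `g + g⁻¹` and its consequences for eigenvalues
-/

set_option autoImplicit false
set_option linter.unusedSectionVars false

namespace Cfsg.Agent.Suzuki

open Matrix

variable {F : Type*} [Field F] [Fintype F] [CharP F 2] {m : ℕ}

/-- The inverse of a matrix preserving the form. -/
def adj4 (g : Matrix (Fin 4) (Fin 4) F) : Matrix (Fin 4) (Fin 4) F := swapMat * g.transpose * swapMat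

theorem adj4_mul {g : Matrix (Fin 4) (Fin 4) F} (hg : LieProp m g) : adj4 g * g = 1 := by
  rw [adj4, mul_assoc, mul_assoc, ← mul_assoc g.transpose, hg.1, swapMat_mul_self]

theorem quadratic_eq {g : Matrix (Fin 4) (Fin 4) F} (hg : LieProp m g) :
    (g + adj4 g) * (g + adj4 g) + g.trace • (g + adj4 g) +
      (g.trace ^ 2 ^ (m + 1)) • (1 : Matrix (Fin 4) (Fin 4) F) = 0 := by
  have h2 : (2 : F) = 0 := CharTwo.two_eq_zero
  have hM : g + adj4 g = !![g 0 0 + g 3 3, g 0 1 + g 2 3, g 0 2 + g 1 3, 0;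
      g 1 0 + g 3 2, g 1 1 + g 2 2, 0, g 1 3 + g 0 2;
      g 2 0 + g 3 1, 0, g 2 2 + g 1 1, g 2 3 + g 0 1;
      0, g 3 1 + g 2 0, g 3 2 + g 1 0, g 3 3 + g 0 0] := by
    ext i j
    fin_cases i <;> fin_cases j <;>
      simp [adj4, swapMat, Matrix.mul_apply, Fin.sum_univ_four, CharTwo.add_self_eq_zero, Matrix.vecMul,
        dotProduct]
  have hT : g.trace ^ 2 ^ (m + 1) =
      g 0 0 ^ 2 ^ (m + 1) + g 1 1 ^ 2 ^ (m + 1) + g 2 2 ^ 2 ^ (m + 1) + g 3 3 ^ 2 ^ (m + 1) := by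
    simp only [← theta_def, Matrix.trace, Matrix.diag, Fin.sum_univ_four, map_add]
  have e0 := congrFun (congrFun hg.2 0) 0
  have e1 := congrFun (congrFun hg.2 1) 1
  have e2 := congrFun (congrFun hg.2 2) 2
  have e3 := congrFun (congrFun hg.2 3) 3
  simp [Cfsg.Lie.star4, Cfsg.Lie.pairOf] at e0 e1 e2 e3
  have c12 := congrFun (congrFun hg.1 1) 2
  have r12 := congrFun (congrFun hg.row 1) 2
  simp [Matrix.mul_apply, Fin.sum_univ_four, swapMat] at c12 r12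
  rw [hM, hT, Matrix.trace, Fin.sum_univ_four]
  ext i j
  fin_cases i <;> fin_cases j <;>
    simp [Matrix.mul_apply, Fin.sum_univ_four, Matrix.diag] <;> grind

omit [Fintype F] in
/-- `a + b = T` and `ab = T ^ r` force `y z ∈ {y ^ ±r, z ^ ±r}`. -/
theorem eigen_relation {L : Type*} [Field L] [CharP L 2] {r : ℕ} (hr : ∃ k, r = 2 ^ k) {y z T : L}
    (hy : y ≠ 0) (hz : z ≠ 0) (hT : T ^ (r * r) = T ^ 2)
    (hsum : y + y⁻¹ + (z + z⁻¹) = T) (hprod : (y + y⁻¹) * (z + z⁻¹) = T ^ r) :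
    y * z = y ^ r ∨ y * z * y ^ r = 1 ∨ y * z = z ^ r ∨ y * z * z ^ r = 1 := by
  obtain ⟨k, rfl⟩ := hr
  have hCD : y ^ 2 ^ k + (y ^ 2 ^ k)⁻¹ + (z ^ 2 ^ k + (z ^ 2 ^ k)⁻¹) = T ^ 2 ^ k := by
    rw [← hsum, add_pow_char_pow, add_pow_char_pow, add_pow_char_pow, inv_pow, inv_pow]
  have hC : y ^ 2 ^ k + (y ^ 2 ^ k)⁻¹ = (y + y⁻¹) ^ 2 ^ k := by rw [add_pow_char_pow, inv_pow]
  have hD : z ^ 2 ^ k + (z ^ 2 ^ k)⁻¹ = (z + z⁻¹) ^ 2 ^ k := by rw [add_pow_char_pow, inv_pow]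
  have hAB : (y * z + (y * z)⁻¹) + (y / z + z / y) = (y + y⁻¹) * (z + z⁻¹) := by
    field_simp
    ring
  have hABm : (y * z + (y * z)⁻¹) * (y / z + z / y) = T ^ 2 := by
    rw [← hsum, CharTwo.add_sq, CharTwo.add_sq, CharTwo.add_sq]
    field_simp
    ring
  have hCDm : (y ^ 2 ^ k + (y ^ 2 ^ k)⁻¹) * (z ^ 2 ^ k + (z ^ 2 ^ k)⁻¹) = T ^ 2 := by
    rw [hC, hD, ← mul_pow, hprod, ← pow_mul, hT]
  have key : (y * z + (y * z)⁻¹ - (y ^ 2 ^ k + (y ^ 2 ^ k)⁻¹)) *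
      (y * z + (y * z)⁻¹ - (z ^ 2 ^ k + (z ^ 2 ^ k)⁻¹)) = 0 := by
    rw [hprod] at hAB
    linear_combination -(y * z + (y * z)⁻¹) * (hCD.trans hAB.symm) + hCDm - hABm
  have solve : ∀ u w : L, u ≠ 0 → w ≠ 0 → u + u⁻¹ - (w + w⁻¹) = 0 → u = w ∨ u * w = 1 := by
    intro u w hu hw h
    have h' : (u - w) * (u * w - 1) = 0 := by
      field_simp at h
      linear_combination h
    rcases mul_eq_zero.1 h' with h'' | h''
    · exact Or.inl (sub_eq_zero.1 h'')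
    · exact Or.inr (sub_eq_zero.1 h'')
  rcases mul_eq_zero.1 key with h | h
  · rcases solve _ _ (mul_ne_zero hy hz) (pow_ne_zero _ hy) h with h' | h'
    · exact Or.inl h'
    · exact Or.inr (Or.inl h')
  · rcases solve _ _ (mul_ne_zero hy hz) (pow_ne_zero _ hz) h with h' | h'
    · exact Or.inr (Or.inr (Or.inl h'))
    · exact Or.inr (Or.inr (Or.inr h'))

end Cfsg.Agent.Suzuki
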