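import Cfsg.Agent.Lib.Suzuki.Partition

/-!
# Actions of the Suzuki group in which every non-identity element fixes at most two points
-/

set_option autoImplicit false
set_option linter.unusedSectionVars false

namespace Cfsg.Agent.Suzuki

open Matrix MulAction

theorem sq_smul_eq_of_commute {G Ω : Type*} [Group G] [MulAction G Ω] [Finite Ω] {h c : G} {α : Ω}
    (hle : Nat.card (fixedBy Ω h) ≤ 2) (hα : h • α = α) (hc : c * h = h * c) :
    c • c • α = α := by
  have h1 : c • α ∈ fixedBy Ω h := by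
    show h • c • α = c • α
    rw [← mul_smul, ← hc, mul_smul, hα]
  have h2 : c • c • α ∈ fixedBy Ω h := by
    show h • c • c • α = c • c • α
    rw [← mul_smul h c, ← hc, mul_smul, show h • c • α = c • α from h1]
  by_contra hne
  have hne1 : c • α ≠ α := fun e => hne (by rw [e, e])
  have hne2 : c • c • α ≠ c • α := fun e => hne1 (smul_left_cancel c e)
  have : ({α, c • α, c • c • α} : Set Ω).ncard ≤ 2 := by
    refine le_trans (Set.ncard_le_ncard ?_ (Set.toFinite _)) (by rwa [Nat.card_coe_set_eq] at hle)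
    rintro x (rfl | rfl | rfl)
    exacts [hα, h1, h2]
  rw [Set.ncard_eq_three.2 ⟨α, c • α, c • c • α, hne1.symm, Ne.symm hne, hne2.symm, rfl⟩] at this
  omega

theorem smul_eq_of_odd {G Ω : Type*} [Group G] [MulAction G Ω] {c : G} {α : Ω}
    (ho : Odd (orderOf c)) (hc : c • c • α = α) : c • α = α := by
  obtain ⟨k, hk⟩ := ho
  have h1 : c ^ 2 ∈ stabilizer G α := by
    rw [mem_stabilizer_iff, sq, mul_smul, hc]
  have h2 : c = c ^ (orderOf c + 1) := by rw [pow_succ, pow_orderOf_eq_one, one_mul]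
  rw [hk, show 2 * k + 1 + 1 = 2 * (k + 1) by ring, pow_mul] at h2
  have h3 : c ∈ stabilizer G α := h2 ▸ pow_mem h1 (k + 1)
  exact h3

variable {F : Type*} [Field F] [Fintype F] [CharP F 2] {m : ℕ}
variable (hm : 1 ≤ m) (hF : Fintype.card F = 2 ^ (2 * m + 1))

include hm hF

theorem exists_sq_center (b : F) : ∃ a, tr hF a 0 * tr hF a 0 = (tr hF 0 b : Cfsg.Sz F m) := by
  have hinj : Function.Injective (fun a : F => theta F m a * a) := by
    intro x y e
    have e' : theta F m x * x = theta F m y * y := e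
    by_cases hy : y = 0
    · subst hy
      rw [mul_zero, mul_eq_zero, map_eq_zero, or_self] at e'
      exact e'
    · have h0 : theta F m y ≠ 0 := (map_ne_zero _).2 hy
      refine (div_eq_one_iff_eq hy).1 (eq_one_of_theta_mul hF (m := m) ?_)
      rw [map_div₀]
      field_simp
      linear_combination e'
  obtain ⟨a, ha⟩ := Finite.surjective_of_injective hinj b
  have ha' : a ^ 2 ^ (m + 1) * a = b := by rw [← theta_def]; exact ha
  exact ⟨a, by rw [tr_mul, CharTwo.add_self_eq_zero, zero_add, zero_add, ha']⟩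

theorem odd_orderOf_tor (s : Fˣ) : Odd (orderOf (tor hF s : Cfsg.Sz F m)) := by
  have h1 : orderOf (tor hF s : Cfsg.Sz F m) ∣ Fintype.card F - 1 := by
    rw [← card_torusSubgroup (m := m) hF]
    exact Subgroup.orderOf_dvd_natCard _ ((mem_torusSubgroup hF).2 ⟨s, rfl⟩)
  exact (odd_card_units hm hF).of_dvd_nat h1

/-- An involution fixing `α` forces the whole point stabilizer. -/
theorem stabilizer_of_involution {Ω : Type*} [MulAction (Cfsg.Sz F m) Ω] [Finite Ω]
    (hfix : ∀ g : Cfsg.Sz F m, g ≠ 1 → Nat.card (fixedBy Ω g) ≤ 2) {b : F} (hb : b ≠ 0) {α : Ω}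
    (hα : (tr hF 0 b : Cfsg.Sz F m) • α = α) :
    stabilizer (Cfsg.Sz F m) (infty (F := F) m) ≤ stabilizer (Cfsg.Sz F m) α := by
  have hz1 : (tr hF 0 b : Cfsg.Sz F m) ≠ 1 := fun e =>
    hb (tr_injective hF (e.trans (tr_zero hF).symm)).2
  have hzc : ∀ a c : F, (tr hF a c : Cfsg.Sz F m) * tr hF 0 b = tr hF 0 b * tr hF a c := fun a c => by
    rw [tr_mul, tr_mul]
    congr 1
    · ring
    · rw [zero_pow (by positivity)]; ring
  -- the centre fixes `α`
  have hZ : ∀ c : F, (tr hF 0 c : Cfsg.Sz F m) • α = α := fun c => by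
    obtain ⟨a, ha⟩ := exists_sq_center hm hF c
    rw [← ha, mul_smul]
    exact sq_smul_eq_of_commute (hfix _ hz1) hα (hzc a 0)
  -- the torus fixes the points fixed by the centre
  have hT : ∀ β : Ω, (∀ c, (tr hF 0 c : Cfsg.Sz F m) • β = β) →
      ∀ s, (tor hF s : Cfsg.Sz F m) • β = β := by
    intro β hβ s
    set t : Cfsg.Sz F m := tor hF s
    have hperm : ∀ γ : Ω, (∀ c, (tr hF 0 c : Cfsg.Sz F m) • γ = γ) →
        ∀ c, (tr hF 0 c : Cfsg.Sz F m) • (t • γ) = t • γ := by
      intro γ hγ c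
      have e : (tr hF 0 c : Cfsg.Sz F m) = t * tr hF 0 (c / ((s : F) ^ 2 ^ (m + 1) * (s : F) ^ 2)) * t⁻¹ := by
        rw [conj_tr, mul_zero, mul_div_cancel₀ _ (mul_ne_zero (pow_ne_zero _ s.ne_zero) (pow_ne_zero _ s.ne_zero))]
      rw [e, mul_smul, mul_smul, inv_smul_smul, hγ]
    refine smul_eq_of_odd (odd_orderOf_tor hm hF s) ?_
    by_contra hne
    have hne1 : t • β ≠ β := fun e => hne (by rw [e, e])
    have hne2 : t • t • β ≠ t • β := fun e => hne1 (smul_left_cancel t e)
    have h3 : ({β, t • β, t • t • β} : Set Ω).ncard ≤ 2 := by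
      refine le_trans (Set.ncard_le_ncard ?_ (Set.toFinite _))
        (by have := hfix _ hz1; rwa [Nat.card_coe_set_eq] at this)
      rintro x (rfl | rfl | rfl)
      exacts [hβ b, hperm β hβ b, hperm _ (hperm β hβ) b]
    rw [Set.ncard_eq_three.2 ⟨β, t • β, t • t • β, hne1.symm, Ne.symm hne, hne2.symm, rfl⟩] at h3
    omega
  obtain ⟨s, hs⟩ := exists_unit_ne_one (F := F) hm hF
  have hk : (s : F) ^ 2 ^ (m + 1) + 1 ≠ 0 := fun e => hs (Units.ext ((theta F m).injective (by
    rw [Units.val_one, map_one, theta_def]; exact CharTwo.add_eq_zero.1 e)))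
  have hU : ∀ a c : F, (tr hF a c : Cfsg.Sz F m) • α = α := by
    intro a c
    obtain ⟨a₀, rfl⟩ : ∃ a₀, a = a₀ + (s : F) ^ 2 ^ (m + 1) * a₀ :=
      ⟨a / ((s : F) ^ 2 ^ (m + 1) + 1), by field_simp; ring⟩
    set n : Cfsg.Sz F m := tr hF a₀ 0 with hn
    have hnfix : ∀ c', (tr hF 0 c' : Cfsg.Sz F m) • (n • α) = n • α := fun c' => by
      rw [← mul_smul, hn, tr_mul, show (0 : F) + a₀ = a₀ + 0 by ring,
        show c' + 0 + (0 : F) ^ 2 ^ (m + 1) * a₀ = 0 + c' + a₀ ^ 2 ^ (m + 1) * 0 by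
          rw [zero_pow (by positivity)]; ring, ← tr_mul, mul_smul, hZ]
    have h1 : (n⁻¹ * (tor hF s * n * (tor hF s)⁻¹)) • α = α := by
      rw [mul_smul, mul_smul, mul_smul, tor_inv, hT α hZ, hT _ hnfix, inv_smul_smul]
    rw [hn, tr_inv, conj_tr, tr_mul] at h1
    have h2 := hZ (c - (0 + a₀ ^ 2 ^ (m + 1) * a₀ + ((s : F) ^ 2 ^ (m + 1) * (s : F) ^ 2 * 0) +
      a₀ ^ 2 ^ (m + 1) * ((s : F) ^ 2 ^ (m + 1) * a₀)))
    have h3 : (tr hF (a₀ + (s : F) ^ 2 ^ (m + 1) * a₀) (0 + a₀ ^ 2 ^ (m + 1) * a₀ +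
      ((s : F) ^ 2 ^ (m + 1) * (s : F) ^ 2 * 0) + a₀ ^ 2 ^ (m + 1) * ((s : F) ^ 2 ^ (m + 1) * a₀)) *
      tr hF 0 (c - (0 + a₀ ^ 2 ^ (m + 1) * a₀ + ((s : F) ^ 2 ^ (m + 1) * (s : F) ^ 2 * 0) +
      a₀ ^ 2 ^ (m + 1) * ((s : F) ^ 2 ^ (m + 1) * a₀))) : Cfsg.Sz F m) • α = α := by
      rw [mul_smul, h2, h1]
    rw [tr_mul, add_zero, mul_zero, add_zero, add_sub_cancel, mul_zero, add_zero] at h3
    exact h3
  intro g hg
  obtain ⟨a, c, t, rfl⟩ := exists_tr_to hm hF hg
  rw [mem_stabilizer_iff, mul_smul, hT α hZ, hU]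

theorem fixity_two {Ω : Type*} [MulAction (Cfsg.Sz F m) Ω] [Finite Ω]
    (htr : IsPretransitive (Cfsg.Sz F m) Ω) [FaithfulSMul (Cfsg.Sz F m) Ω]
    (hfix : ∀ g : Cfsg.Sz F m, g ≠ 1 → Nat.card (fixedBy Ω g) ≤ 2)
    (hex : ∃ g : Cfsg.Sz F m, g ≠ 1 ∧ Nat.card (fixedBy Ω g) = 2) :
    (Nat.card Ω = Fintype.card F ^ 2 + 1 ∧ IsMultiplyPretransitive (Cfsg.Sz F m) Ω 2) ∨
    (Nat.card Ω = Fintype.card F ^ 2 * (Fintype.card F ^ 2 + 1) ∧
      ∀ α : Ω, Nat.card (stabilizer (Cfsg.Sz F m) α) = Fintype.card F - 1) := by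
  classical
  haveI := htr
  haveI : Fact (Nat.Prime 2) := ⟨Nat.prime_two⟩
  obtain ⟨g₀, hg₀, hc₀⟩ := hex
  obtain ⟨⟨α₀, hα₀⟩⟩ : Nonempty (fixedBy Ω g₀) :=
    (Nat.card_pos_iff.1 (by rw [hc₀]; norm_num)).1
  by_cases hev : ∃ α : Ω, ∃ z : Cfsg.Sz F m, orderOf z = 2 ∧ z • α = α
  · -- the natural action
    left
    obtain ⟨α₁, z, hz, hzα⟩ := hev
    obtain ⟨P, hzP⟩ := (IsPGroup.of_card (G := Subgroup.zpowers z) (p := 2) (n := 1)
      (by rw [Nat.card_zpowers, hz, pow_one])).exists_le_sylow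
    obtain ⟨P₀, hP₀⟩ := exists_sylow hm hF
    obtain ⟨y, hy⟩ := MulAction.exists_smul_eq (Cfsg.Sz F m) P P₀
    obtain ⟨a, b, hab⟩ : y * z * y⁻¹ ∈ U (m := m) hF := by
      rw [← hP₀, ← hy, Sylow.coe_subgroup_smul]
      exact Subgroup.smul_mem_pointwise_smul z (MulAut.conj y) _ (hzP (Subgroup.mem_zpowers z))
    have h2 : (y * z * y⁻¹) * (y * z * y⁻¹) = 1 := by
      rw [← sq, conj_pow, ← hz, pow_orderOf_eq_one, mul_one, mul_inv_cancel]
    rw [hab, tr_mul, ← tr_zero hF] at h2
    have h3 := (tr_injective hF h2).2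
    rw [CharTwo.add_self_eq_zero, zero_add, mul_eq_zero, pow_eq_zero_iff (by positivity), or_self] at h3
    subst h3
    have hb : b ≠ 0 := by
      rintro rfl
      rw [tr_zero, conj_eq_one_iff] at hab
      rw [hab, orderOf_one] at hz
      exact absurd hz (by norm_num)
    set α := y • α₁
    have hα : (tr hF 0 b : Cfsg.Sz F m) • α = α := by
      rw [← hab, mul_smul, mul_smul, inv_smul_smul, hzα]
    have hle := stabilizer_of_involution hm hF hfix hb hα
    have hne : stabilizer (Cfsg.Sz F m) α ≠ ⊤ := fun e => by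
      refine hg₀ (FaithfulSMul.eq_of_smul_eq_smul (α := Ω) fun β => ?_)
      obtain ⟨g, rfl⟩ := MulAction.exists_smul_eq (Cfsg.Sz F m) α β
      have h : (g₀ * g) • α = g • α := by
        rw [mem_stabilizer_iff.1 (e ▸ Subgroup.mem_top (g₀ * g)),
          mem_stabilizer_iff.1 (e ▸ Subgroup.mem_top g)]
      rw [one_smul, ← mul_smul, h]
    have heq : stabilizer (Cfsg.Sz F m) (infty (F := F) m) = stabilizer (Cfsg.Sz F m) α :=
      hle.eq_or_lt.resolve_right fun hlt => hne ((borel_isCoatom hm hF).2 _ hlt)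
    haveI := pretransitive (m := m) hF
    constructor
    · rw [← index_stabilizer_of_transitive (Cfsg.Sz F m) α, ← heq,
        index_stabilizer_of_transitive (Cfsg.Sz F m) (infty (F := F) m), ovoid_equiv hF]
    · choose γ hγ using fun p : Cfsg.suzukiOvoid F m =>
        MulAction.exists_smul_eq (Cfsg.Sz F m) (infty (F := F) m) p
      have hf : ∀ (g : Cfsg.Sz F m) p, g • γ p • α = γ (g • p) • α := by
        intro g p
        have : (γ (g • p))⁻¹ * (g * γ p) ∈ stabilizer (Cfsg.Sz F m) α := by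
          rw [← heq, mem_stabilizer_iff, mul_smul, mul_smul, hγ, inv_smul_eq_iff, hγ]
        rw [mem_stabilizer_iff, mul_smul, mul_smul, inv_smul_eq_iff] at this
        exact this
      have hsurj : ∀ β : Ω, ∃ p, γ p • α = β := fun β => by
        obtain ⟨g, rfl⟩ := MulAction.exists_smul_eq (Cfsg.Sz F m) α β
        refine ⟨g • infty (F := F) m, ?_⟩
        rw [← hf, smul_left_cancel_iff]
        show γ (infty (F := F) m) • α = α
        exact mem_stabilizer_iff.1 (heq ▸ mem_stabilizer_iff.2 (hγ _))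
      refine is_two_pretransitive_iff.2 fun {a b c d} hne' hne'' => ?_
      obtain ⟨p, rfl⟩ := hsurj a
      obtain ⟨p', rfl⟩ := hsurj b
      obtain ⟨r, rfl⟩ := hsurj c
      obtain ⟨r', rfl⟩ := hsurj d
      have hpp : p ≠ p' := fun e => hne' (by rw [e])
      have hrr : r ≠ r' := fun e => hne'' (by rw [e])
      obtain ⟨g, e1, e2⟩ := is_two_pretransitive_iff.1 (two_transitive (m := m) hF) hpp hrr
      exact ⟨g, by rw [hf, e1], by rw [hf, e2]⟩
  · -- stabilizers are tori of order `q - 1`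
    right
    push Not at hev
    have hnofpf : ∀ (α : Ω) (h : Cfsg.Sz F m), h • α = α → ¬ FPF h := by
      intro α h hhα hf
      obtain ⟨x, x', hx, hx', e1, e2, n1, n2, hcov⟩ := exists_two_tori hm hF
      -- `C(h)` fixes `α`
      obtain ⟨hcyc, hcard, hkey, -⟩ := fpf_torus hm hF hf
      set C := Subgroup.centralizer ({h} : Set (Cfsg.Sz F m)) with hC
      have hoddC : Odd (Nat.card C) := by
        rcases hcard with e | e
        · exact (odd_kPlus hm).of_dvd_nat e
        · exact (odd_kMinus hm).of_dvd_nat e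
      have hCα : ∀ c ∈ C, c • α = α := fun c hc =>
        smul_eq_of_odd (hoddC.of_dvd_nat (Subgroup.orderOf_dvd_natCard C hc))
          (sq_smul_eq_of_commute (hfix h hf.ne_one) hhα (Subgroup.mem_centralizer_singleton_iff.1 hc))
      set N := Subgroup.normalizer (C : Set (Cfsg.Sz F m)) with hN
      have hNcard : 4 ∣ Nat.card N := by
        have key : ∀ z : Cfsg.Sz F m, FPF z → ∀ y, y * h * y⁻¹ ∈ Subgroup.centralizer ({z} : Set (Cfsg.Sz F m)) →
            ∀ k, Nat.card (Subgroup.normalizer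
              ((Subgroup.centralizer ({z} : Set (Cfsg.Sz F m))) : Set (Cfsg.Sz F m))) = 4 * k →
            4 ∣ Nat.card N := by
          intro z hz y hy k hk
          have e := ((fpf_torus hm hF hz).2.2.1 _ hy fun e => hf.ne_one (conj_eq_one_iff.1 e)).2
          rw [centralizer_conj hm hF] at e
          rw [← e, show ((Subgroup.centralizer ({h} : Set (Cfsg.Sz F m))).map
            (MulAut.conj y).toMonoidHom) = C.map (MulAut.conj y).toMonoidHom from rfl,
            ← Subgroup.map_equiv_normalizer_eq,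
            Subgroup.card_map_of_injective (MulAut.conj y).injective] at hk
          exact ⟨k, hk⟩
        rcases hcov h hf with ⟨-, y, hy⟩ | ⟨-, y, hy⟩
        exacts [key x hx y hy _ n1, key x' hx' y hy _ n2]
      -- the orbit of `α` under the normalizer
      have horb : orbit N α ⊆ fixedBy Ω h := by
        rintro _ ⟨n, rfl⟩
        show h • (n : Cfsg.Sz F m) • α = (n : Cfsg.Sz F m) • α
        have hconj : (n : Cfsg.Sz F m)⁻¹ * h * n ∈ C :=
          (Subgroup.mem_set_normalizer_iff''.1 n.2 h).1 (Subgroup.mem_centralizer_singleton_iff.2 rfl)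
        have := hCα _ hconj
        rwa [mul_smul, mul_smul, inv_smul_eq_iff] at this
      have horb2 : (orbit N α).ncard ≤ 2 :=
        le_trans (Set.ncard_le_ncard horb (Set.toFinite _))
          (by have := hfix h hf.ne_one; rwa [Nat.card_coe_set_eq] at this)
      have hoc := Subgroup.card_mul_index (stabilizer N α)
      rw [index_stabilizer, mul_comm] at hoc
      have hpos : 0 < (orbit N α).ncard :=
        (Set.ncard_pos (Set.toFinite _)).2 ⟨α, mem_orbit_self α⟩
      have hev2 : 2 ∣ Nat.card (stabilizer N α) := by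
        obtain ⟨k, hk⟩ := hNcard
        rcases (by omega : (orbit N α).ncard = 1 ∨ (orbit N α).ncard = 2) with e | e <;>
          rw [e] at hoc
        · exact ⟨2 * k, by omega⟩
        · exact ⟨k, by omega⟩
      obtain ⟨w, hw⟩ := exists_prime_orderOf_dvd_card' 2 hev2
      refine hev α ((w : N) : Cfsg.Sz F m) ?_ (mem_stabilizer_iff.1 w.2)
      rw [Subgroup.orderOf_coe, Subgroup.orderOf_coe, hw]
    have key : ∀ (α : Ω) (h : Cfsg.Sz F m), h • α = α → h ≠ 1 →
        ∃ y s, s ≠ 1 ∧ y * h * y⁻¹ = tor hF s := by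
      intro α h hhα h1
      rcases element_cases hm hF h1 with hf | ⟨y, a, b, hab, he⟩ | hcase
      · exact absurd hf (hnofpf α h hhα)
      · exfalso
        have h4 : h ^ 4 = 1 := by
          have hh : (y * h * y⁻¹) ^ 4 = 1 := by
            have hmul : tr hF a b * tr hF a b = (tr hF 0 (a ^ 2 ^ (m + 1) * a) : Cfsg.Sz F m) := by
              rw [tr_mul, CharTwo.add_self_eq_zero, CharTwo.add_self_eq_zero, zero_add]
            rw [he, pow_succ, pow_succ, pow_succ, pow_one, hmul, mul_assoc, hmul, tr_mul]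
            simp [CharTwo.add_self_eq_zero, tr_zero]
          rw [conj_pow, conj_eq_one_iff] at hh
          exact hh
        have hd : orderOf h ∣ 2 ^ 2 := orderOf_dvd_of_pow_eq_one h4
        obtain ⟨i, hi, hio⟩ := (Nat.dvd_prime_pow Nat.prime_two).1 hd
        rcases i with _ | i
        · exact h1 (orderOf_eq_one_iff.1 (by simpa using hio))
        · refine hev α (h ^ 2 ^ i) ?_ ?_
          · rw [orderOf_pow' _ (by positivity), hio, pow_succ,
              Nat.gcd_eq_right (dvd_mul_right _ _), Nat.mul_div_cancel_left _ (by positivity)]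
          · exact mem_stabilizer_iff.1 (pow_mem (show h ∈ stabilizer (Cfsg.Sz F m) α from hhα) _)
      · exact hcase
    have hcard : ∀ α : Ω, Nat.card (stabilizer (Cfsg.Sz F m) α) = Fintype.card F - 1 := by
      intro α
      refine Nat.dvd_antisymm ?_ ?_
      · have h1 : Nat.card (stabilizer (Cfsg.Sz F m) α) ∣
            Fintype.card F ^ 2 * (Fintype.card F ^ 2 + 1) * (Fintype.card F - 1) := by
          rw [← card_eq hm hF]; exact Subgroup.card_subgroup_dvd_card _
        refine (Nat.Coprime.dvd_mul_left ?_).1 h1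
        refine Nat.coprime_of_dvd' fun p hp hp1 hp2 => ?_
        exfalso
        haveI := Fact.mk hp
        obtain ⟨w, hw⟩ := exists_prime_orderOf_dvd_card' p hp1
        have hw1 : (w : Cfsg.Sz F m) ≠ 1 := fun e => hp.ne_one (by
          rw [← hw, ← Subgroup.orderOf_coe, e, orderOf_one])
        obtain ⟨y, s, -, he⟩ := key α w (mem_stabilizer_iff.1 w.2) hw1
        have hd : p ∣ Fintype.card F - 1 := by
          rw [← hw, ← Subgroup.orderOf_coe, ← orderOf_conj_eq y, he, ← card_torusSubgroup (m := m) hF]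
          exact Subgroup.orderOf_dvd_natCard _ ((mem_torusSubgroup hF).2 ⟨s, rfl⟩)
        rcases (Nat.Prime.dvd_mul hp).1 hp2 with h2 | h2
        · have h3 := (Nat.prime_dvd_prime_iff_eq hp Nat.prime_two).1
            (hp.dvd_of_dvd_pow (n := 2 * m + 1) (by rw [← hF]; exact hp.dvd_of_dvd_pow h2))
          subst h3
          exact Nat.not_even_iff_odd.2 (odd_card_units hm hF) (even_iff_two_dvd.2 hd)
        · exact hp.ne_one (Nat.eq_one_of_dvd_coprimes (coprime_stabilizer hm hF)
            (Dvd.dvd.mul_left hd _) h2)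
      · obtain ⟨β, h, hh, h1⟩ : ∃ β, ∃ h : Cfsg.Sz F m, h • β = β ∧ h ≠ 1 := ⟨α₀, g₀, hα₀, hg₀⟩
        obtain ⟨g, rfl⟩ := MulAction.exists_smul_eq (Cfsg.Sz F m) α β
        have hh' : (g⁻¹ * h * g) • α = α := by rw [mul_smul, mul_smul, hh, inv_smul_smul]
        have h1' : g⁻¹ * h * g ≠ 1 := fun e => h1 (by
          calc h = g * (g⁻¹ * h * g) * g⁻¹ := by group
            _ = 1 := by rw [e]; group)
        obtain ⟨y, s, hs, he⟩ := key α _ hh' h1'
        set h' := g⁻¹ * h * g
        have hc : Nat.card (Subgroup.centralizer ({h'} : Set (Cfsg.Sz F m))) = Fintype.card F - 1 := by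
          rw [← card_centralizer_conj hm hF (h := y), he, centralizer_tor hm hF hs, card_torusSubgroup hF]
        rw [← hc]
        refine Subgroup.card_dvd_of_le fun c hc' => ?_
        refine smul_eq_of_odd ?_ (sq_smul_eq_of_commute (hfix h' h1') hh'
          (Subgroup.mem_centralizer_singleton_iff.1 hc'))
        exact (odd_card_units hm hF).of_dvd_nat (hc ▸ Subgroup.orderOf_dvd_natCard _ hc')
    refine ⟨?_, hcard⟩
    have hi := Subgroup.card_mul_index (stabilizer (Cfsg.Sz F m) α₀)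
    rw [hcard, index_stabilizer_of_transitive, card_eq hm hF, mul_comm] at hi
    exact Nat.eq_of_mul_eq_mul_right (odd_card_units (F := F) hm hF).pos hi

end Cfsg.Agent.Suzuki
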