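import Mathlib
import Cfsg.Agent.Lib.Suzuki.Group

/-!
A nontrivial word is a law in only finitely many Suzuki groups: a degree argument along one torus
parameter.
-/

set_option autoImplicit false
set_option linter.unusedSectionVars false

namespace Cfsg.Agent.Suzuki.Laws

open Matrix Polynomial

variable {F : Type*} [Field F] [Fintype F] [CharP F 2] {m : ℕ}

/-- The first constant matrix. -/
def cMat (m : ℕ) : Matrix (Fin 4) (Fin 4) F := transMat m 1 0 * swapMat * transMat m 1 0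

/-- Its inverse. -/
def cInvMat (m : ℕ) : Matrix (Fin 4) (Fin 4) F := transMat m 1 1 * swapMat * transMat m 1 1

/-- All four corners of a matrix are nonzero. -/
def Corners (A : Matrix (Fin 4) (Fin 4) F) : Prop :=
  ∀ i j : Fin 4, (i = 0 ∨ i = 3) → (j = 0 ∨ j = 3) → A i j ≠ 0

theorem corners_cMat : Corners (cMat (F := F) m) := by
  have h2 : (2 : F) = 0 := CharTwo.two_eq_zero
  rintro i j (rfl | rfl) (rfl | rfl) h <;>
    simp [cMat, transMat, swapMat, ovf, Matrix.mul_apply, Fin.sum_univ_four,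
      CharTwo.add_self_eq_zero, zero_pow] at h <;>
    exact one_ne_zero (by linear_combination h - h2)

theorem corners_cInvMat : Corners (cInvMat (F := F) m) := by
  have h2 : (2 : F) = 0 := CharTwo.two_eq_zero
  rintro i j (rfl | rfl) (rfl | rfl) h <;>
    simp [cInvMat, transMat, swapMat, ovf, Matrix.mul_apply, Fin.sum_univ_four,
      CharTwo.add_self_eq_zero, zero_pow] at h <;>
    exact one_ne_zero (by linear_combination h - h2)

/-- The scaled torus exponents. -/
def wexp (r : ℕ) (k : ℤ) : Fin 4 → ℕ :=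
  if 0 ≤ k then fun i => k.natAbs * ![2 * r + 2, r + 2, r, 0] i
  else fun i => k.natAbs * ![0, r, r + 2, 2 * r + 2] i

/-- The scaled torus acting on a polynomial vector. -/
noncomputable def tAct (r : ℕ) (k : ℤ) (v : Fin 4 → F[X]) : Fin 4 → F[X] :=
  fun i => X ^ wexp r k i * v i

/-- A constant matrix acting on a polynomial vector. -/
noncomputable def cAct (A : Matrix (Fin 4) (Fin 4) F) (v : Fin 4 → F[X]) : Fin 4 → F[X] :=
  fun i => ∑ j, C (A i j) * v j

/-- Degree at most `D`, attained at both extreme entries. -/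
def Spread (v : Fin 4 → F[X]) (D : ℕ) : Prop :=
  (∀ i d, D < d → (v i).coeff d = 0) ∧ (v 0).coeff D ≠ 0 ∧ (v 3).coeff D ≠ 0

/-- Degree at most `D`, attained at the entry `σ` only. -/
def Dominant (σ : Fin 4) (v : Fin 4 → F[X]) (D : ℕ) : Prop :=
  (∀ i d, D < d → (v i).coeff d = 0) ∧ (v σ).coeff D ≠ 0 ∧ ∀ i, i ≠ σ → (v i).coeff D = 0

/-- The extreme index of a sign. -/
def ext (k : ℤ) : Fin 4 := if 0 ≤ k then 0 else 3

theorem ext_cases (k : ℤ) : ext k = 0 ∨ ext k = 3 := by
  unfold ext; split_ifs <;> simp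

theorem spread_cAct {A : Matrix (Fin 4) (Fin 4) F} (hA : Corners A) {σ : Fin 4}
    (hσ : σ = 0 ∨ σ = 3) {v : Fin 4 → F[X]} {D : ℕ} (h : Dominant σ v D) :
    Spread (cAct A v) D := by
  obtain ⟨h1, h2, h3⟩ := h
  have key : ∀ i, (cAct A v i).coeff D = A i σ * (v σ).coeff D := by
    intro i
    rw [cAct, finsetSum_coeff, Finset.sum_eq_single σ]
    · rw [coeff_C_mul]
    · intro j _ hj; rw [coeff_C_mul, h3 j hj, mul_zero]
    · simp
  refine ⟨fun i d hd => ?_, ?_, ?_⟩
  · rw [cAct, finsetSum_coeff]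
    exact Finset.sum_eq_zero fun j _ => by rw [coeff_C_mul, h1 j d hd, mul_zero]
  · rw [key]; exact mul_ne_zero (hA 0 σ (Or.inl rfl) hσ) h2
  · rw [key]; exact mul_ne_zero (hA 3 σ (Or.inr rfl) hσ) h2

theorem wexp_ext (r : ℕ) (k : ℤ) : wexp r k (ext k) = k.natAbs * (2 * r + 2) := by
  unfold wexp ext; split_ifs <;> simp

theorem wexp_lt {r : ℕ} (hr : 0 < r) {k : ℤ} (hk : k ≠ 0) {i : Fin 4} (hi : i ≠ ext k) :
    wexp r k i < k.natAbs * (2 * r + 2) := by
  have h : 0 < k.natAbs := Int.natAbs_pos.2 hk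
  unfold wexp ext at *
  split_ifs at * <;> fin_cases i <;> simp at hi ⊢ <;>
    first | exact hk | exact Nat.mul_lt_mul_of_pos_left (by omega) h

theorem dominant_tAct_spread {r : ℕ} (hr : 0 < r) {k : ℤ} (hk : k ≠ 0) {v : Fin 4 → F[X]} {D : ℕ}
    (h : Spread v D) : Dominant (ext k) (tAct r k v) (D + k.natAbs * (2 * r + 2)) := by
  obtain ⟨h1, h0, h3⟩ := h
  refine ⟨fun i d hd => ?_, ?_, fun i hi => ?_⟩
  · rw [tAct, coeff_X_pow_mul']
    split_ifs with hle
    · refine h1 i _ ?_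
      have : wexp r k i ≤ k.natAbs * (2 * r + 2) := by
        rcases eq_or_ne i (ext k) with rfl | hi
        · rw [wexp_ext]
        · exact (wexp_lt hr hk hi).le
      omega
    · rfl
  · rw [tAct, wexp_ext, coeff_X_pow_mul]
    rcases ext_cases k with e | e <;> rw [e] <;> assumption
  · rw [tAct, coeff_X_pow_mul']
    split_ifs with hle
    · refine h1 i _ ?_
      have := wexp_lt hr hk hi
      omega
    · rfl

theorem dominant_tAct_dominant {r : ℕ} (hr : 0 < r) {k : ℤ} (hk : k ≠ 0) {v : Fin 4 → F[X]} {D : ℕ}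
    (h : Dominant (ext k) v D) : Dominant (ext k) (tAct r k v) (D + k.natAbs * (2 * r + 2)) := by
  obtain ⟨h1, hσ, h3⟩ := h
  refine ⟨fun i d hd => ?_, ?_, fun i hi => ?_⟩
  · rw [tAct, coeff_X_pow_mul']
    split_ifs with hle
    · refine h1 i _ ?_
      have : wexp r k i ≤ k.natAbs * (2 * r + 2) := by
        rcases eq_or_ne i (ext k) with rfl | hi
        · rw [wexp_ext]
        · exact (wexp_lt hr hk hi).le
      omega
    · rfl
  · rw [tAct, wexp_ext, coeff_X_pow_mul]
    exact hσ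
  · rw [tAct, coeff_X_pow_mul']
    split_ifs with hle
    · refine h1 i _ ?_
      have := wexp_lt hr hk hi
      omega
    · rfl

variable (hF : Fintype.card F = 2 ^ (2 * m + 1))
include hF

/-- The constant element. -/
noncomputable def cElt : Cfsg.Sz F m := tr hF 1 0 * sw hF * tr hF 1 0

theorem coe_cElt : ((cElt hF : Cfsg.Sz F m).1 : Matrix (Fin 4) (Fin 4) F) = cMat m := rfl

theorem coe_cElt_inv : (((cElt hF)⁻¹ : Cfsg.Sz F m).1 : Matrix (Fin 4) (Fin 4) F) = cInvMat m := by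
  have h : ((cElt hF)⁻¹ : Cfsg.Sz F m) = tr hF 1 1 * sw hF * tr hF 1 1 := by
    rw [cElt, _root_.mul_inv_rev, _root_.mul_inv_rev, sw_inv, tr_inv, one_pow, mul_one, zero_add, mul_assoc]
  rw [h]
  rfl

/-- A polynomial vector representing a family of group elements on the all-one vector. -/
def Rep (g : Fˣ → Cfsg.Sz F m) (N : ℕ) (v : Fin 4 → F[X]) : Prop :=
  ∀ (x : Fˣ) (i : Fin 4),
    (v i).eval (x : F) = (x : F) ^ N * ((g x).1 : Matrix (Fin 4) (Fin 4) F).mulVec (fun _ => 1) i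

theorem rep_one : Rep (fun _ => (1 : Cfsg.Sz F m)) 0 (fun _ => (1 : F[X])) := by
  intro x i
  simp [Matrix.mulVec, dotProduct, Matrix.one_apply]

theorem rep_mul_const {g : Fˣ → Cfsg.Sz F m} {N : ℕ} {v : Fin 4 → F[X]} (h : Rep g N v)
    {e : Cfsg.Sz F m} {A : Matrix (Fin 4) (Fin 4) F} (hA : (e.1 : Matrix (Fin 4) (Fin 4) F) = A) :
    Rep (fun x => e * g x) N (cAct A v) := by
  intro x i
  simp only [cAct, eval_finsetSum, eval_mul, eval_C, h x, Subgroup.coe_mul,
    Matrix.SpecialLinearGroup.coe_mul, hA, ← Matrix.mulVec_mulVec]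
  conv_rhs => rw [Matrix.mulVec, dotProduct, Finset.mul_sum]
  exact Finset.sum_congr rfl fun j _ => by ring

theorem rep_mul_tor {g : Fˣ → Cfsg.Sz F m} {N : ℕ} {v : Fin 4 → F[X]} (h : Rep g N v) (k : ℤ) :
    Rep (fun x => tor hF (x ^ k) * g x) (k.natAbs * (2 ^ (m + 1) + 1) + N)
      (tAct (2 ^ (m + 1)) k v) := by
  intro x i
  simp only [tAct, eval_mul, eval_pow, eval_X, h x, Subgroup.coe_mul,
    Matrix.SpecialLinearGroup.coe_mul, ← Matrix.mulVec_mulVec]
  show _ = _ * (torusMat m (x ^ k) *ᵥ _) i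
  rw [torusMat, Matrix.mulVec_diagonal, ← mul_assoc, ← mul_assoc]
  congr 1
  have hx := x.ne_zero
  obtain ⟨a, rfl | rfl⟩ := Int.eq_nat_or_neg k
  · simp only [wexp, Int.natCast_nonneg, if_true, Int.natAbs_natCast, Units.val_zpow_eq_zpow_val,
      zpow_natCast]
    fin_cases i <;> simp [pow_add, ← pow_mul, ← inv_pow] <;> field_simp <;> ring_nf <;>
      simp only [inv_pow] <;> field_simp
  · rcases Nat.eq_zero_or_pos a with rfl | ha
    · fin_cases i <;> simp [wexp]
    simp only [wexp, show ¬ (0 : ℤ) ≤ -(a : ℤ) by omega, if_false, Int.natAbs_neg,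
      Int.natAbs_natCast, Units.val_zpow_eq_zpow_val, _root_.zpow_neg, zpow_natCast]
    fin_cases i <;> simp [pow_add, ← pow_mul, inv_pow] <;> field_simp <;> ring_nf <;>
      simp only [inv_pow] <;> field_simp

/-- The exponent of a signed letter. -/
def sgn (b : Bool) : ℤ := cond b 1 (-1)

omit hF in
theorem sgn_ne (b : Bool) : sgn b ≠ 0 := by cases b <;> decide

omit hF in
theorem natAbs_sgn (b : Bool) : (sgn b).natAbs = 1 := by cases b <;> rfl

/-- The substitution. -/
noncomputable def gen (x : Fˣ) (i : ℕ) : Cfsg.Sz F m :=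
  tor hF (x ^ ((i : ℤ) + 1)) * cElt hF * tor hF x * (cElt hF)⁻¹ *
    (tor hF (x ^ ((i : ℤ) + 1)))⁻¹

/-- The value of a word. -/
noncomputable def wval (x : Fˣ) (L : List (ℕ × Bool)) : Cfsg.Sz F m :=
  (L.map fun p => cond p.2 (gen hF x p.1) (gen hF x p.1)⁻¹).prod

/-- The bound on the number of torus factors. -/
def bound (L : List (ℕ × Bool)) : ℕ := (L.map fun p => 2 * (p.1 + 1) + 1).sum

theorem letter_eq (x : Fˣ) (i : ℕ) (b : Bool) :
    cond b (gen hF x i) (gen hF x i)⁻¹ = tor hF (x ^ ((i : ℤ) + 1)) * cElt hF *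
      tor hF (x ^ sgn b) * (cElt hF)⁻¹ * (tor hF (x ^ ((i : ℤ) + 1)))⁻¹ := by
  cases b
  · simp only [cond_false, gen, sgn, _root_.zpow_neg, zpow_one]
    rw [← tor_inv]
    group
  · simp only [cond_true, gen, sgn, zpow_one]

theorem wval_cons (x : Fˣ) (i : ℕ) (b : Bool) (L : List (ℕ × Bool)) :
    wval hF x ((i, b) :: L) = tor hF (x ^ ((i : ℤ) + 1)) * cElt hF *
      tor hF (x ^ sgn b) * (cElt hF)⁻¹ * (tor hF (x ^ ((i : ℤ) + 1)))⁻¹ * wval hF x L := by
  rw [wval, List.map_cons, List.prod_cons, letter_eq]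
  rfl

theorem word_state : ∀ (L : List (ℕ × Bool)) (i : ℕ) (b : Bool),
    FreeGroup.IsReduced ((i, b) :: L) →
    ∃ (N : ℕ) (u : Fin 4 → F[X]), 0 < N ∧ N + (i + 1) ≤ bound ((i, b) :: L) ∧
      Rep (fun x => (cElt hF)⁻¹ * (tor hF (x ^ ((i : ℤ) + 1)))⁻¹ * wval hF x ((i, b) :: L))
        (N * (2 ^ (m + 1) + 1)) u ∧
      Dominant (ext (sgn b)) u (N * (2 * 2 ^ (m + 1) + 2)) := by
  intro L
  induction L with
  | nil =>
    intro i b _
    have h1 := rep_mul_tor hF (rep_one hF) (-((i : ℤ) + 1))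
    have h2 := rep_mul_const hF h1 (coe_cElt_inv hF)
    have h3 := rep_mul_tor hF h2 (sgn b)
    have hne : -((i : ℤ) + 1) ≠ 0 := by omega
    have s0 : Spread (fun _ => (1 : F[X]) : Fin 4 → F[X]) 0 :=
      ⟨fun j d hd => by rw [coeff_one, if_neg (by omega)], by simp, by simp⟩
    have d1 := dominant_tAct_spread (r := 2 ^ (m + 1)) (by positivity) hne s0
    have s2 := spread_cAct (corners_cInvMat (m := m)) (ext_cases _) d1
    have d3 := dominant_tAct_spread (r := 2 ^ (m + 1)) (by positivity) (sgn_ne b) s2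
    have hab : (-((i : ℤ) + 1)).natAbs = i + 1 := by omega
    rw [hab, natAbs_sgn] at h3 d3
    refine ⟨i + 2, tAct (2 ^ (m + 1)) (sgn b) (cAct (cInvMat m)
      (tAct (2 ^ (m + 1)) (-((i : ℤ) + 1)) (fun _ => 1))), by omega, by simp [bound]; omega,
      fun x j => ?_, ?_⟩
    · rw [h3 x j]
      congr 2
      · ring
      · refine congrArg (fun g : Cfsg.Sz F m => (g.1 : Matrix (Fin 4) (Fin 4) F)) ?_
        show tor hF (x ^ sgn b) * ((cElt hF)⁻¹ * (tor hF (x ^ (-((i : ℤ) + 1))) * 1)) =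
          (cElt hF)⁻¹ * _ * wval hF x [(i, b)]
        rw [wval_cons hF x i b [], show wval hF x [] = (1 : Cfsg.Sz F m) from rfl, _root_.zpow_neg,
          ← tor_inv]
        group
    · convert d3 using 1
      ring
  | cons p L ih =>
    intro i b hred
    obtain ⟨j, d⟩ := p
    have hred' := List.isChain_cons_cons.1 hred
    obtain ⟨N, u, hN, hNb, hrep, hdom⟩ := ih j d hred'.2
    have hhead : i = j → b = d := fun e => hred'.1 e
    have hbd : bound ((i, b) :: (j, d) :: L) = 2 * (i + 1) + 1 + bound ((j, d) :: L) := by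
      simp [bound]
    by_cases hij : i = j
    · subst hij
      obtain rfl := hhead rfl
      refine ⟨N + 1, tAct (2 ^ (m + 1)) (sgn b) u, by omega, by omega, fun x k => ?_, ?_⟩
      · rw [rep_mul_tor hF hrep (sgn b) x k]
        congr 2
        · rw [natAbs_sgn]; ring
        · refine congrArg (fun g : Cfsg.Sz F m => (g.1 : Matrix (Fin 4) (Fin 4) F)) ?_
          show tor hF (x ^ sgn b) * _ = (cElt hF)⁻¹ * _ * wval hF x ((i, b) :: (i, b) :: L)
          rw [wval_cons hF x i b ((i, b) :: L)]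
          group
      · have d1 := dominant_tAct_dominant (r := 2 ^ (m + 1)) (by positivity) (sgn_ne b) hdom
        rw [natAbs_sgn] at d1
        convert d1 using 1
        ring
    · have hk : ((j : ℤ) - i) ≠ 0 := by omega
      have h1 := rep_mul_const hF hrep (coe_cElt hF)
      have h2 := rep_mul_tor hF h1 ((j : ℤ) - i)
      have h3 := rep_mul_const hF h2 (coe_cElt_inv hF)
      have h4 := rep_mul_tor hF h3 (sgn b)
      have s1 := spread_cAct (corners_cMat (m := m)) (ext_cases _) hdom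
      have d2 := dominant_tAct_spread (r := 2 ^ (m + 1)) (by positivity) hk s1
      have s3 := spread_cAct (corners_cInvMat (m := m)) (ext_cases _) d2
      have d4 := dominant_tAct_spread (r := 2 ^ (m + 1)) (by positivity) (sgn_ne b) s3
      rw [natAbs_sgn] at h4 d4
      refine ⟨N + ((j : ℤ) - i).natAbs + 1, tAct (2 ^ (m + 1)) (sgn b) (cAct (cInvMat m)
        (tAct (2 ^ (m + 1)) ((j : ℤ) - i) (cAct (cMat m) u))), by omega, by omega,
        fun x k => ?_, ?_⟩
      · rw [h4 x k]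
        congr 2
        · ring
        · have e : tor hF (x ^ ((j : ℤ) - i)) =
              (tor hF (x ^ ((i : ℤ) + 1)))⁻¹ * tor hF (x ^ ((j : ℤ) + 1)) := by
            rw [tor_inv, ← tor_mul, ← _root_.zpow_neg, ← _root_.zpow_add]
            congr 2
            ring
          refine congrArg (fun g : Cfsg.Sz F m => (g.1 : Matrix (Fin 4) (Fin 4) F)) ?_
          show tor hF (x ^ sgn b) * ((cElt hF)⁻¹ * (tor hF (x ^ ((j : ℤ) - i)) * _)) =
            (cElt hF)⁻¹ * _ * wval hF x ((i, b) :: (j, d) :: L)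
          rw [wval_cons hF x i b ((j, d) :: L), e]
          group
      · convert d4 using 1
        ring

theorem exists_nontrivial (L : List (ℕ × Bool)) (hL : L ≠ []) (hred : FreeGroup.IsReduced L)
    (hbig : bound L * (2 * 2 ^ (m + 1) + 2) + 1 < Fintype.card F) :
    ∃ x : Fˣ, wval hF x L ≠ 1 := by
  classical
  obtain ⟨⟨i, b⟩, L', rfl⟩ := List.exists_cons_of_ne_nil hL
  obtain ⟨N, u, hN, hNb, hrep, hdom⟩ := word_state hF L' i b hred
  have h1 := rep_mul_const hF hrep (coe_cElt hF)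
  have h2 := rep_mul_tor hF h1 ((i : ℤ) + 1)
  have s1 := spread_cAct (corners_cMat (m := m)) (ext_cases _) hdom
  have d2 := dominant_tAct_spread (r := 2 ^ (m + 1)) (by positivity) (show ((i : ℤ) + 1) ≠ 0 by omega) s1
  set r := 2 ^ (m + 1) with hr
  set v := tAct r ((i : ℤ) + 1) (cAct (cMat m) u) with hv
  have hab : ((i : ℤ) + 1).natAbs = i + 1 := by omega
  rw [hab] at h2 d2
  set K := N + (i + 1) with hK
  set P : F[X] := X * (v 0 - X ^ (K * (r + 1))) with hP
  have hext : ext ((i : ℤ) + 1) = 0 := if_pos (by omega)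
  rw [hext] at d2
  have hD : N * (2 * r + 2) + (i + 1) * (2 * r + 2) = K * (2 * r + 2) := by rw [hK]; ring
  rw [hD] at d2
  have hlt : K * (r + 1) < K * (2 * r + 2) := Nat.mul_lt_mul_of_pos_left (by omega) (by omega)
  have hPdeg : P.natDegree ≤ K * (2 * r + 2) + 1 := by
    refine natDegree_mul_le.trans ?_
    rw [natDegree_X, add_comm]
    refine Nat.add_le_add_right (natDegree_sub_le_of_le ?_ ?_ |>.trans (max_self _).le) 1
    · exact natDegree_le_iff_coeff_eq_zero.2 fun d hd => d2.1 0 d hd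
    · rw [natDegree_X_pow]; exact hlt.le
  have hP0 : P ≠ 0 := by
    intro e
    rcases mul_eq_zero.1 e with e | e
    · exact X_ne_zero e
    · have := congrArg (fun p : F[X] => p.coeff (K * (2 * r + 2))) e
      simp only [coeff_sub, coeff_X_pow, coeff_zero, if_neg hlt.ne', sub_zero] at this
      exact d2.2.1 this
  obtain ⟨a, ha⟩ : ∃ a : F, P.eval a ≠ 0 := by
    by_contra hc
    push Not at hc
    refine hP0 (eq_zero_of_natDegree_lt_card_of_eval_eq_zero' P Finset.univ (fun y _ => hc y) ?_)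
    rw [Finset.card_univ]
    have := Nat.mul_le_mul_right (2 * r + 2) hNb
    omega
  rw [hP, eval_mul, eval_X, eval_sub, eval_pow, eval_X] at ha
  obtain ⟨ha0, ha1⟩ := mul_ne_zero_iff.1 ha
  refine ⟨Units.mk0 a ha0, fun hw => ha1 ?_⟩
  have h3 := h2 (Units.mk0 a ha0) 0
  simp only [Units.val_mk0] at h3
  rw [h3, sub_eq_zero]
  have e : (tor hF (Units.mk0 a ha0 ^ ((i : ℤ) + 1)) : Cfsg.Sz F m) * (cElt hF *
      ((cElt hF)⁻¹ * (tor hF (Units.mk0 a ha0 ^ ((i : ℤ) + 1)))⁻¹ *
        wval hF (Units.mk0 a ha0) ((i, b) :: L'))) = 1 := by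
    rw [hw]; group
  rw [e]
  simp [hK, Matrix.mulVec, dotProduct, Matrix.one_apply]
  ring

end Cfsg.Agent.Suzuki.Laws
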