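import Cfsg.Prelude.Def_LieExceptional
import Cfsg.Agent.Lib.Suzuki.Field

/-!
# Generators of the Suzuki group and their action on the ovoid
-/

set_option autoImplicit false
set_option linter.unusedSectionVars false

namespace Cfsg.Agent.Suzuki

open Matrix

variable {F : Type*} [Field F] {m : ℕ}

/-- The affine point with parameters `x`, `y`. -/
def vec (m : ℕ) (x y : F) : Fin 4 → F := ![ovf m x y, y, x, 1]

theorem vec_ne_zero (m : ℕ) (x y : F) : vec m x y ≠ 0 := fun h => by
  have := congrFun h 3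
  simp [vec] at this

theorem inf_ne_zero : (![1, 0, 0, 0] : Fin 4 → F) ≠ 0 := fun h => by simpa using congrFun h 0

/-- The affine point with parameters `x`, `y` on the ovoid. -/
def point (m : ℕ) (x y : F) : Cfsg.suzukiOvoid F m :=
  ⟨Projectivization.mk F (vec m x y) (vec_ne_zero m x y), _, vec_ne_zero m x y, rfl,
    Or.inr ⟨x, y, rfl⟩⟩

/-- The point at infinity. -/
def infty (m : ℕ) : Cfsg.suzukiOvoid F m :=
  ⟨Projectivization.mk F ![1, 0, 0, 0] inf_ne_zero, _, inf_ne_zero, rfl, Or.inl rfl⟩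

theorem point_injective {x y x' y' : F} (h : point m x y = point m x' y') : x = x' ∧ y = y' := by
  have h1 := congrArg Subtype.val h
  simp only [point, Projectivization.mk_eq_mk_iff'] at h1
  obtain ⟨c, hc⟩ := h1
  have h3 := congrFun hc 3
  simp [vec] at h3
  subst h3
  exact ⟨(by simpa [vec] using (congrFun hc 2).symm), (by simpa [vec] using (congrFun hc 1).symm)⟩

theorem point_ne_infty (x y : F) : point m x y ≠ infty m := by
  intro h
  have h1 := congrArg Subtype.val h
  simp only [point, infty, Projectivization.mk_eq_mk_iff'] at h1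
  obtain ⟨c, hc⟩ := h1
  simpa [vec] using congrFun hc 3

theorem cases_point (p : Cfsg.suzukiOvoid F m) : p = infty m ∨ ∃ x y, p = point m x y := by
  obtain ⟨p, v, hv, rfl, hv' | ⟨x, y, hv'⟩⟩ := p
  · subst hv'; exact Or.inl rfl
  · subst hv'; exact Or.inr ⟨x, y, rfl⟩

/-- The ovoid is the affine points and one more. -/
noncomputable def pointEquiv (m : ℕ) : Option (F × F) ≃ Cfsg.suzukiOvoid F m :=
  Equiv.ofBijective (fun o => o.elim (infty m) fun p => point m p.1 p.2) ⟨by
    rintro (_ | ⟨x, y⟩) (_ | ⟨x', y'⟩) h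
    · rfl
    · exact absurd h.symm (point_ne_infty x' y')
    · exact absurd h (point_ne_infty x y)
    · obtain ⟨rfl, rfl⟩ := point_injective h; rfl, fun p => by
    rcases cases_point p with rfl | ⟨x, y, rfl⟩
    · exact ⟨none, rfl⟩
    · exact ⟨some (x, y), rfl⟩⟩

theorem card_ovoid [Fintype F] (m : ℕ) :
    Nat.card (Cfsg.suzukiOvoid F m) = Fintype.card F ^ 2 + 1 := by
  rw [← Nat.card_congr (pointEquiv m), Finite.card_option, Nat.card_prod, Nat.card_eq_fintype_card, sq]

variable [Fintype F] [CharP F 2] (hF : Fintype.card F = 2 ^ (2 * m + 1))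

/-- Translations. -/
def transMat (m : ℕ) (a b : F) : Matrix (Fin 4) (Fin 4) F :=
  !![1, a, b + a * a ^ 2 ^ (m + 1), ovf m a b; 0, 1, a ^ 2 ^ (m + 1), b; 0, 0, 1, a; 0, 0, 0, 1]

theorem det_transMat (a b : F) : (transMat m a b).det = 1 := by
  rw [Matrix.det_of_upperTriangular]
  · simp [Fin.prod_univ_four, transMat]
  · intro i j hij
    fin_cases i <;> fin_cases j <;> simp_all [transMat]

/-- The translation as an element of `SL₄`. -/
def transSL (m : ℕ) (a b : F) : SpecialLinearGroup (Fin 4) F := ⟨transMat m a b, det_transMat a b⟩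

/-- The torus. -/
def torusMat (m : ℕ) (s : Fˣ) : Matrix (Fin 4) (Fin 4) F :=
  Matrix.diagonal ![(s : F) ^ 2 ^ (m + 1) * s, s, (s : F)⁻¹, ((s : F) ^ 2 ^ (m + 1) * s)⁻¹]

theorem det_torusMat (s : Fˣ) : (torusMat m s).det = 1 := by
  rw [torusMat, Matrix.det_diagonal, Fin.prod_univ_four]
  have := s.ne_zero
  simp only [Matrix.cons_val_zero, Matrix.cons_val_one, Matrix.cons_val]
  field_simp

/-- The torus as elements of `SL₄`. -/
def torusSL (m : ℕ) (s : Fˣ) : SpecialLinearGroup (Fin 4) F := ⟨torusMat m s, det_torusMat s⟩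

/-- The antidiagonal. -/
def swapMat : Matrix (Fin 4) (Fin 4) F := !![0, 0, 0, 1; 0, 0, 1, 0; 0, 1, 0, 0; 1, 0, 0, 0]

theorem swapMat_mul_self : (swapMat : Matrix (Fin 4) (Fin 4) F) * swapMat = 1 := by
  ext i j
  fin_cases i <;> fin_cases j <;> simp [swapMat, Matrix.mul_apply, Fin.sum_univ_four]

theorem det_swapMat : (swapMat : Matrix (Fin 4) (Fin 4) F).det = 1 := by
  have h := congrArg Matrix.det (swapMat_mul_self (F := F))
  rw [Matrix.det_mul, Matrix.det_one] at h
  rcases mul_self_eq_one_iff.1 h with h' | h'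
  · exact h'
  · rw [h', CharTwo.neg_eq]

/-- The antidiagonal as an element of `SL₄`. -/
def swapSL : SpecialLinearGroup (Fin 4) F := ⟨swapMat, det_swapMat⟩

omit [Fintype F] [CharP F 2] in
theorem smul_mk_eq {g : SpecialLinearGroup (Fin 4) F} {v w : Fin 4 → F} (hv : v ≠ 0) (hw : w ≠ 0)
    {c : F} (h : (g : Matrix (Fin 4) (Fin 4) F) *ᵥ v = c • w) :
    g • Projectivization.mk F v hv = Projectivization.mk F w hw := by
  rw [Projectivization.smul_mk, Projectivization.mk_eq_mk_iff']
  exact ⟨c, h.symm⟩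

include hF

theorem trans_mulVec_vec (a b x y : F) :
    transMat m a b *ᵥ vec m x y = vec m (x + a) (y + a ^ 2 ^ (m + 1) * x + b) := by
  have h2 : (2 : F) = 0 := CharTwo.two_eq_zero
  funext i
  fin_cases i <;>
    simp [transMat, vec, Matrix.mulVec, dotProduct, Fin.sum_univ_four]
  · simp only [ovf_eq, ← theta_def, map_add, map_mul, theta_theta hF]
    linear_combination
      (-theta F m a * x ^ 2 - theta F m x * a * x - a ^ 2 * theta F m x - theta F m a * a * x) * h2
  all_goals ring

omit hF in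
theorem trans_mulVec_inf (a b : F) :
    transMat m a b *ᵥ ![1, 0, 0, 0] = ![1, 0, 0, 0] := by
  funext i
  fin_cases i <;> simp [transMat, Matrix.mulVec, dotProduct, Fin.sum_univ_four]

theorem torus_mulVec_vec (s : Fˣ) (x y : F) :
    torusMat m s *ᵥ vec m x y = ((s : F) ^ 2 ^ (m + 1) * s)⁻¹ •
      vec m ((s : F) ^ 2 ^ (m + 1) * x) ((s : F) ^ 2 ^ (m + 1) * (s : F) ^ 2 * y) := by
  have hs := s.ne_zero
  have hs' : theta F m (s : F) ≠ 0 := (map_ne_zero _).2 hs
  rw [torusMat]
  funext i
  rw [Matrix.mulVec_diagonal]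
  fin_cases i <;> simp [vec]
  · simp only [ovf_eq, ← theta_def, map_mul, map_pow, theta_theta hF]
    field_simp
  all_goals simp only [← theta_def]; field_simp

omit hF in
theorem torus_mulVec_inf (s : Fˣ) :
    torusMat m s *ᵥ ![1, 0, 0, 0] = ((s : F) ^ 2 ^ (m + 1) * s) • (![1, 0, 0, 0] : Fin 4 → F) := by
  rw [torusMat]
  funext i
  rw [Matrix.mulVec_diagonal]
  fin_cases i <;> simp

omit hF in
theorem swap_mulVec (v : Fin 4 → F) : swapMat *ᵥ v = ![v 3, v 2, v 1, v 0] := by
  funext i
  fin_cases i <;> simp [swapMat, Matrix.mulVec, dotProduct, Fin.sum_univ_four]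

theorem swap_mulVec_vec {x y : F} (h : ovf m x y ≠ 0) :
    swapMat *ᵥ vec m x y = ovf m x y • vec m (y / ovf m x y) (x / ovf m x y) := by
  rw [swap_mulVec]
  funext i
  fin_cases i <;> simp [vec, ovf_inv hF h, mul_div_cancel₀ _ h, mul_inv_cancel₀ h]

theorem transSL_smul_point (a b x y : F) :
    transSL m a b • (point (F := F) m x y).1 =
      point m (x + a) (y + a ^ 2 ^ (m + 1) * x + b) :=
  smul_mk_eq _ _ (c := 1) (by rw [one_smul]; exact trans_mulVec_vec hF a b x y)

omit hF in
theorem transSL_smul_infty (a b : F) :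
    transSL m a b • (infty (F := F) m).1 = (infty (F := F) m).1 :=
  smul_mk_eq _ _ (c := 1) (by rw [one_smul]; exact trans_mulVec_inf a b)

theorem torusSL_smul_point (s : Fˣ) (x y : F) :
    torusSL m s • (point (F := F) m x y).1 =
      point m ((s : F) ^ 2 ^ (m + 1) * x) ((s : F) ^ 2 ^ (m + 1) * (s : F) ^ 2 * y) :=
  smul_mk_eq _ _ (torus_mulVec_vec hF s x y)

omit hF in
theorem torusSL_smul_infty (s : Fˣ) :
    torusSL m s • (infty (F := F) m).1 = (infty (F := F) m).1 :=
  smul_mk_eq _ _ (torus_mulVec_inf s)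

omit hF in
theorem ovf_zero (m : ℕ) : ovf m (0 : F) 0 = 0 := by
  simp [ovf, zero_pow]

omit hF in
theorem swapSL_smul_infty :
    (swapSL : SpecialLinearGroup (Fin 4) F) • (infty (F := F) m).1 = (point (F := F) m 0 0).1 :=
  smul_mk_eq _ _ (c := 1) (by
    rw [one_smul]; show (swapMat : Matrix (Fin 4) (Fin 4) F) *ᵥ _ = _
    rw [swap_mulVec]; simp [vec, ovf_zero])

omit hF in
theorem swapSL_smul_zero :
    (swapSL : SpecialLinearGroup (Fin 4) F) • (point (F := F) m 0 0).1 = (infty (F := F) m).1 :=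
  smul_mk_eq _ _ (c := 1) (by
    rw [one_smul]; show (swapMat : Matrix (Fin 4) (Fin 4) F) *ᵥ _ = _
    rw [swap_mulVec]; simp [vec, ovf_zero])

theorem swapSL_smul_point {x y : F} (h : ovf m x y ≠ 0) :
    (swapSL : SpecialLinearGroup (Fin 4) F) • (point (F := F) m x y).1 =
      point m (y / ovf m x y) (x / ovf m x y) :=
  smul_mk_eq _ _ (swap_mulVec_vec hF h)

omit hF in
theorem mem_Sz_of_maps {g : SpecialLinearGroup (Fin 4) F}
    (h : ∀ p ∈ Cfsg.suzukiOvoid F m, g • p ∈ Cfsg.suzukiOvoid F m) : g ∈ Cfsg.Sz F m := by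
  rw [Cfsg.Sz, MulAction.mem_stabilizer_set_iff_smul_set_subset (Set.toFinite _)]
  rintro _ ⟨p, hp, rfl⟩
  exact h p hp

theorem transSL_mem (a b : F) : transSL m a b ∈ Cfsg.Sz F m := by
  refine mem_Sz_of_maps fun p hp => ?_
  rcases cases_point (⟨p, hp⟩ : Cfsg.suzukiOvoid F m) with h | ⟨x, y, h⟩ <;>
    obtain rfl : p = _ := congrArg Subtype.val h
  · rw [transSL_smul_infty]; exact (infty m).2
  · rw [transSL_smul_point hF]; exact (point m _ _).2

theorem torusSL_mem (s : Fˣ) : torusSL m s ∈ Cfsg.Sz F m := by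
  refine mem_Sz_of_maps fun p hp => ?_
  rcases cases_point (⟨p, hp⟩ : Cfsg.suzukiOvoid F m) with h | ⟨x, y, h⟩ <;>
    obtain rfl : p = _ := congrArg Subtype.val h
  · rw [torusSL_smul_infty]; exact (infty m).2
  · rw [torusSL_smul_point hF]; exact (point m _ _).2

theorem swapSL_mem : (swapSL : SpecialLinearGroup (Fin 4) F) ∈ Cfsg.Sz F m := by
  refine mem_Sz_of_maps fun p hp => ?_
  rcases cases_point (⟨p, hp⟩ : Cfsg.suzukiOvoid F m) with h | ⟨x, y, h⟩ <;>
    obtain rfl : p = _ := congrArg Subtype.val h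
  · rw [swapSL_smul_infty]; exact (point m 0 0).2
  · by_cases h0 : ovf m x y = 0
    · obtain ⟨rfl, rfl⟩ := ovf_eq_zero hF h0
      rw [swapSL_smul_zero]; exact (infty m).2
    · rw [swapSL_smul_point hF h0]; exact (point m _ _).2

omit hF in
theorem transSL_zero : transSL m (0 : F) 0 = 1 := by
  ext i j
  fin_cases i <;> fin_cases j <;> simp [transSL, transMat, ovf_zero]

theorem transSL_mul (a b c d : F) :
    transSL m a b * transSL m c d = transSL m (a + c) (b + d + a ^ 2 ^ (m + 1) * c) := by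
  have h2 : (2 : F) = 0 := CharTwo.two_eq_zero
  apply Subtype.ext
  show transMat m a b * transMat m c d = transMat m (a + c) _
  have hl : ∀ i, (transMat m a b * transMat m c d) i 3 =
      transMat m (a + c) (b + d + a ^ 2 ^ (m + 1) * c) i 3 := by
    intro i
    have hv := congrFun (trans_mulVec_vec hF a b c d) i
    have e : transMat m c d *ᵥ Pi.single 3 1 = vec m c d := by
      funext j; fin_cases j <;> simp [transMat, vec]
    rw [← e, Matrix.mulVec_mulVec] at hv
    simp only [Matrix.mulVec_single, MulOpposite.op_one, one_smul, Matrix.col_apply] at hv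
    rw [hv]
    fin_cases i <;> simp [transMat, vec, add_comm, add_left_comm, add_assoc]
  ext i j
  fin_cases j
  case «3» => exact hl i
  all_goals fin_cases i <;> simp [transMat, Matrix.mul_apply, Fin.sum_univ_four, ← theta_def, map_add]
  · ring
  · linear_combination (-(theta F m a * c)) * h2
  · ring

theorem transSL_inv (a b : F) :
    (transSL m a b)⁻¹ = transSL m a (b + a ^ 2 ^ (m + 1) * a) := by
  refine inv_eq_of_mul_eq_one_right ?_
  have h2 : (2 : F) = 0 := CharTwo.two_eq_zero
  rw [transSL_mul hF, ← transSL_zero (F := F) (m := m)]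
  congr 1
  · linear_combination a * h2
  · linear_combination (b + a ^ 2 ^ (m + 1) * a) * h2

omit hF in
theorem torusSL_mul (s t : Fˣ) : torusSL m (s * t) = torusSL m s * torusSL m t := by
  apply Subtype.ext
  show torusMat m (s * t) = torusMat m s * torusMat m t
  rw [torusMat, torusMat, torusMat, Matrix.diagonal_mul_diagonal]
  congr 1
  funext i
  fin_cases i <;> simp [mul_pow] <;> ring

omit hF in
theorem torusSL_injective : Function.Injective (torusSL (F := F) m) := by
  intro s t h
  have h1 := congrFun (congrFun (congrArg Subtype.val h) 1) 1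
  exact Units.ext (by simpa [torusSL, torusMat] using h1)

omit hF in
theorem swapSL_mul_self : (swapSL : SpecialLinearGroup (Fin 4) F) * swapSL = 1 :=
  Subtype.ext swapMat_mul_self

end Cfsg.Agent.Suzuki
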