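import Mathlib
import Cfsg.Agent.Lib.Suzuki.LieEquiv
import Cfsg.Agent.Lib.Characters.Basic

/-!
The minimal degree of a nontrivial complex representation of the Suzuki group.
-/

set_option autoImplicit false
set_option linter.unusedSectionVars false

namespace Cfsg.Agent.Suzuki

open Finset Module

section Dedekind

/-- If a combination of vectors with distinct characters as coefficients vanishes identically,
then every vector is zero. -/
theorem eq_zero_of_char_combination {A V ι : Type*} [Monoid A] [AddCommGroup V] [Module ℂ V]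
    [Fintype ι] (χ : ι → (A →* ℂ)) (hχ : Function.Injective χ) (w : ι → V)
    (h : ∀ a : A, ∑ i, χ i a • w i = 0) (i : ι) : w i = 0 := by
  rw [← Module.forall_dual_apply_eq_zero_iff ℂ]
  intro φ
  have hli := (linearIndependent_monoidHom A ℂ).comp χ hχ
  refine Fintype.linearIndependent_iff.1 hli (fun j => φ (w j)) ?_ i
  funext a
  have h1 := congrArg φ (h a)
  simp only [map_sum, map_smul, smul_eq_mul, map_zero] at h1
  simp only [Finset.sum_apply, Pi.smul_apply, Function.comp_apply, smul_eq_mul, Pi.zero_apply]
  simpa only [mul_comm] using h1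

/-- Operators with distinct conjugation characters are linearly independent. -/
theorem card_le_sq_finrank {A V ι : Type*} [Monoid A] [AddCommGroup V] [Module ℂ V]
    [FiniteDimensional ℂ V] [Nontrivial V] [Fintype ι] (χ : ι → (A →* ℂ))
    (hχ : Function.Injective χ) (S : A → (V →ₗ[ℂ] V)) (T : ι → (V →ₗ[ℂ] V))
    (hS : ∀ a, Function.Surjective (S a)) (hT : ∀ i, Function.Injective (T i))
    (h : ∀ a i v, S a (T i v) = χ i a • T i (S a v)) :
    Fintype.card ι ≤ finrank ℂ V * finrank ℂ V := by
  have hli : LinearIndependent ℂ T := by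
    refine Fintype.linearIndependent_iff.2 fun g hg i => ?_
    have h0 : g i • T i = 0 := by
      refine eq_zero_of_char_combination χ hχ (fun j => g j • T j) (fun a => ?_) i
      apply LinearMap.ext
      intro w
      obtain ⟨v, rfl⟩ := hS a w
      have h1 := congrArg (fun L : V →ₗ[ℂ] V => S a (L v)) hg
      simp only [LinearMap.sum_apply, LinearMap.smul_apply, map_sum, map_smul, h,
        LinearMap.zero_apply, map_zero] at h1
      simp only [LinearMap.sum_apply, LinearMap.smul_apply, LinearMap.zero_apply]
      refine Eq.trans (Finset.sum_congr rfl fun j _ => smul_comm _ _ _) h1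
    rcases smul_eq_zero.1 h0 with h2 | h2
    · exact h2
    · exfalso
      obtain ⟨w, hw⟩ := exists_ne (0 : V)
      exact hw (hT i (by rw [h2]; rfl))
  have h1 := hli.fintype_card_le_finrank
  rwa [finrank_linearMap] at h1

end Dedekind

variable {F : Type*} [Field F] [Fintype F] [CharP F 2] {m : ℕ}
variable (hm : 1 ≤ m) (hF : Fintype.card F = 2 ^ (2 * m + 1))

include hF

theorem addChar_sq (lam : AddChar F ℂ) (x : F) : lam x * lam x = 1 := by
  rw [← AddChar.map_add_eq_mul, CharTwo.add_self_eq_zero, AddChar.map_zero_eq_one]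

theorem addChar_cases (lam : AddChar F ℂ) (x : F) : lam x = 1 ∨ lam x = -1 :=
  mul_self_eq_one_iff.1 (addChar_sq hF lam x)

theorem mulShift_injective' {lam : AddChar F ℂ} (hlam : lam ≠ 1) :
    Function.Injective fun c : F => AddChar.mulShift lam c := by
  intro c d h
  by_contra hcd
  refine hlam (DFunLike.ext _ _ fun x => ?_)
  have h1 := DFunLike.congr_fun h (x / (c + d))
  simp only [AddChar.mulShift_apply] at h1
  have hne : c + d ≠ 0 := fun e => hcd (CharTwo.add_eq_zero.1 e)
  have h2 : lam x = lam (c * (x / (c + d))) * lam (d * (x / (c + d))) := by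
    rw [← AddChar.map_add_eq_mul, ← add_mul, mul_div_cancel₀ x hne]
  rw [h2, h1, addChar_sq hF, AddChar.one_apply]

/-- The characters of `F` attached to the commutator pairing. -/
noncomputable def pairChar (lam : AddChar F ℂ) (a : F) : Multiplicative F →* ℂ where
  toFun c := lam (theta F m a * c.toAdd + theta F m c.toAdd * a)
  map_one' := by simp
  map_mul' c d := by
    rw [← AddChar.map_add_eq_mul]
    congr 1
    simp only [toAdd_mul, map_add]
    ring

theorem pairChar_add (lam : AddChar F ℂ) (a b c : F) :
    pairChar (m := m) lam (a + b) (Multiplicative.ofAdd c) =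
      pairChar (m := m) lam a (Multiplicative.ofAdd c) *
        pairChar (m := m) lam b (Multiplicative.ofAdd c) := by
  show lam _ = lam _ * lam _
  rw [← AddChar.map_add_eq_mul]
  congr 1
  simp only [toAdd_ofAdd, map_add]
  ring

omit hF in
theorem card_ker_le {A B : Type*} [AddCommGroup A] [Fintype A] [AddCommGroup B] (L : A →+ B)
    (z : A) (h : ∀ x, L x = 0 → x = 0 ∨ x = z) :
    Fintype.card A ≤ 2 * Nat.card L.range := by
  have h1 := L.ker.index_mul_card
  rw [AddSubgroup.index_ker, Nat.card_eq_fintype_card (α := A)] at h1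
  classical
  have h2 : Nat.card L.ker ≤ 2 := by
    rw [Nat.card_eq_fintype_card, ← Fintype.card_bool]
    refine Fintype.card_le_of_injective (fun x => decide ((x : A) = 0)) ?_
    intro x y hxy
    simp only [decide_eq_decide] at hxy
    refine Subtype.ext ?_
    rcases h x x.2 with hx | hx
    · exact hx.trans (hxy.1 hx).symm
    · rcases h y y.2 with hy | hy
      · exact (hxy.2 hy).trans hy.symm
      · exact hx.trans hy.symm
  rw [← h1, mul_comm 2]
  exact Nat.mul_le_mul_left _ h2

theorem two_mul_card_image (lam : AddChar F ℂ) (hlam : lam ≠ 1) :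
    2 ^ (2 * m + 1) ≤ 2 * Nat.card (Set.range (pairChar (m := m) lam)) := by
  classical
  rw [← hF]
  -- the characters vanishing on the image of `t ↦ θ t + t`
  let T : F →+ F := (theta F m).toAddMonoidHom + AddMonoidHom.id F
  have hT : ∀ x, T x = theta F m x + x := fun x => rfl
  have hker : ∀ x, T x = 0 → x = 0 ∨ x = 1 := fun x hx =>
    eq_zero_or_one_of_theta hF (CharTwo.add_eq_zero.1 (hT x ▸ hx))
  have hrange : Fintype.card F ≤ 2 * Nat.card T.range := card_ker_le T 1 hker
  -- the radical of the pairing has at most two elements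
  have hrad : ∀ a b : F, a ≠ 0 → b ≠ 0 → (∀ c, lam (theta F m a * c + theta F m c * a) = 1) →
      (∀ c, lam (theta F m b * c + theta F m c * b) = 1) → a = b := by
    intro a b ha hb hRa hRb
    have key : ∀ d : F, d ≠ 0 → (∀ c, lam (theta F m d * c + theta F m c * d) = 1) →
        ∀ x ∈ T.range, lam (theta F m d * d * x) = 1 := by
      rintro d hd hRd x ⟨t, rfl⟩
      rw [← hRd (t * d)]
      congr 1
      rw [hT, map_mul]
      ring
    have hEne : ∀ d : F, d ≠ 0 → theta F m d * d ≠ 0 := fun d hd =>
      mul_ne_zero ((map_ne_zero _).2 hd) hd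
    -- both shifts are the unique nontrivial character vanishing on the range
    have huniq : ∀ μ ν : AddChar F ℂ, μ ≠ 1 → ν ≠ 1 → (∀ x ∈ T.range, μ x = 1) →
        (∀ x ∈ T.range, ν x = 1) → μ = ν := by
      intro μ ν hμ hν hμT hνT
      refine DFunLike.ext _ _ fun x => ?_
      by_cases hx : x ∈ T.range
      · rw [hμT x hx, hνT x hx]
      have hout : ∀ η : AddChar F ℂ, η ≠ 1 → (∀ y ∈ T.range, η y = 1) → η x = -1 := by
        intro η hη hηT
        rcases addChar_cases hF η x with h1 | h1
        · exfalso
          refine hη (DFunLike.ext _ _ fun y => ?_)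
          rw [AddChar.one_apply]
          by_cases hy : y ∈ T.range
          · exact hηT y hy
          -- `y - x` lies in the range, which has index two
          have hidx : T.range.index ≤ 2 := by
            have h3 := T.range.index_mul_card
            rw [Nat.card_eq_fintype_card (α := F)] at h3
            have hpos : 0 < Nat.card T.range := Nat.card_pos
            nlinarith
          have hmem : y + x ∈ T.range := by
            have h2 : T.range.index = 2 := by
              have h1 : T.range.index ≠ 1 := fun e => hx (by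
                rw [AddSubgroup.index_eq_one.1 e]; exact AddSubgroup.mem_top x)
              have h0 : T.range.index ≠ 0 := AddSubgroup.index_ne_zero_of_finite
              omega
            rw [AddSubgroup.add_mem_iff_of_index_two h2]
            exact iff_of_false hy hx
          have h4 := hηT _ hmem
          rwa [AddChar.map_add_eq_mul, h1, mul_one] at h4
        · exact h1
      rw [hout μ hμ hμT, hout ν hν hνT]
    have hne : ∀ d : F, d ≠ 0 → AddChar.mulShift lam (theta F m d * d) ≠ 1 := fun d hd h =>
      hEne d hd (mulShift_injective' hF hlam (h.trans (AddChar.mulShift_zero lam).symm))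
    have h5 := mulShift_injective' hF hlam (huniq _ _ (hne a ha) (hne b hb)
      (fun x hx => key a ha hRa x hx) (fun x hx => key b hb hRb x hx))
    have h6 : theta F m (a / b) * (a / b) = 1 := by
      rw [map_div₀, div_mul_div_comm]
      exact (div_eq_one_iff_eq (hEne b hb)).2 h5
    exact (div_eq_one_iff_eq hb).1 (eq_one_of_theta_mul hF h6)
  -- hence each character comes from at most two parameters
  have hfib : ∀ χ : Set.range (pairChar (m := m) lam),
      (univ.filter fun a => pairChar (m := m) lam a = χ.1).card ≤ 2 := by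
    intro χ
    obtain ⟨a₀, ha₀⟩ := χ.2
    by_cases hex : ∃ r : F, r ≠ 0 ∧ ∀ c, lam (theta F m r * c + theta F m c * r) = 1
    · obtain ⟨r, hr0, hr⟩ := hex
      refine (card_le_card (t := {a₀, a₀ + r}) fun a ha => ?_).trans card_le_two
      rw [mem_filter] at ha
      have hrad0 : ∀ c, lam (theta F m (a + a₀) * c + theta F m c * (a + a₀)) = 1 := by
        intro c
        show pairChar (m := m) lam (a + a₀) (Multiplicative.ofAdd c) = 1
        rw [pairChar_add hF, ha.2, ← ha₀]
        exact addChar_sq hF lam _
      rw [mem_insert, mem_singleton]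
      by_cases h0 : a + a₀ = 0
      · exact Or.inl (CharTwo.add_eq_zero.1 h0)
      · right
        rw [← hrad (a + a₀) r h0 hr0 hrad0 hr, add_comm a, ← add_assoc, CharTwo.add_self_eq_zero,
          zero_add]
    · refine (card_le_card (t := {a₀}) fun a ha => ?_).trans (by simp)
      rw [mem_filter] at ha
      rw [mem_singleton]
      by_contra h0
      refine hex ⟨a + a₀, fun e => h0 (CharTwo.add_eq_zero.1 e), fun c => ?_⟩
      show pairChar (m := m) lam (a + a₀) (Multiplicative.ofAdd c) = 1
      rw [pairChar_add hF, ha.2, ← ha₀]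
      exact addChar_sq hF lam _
  haveI : Fintype (Set.range (pairChar (m := m) lam)) := Fintype.ofFinite _
  rw [Nat.card_eq_fintype_card, mul_comm]
  have h7 : Fintype.card F = ∑ χ : Set.range (pairChar (m := m) lam),
      (univ.filter fun a => pairChar (m := m) lam a = χ.1).card := by
    rw [← card_univ, card_eq_sum_card_fiberwise
      (f := fun a => (⟨_, ⟨a, rfl⟩⟩ : Set.range (pairChar (m := m) lam))) (t := univ)
      (fun a _ => mem_univ _)]
    exact sum_congr rfl fun χ _ => congrArg card (filter_congr fun a _ => by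
      rw [Subtype.ext_iff])
  rw [h7]
  exact (sum_le_sum fun χ _ => hfib χ).trans (by simp)

variable {k : ℕ} (ρ : Representation ℂ (Cfsg.Sz F m) (Fin k → ℂ))

/-- The eigenspace of the centre of the Sylow `2`-subgroup. -/
noncomputable def centralWeight (lam : AddChar F ℂ) : Submodule ℂ (Fin k → ℂ) where
  carrier := {v | ∀ b : F, ρ (tr hF 0 b) v = lam b • v}
  add_mem' := fun {v w} hv hw b => by rw [map_add, hv b, hw b, smul_add]
  zero_mem' := fun b => by simp
  smul_mem' := fun c v hv b => by rw [map_smul, hv b, smul_comm]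

theorem pow_le_finrank_weight {lam : AddChar F ℂ} (hlam : lam ≠ 1)
    (hW : centralWeight hF ρ lam ≠ ⊥) :
    2 ^ m ≤ Module.finrank ℂ (centralWeight hF ρ lam) := by
  classical
  set W := centralWeight hF ρ lam with hWdef
  have hstab : ∀ a : F, ∀ v ∈ W, ρ (tr hF a 0) v ∈ W := by
    intro a v hv b
    rw [← Module.End.mul_apply, ← map_mul,
      show tr hF 0 b * tr hF a 0 = tr hF a 0 * tr hF 0 b by
        rw [tr_mul, tr_mul]; congr 1 <;> simp [add_comm],
      map_mul, Module.End.mul_apply, hv b, map_smul]
  let T : F → Module.End ℂ W := fun a => (ρ (tr hF a 0)).restrict (hstab a)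
  have hcomm : ∀ a c : F, T c * T a =
      (pairChar (m := m) lam a (Multiplicative.ofAdd c)) • (T a * T c) := by
    intro a c
    apply LinearMap.ext
    rintro ⟨v, hv⟩
    apply Subtype.ext
    show ρ (tr hF c 0) (ρ (tr hF a 0) v) = lam (theta F m a * c + theta F m c * a) •
      ρ (tr hF a 0) (ρ (tr hF c 0) v)
    rw [← hstab a _ (hstab c v hv) (theta F m a * c + theta F m c * a)]
    simp only [← Module.End.mul_apply, ← map_mul]
    congr 2
    have h := comm_eq hF c (0 : F) a 0
    rw [mul_inv_eq_iff_eq_mul, mul_inv_eq_iff_eq_mul, mul_assoc] at h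
    have h' := congrArg Subtype.val h
    simp only [Subgroup.coe_mul] at h'
    show tr hF c 0 * tr hF a 0 = _
    refine h'.trans ?_
    rw [theta_def, theta_def]
    simp only [ut, add_comm]
  have hinv : ∀ a, Function.Injective (T a) := by
    rintro a ⟨v, hv⟩ ⟨w, hw⟩ h
    have h1 : ρ (tr hF a 0) v = ρ (tr hF a 0) w := congrArg Subtype.val h
    have h2 := congrArg (ρ (tr hF a 0)⁻¹) h1
    simp only [← Module.End.mul_apply, ← map_mul, inv_mul_cancel, map_one,
      Module.End.one_apply] at h2
    exact Subtype.ext h2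
  haveI : Nontrivial W := Submodule.nontrivial_iff_ne_bot.2 hW
  -- independent operators indexed by the characters
  let R := Set.range (pairChar (m := m) lam)
  haveI : Fintype R := Fintype.ofFinite _
  let pick : R → F := fun χ => χ.2.choose
  have hpick : ∀ χ : R, pairChar (m := m) lam (pick χ) = χ.1 := fun χ => χ.2.choose_spec
  have h1 := card_le_sq_finrank (V := W) (fun χ : R => χ.1) Subtype.val_injective
    (fun c : Multiplicative F => T c.toAdd) (fun χ : R => T (pick χ))
    (fun c => LinearMap.injective_iff_surjective.1 (hinv c.toAdd)) (fun χ => hinv (pick χ))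
    (fun c χ w => by
      rw [← hpick χ]
      exact LinearMap.congr_fun (hcomm (pick χ) c.toAdd) w)
  have h2 := two_mul_card_image (m := m) hF lam hlam
  rw [Nat.card_eq_fintype_card (α := R), pow_succ, mul_comm _ 2] at h2
  have h3 : 2 ^ (2 * m) ≤ Module.finrank ℂ W * Module.finrank ℂ W := by omega
  rw [two_mul, pow_add] at h3
  exact Nat.mul_self_le_mul_self_iff.1 h3

theorem exists_weight (hρ : Function.Injective ρ) :
    ∃ lam : AddChar F ℂ, lam ≠ 1 ∧ centralWeight hF ρ lam ≠ ⊥ := by
  classical
  by_contra hc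
  push Not at hc
  let P : AddChar F ℂ → (Fin k → ℂ) → (Fin k → ℂ) := fun lam v =>
    ∑ b : F, lam b • ρ (tr hF 0 b) v
  have hz : ∀ b c : F, (tr hF 0 b * tr hF 0 c : Cfsg.Sz F m) = tr hF 0 (b + c) := fun b c => by
    rw [tr_mul]; congr 1 <;> simp [add_comm]
  have hmem : ∀ lam v, P lam v ∈ centralWeight hF ρ lam := by
    intro lam v c
    show ρ (tr hF 0 c) (∑ b : F, lam b • ρ (tr hF 0 b) v) = lam c • ∑ b : F, lam b • ρ (tr hF 0 b) v
    rw [map_sum, smul_sum]
    refine Fintype.sum_equiv (Equiv.addLeft c) _ _ fun b => ?_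
    rw [map_smul, ← Module.End.mul_apply, ← map_mul, hz, Equiv.coe_addLeft, smul_smul,
      AddChar.map_add_eq_mul, ← mul_assoc, addChar_sq hF, one_mul]
  have hone : ∀ v, (Fintype.card F : ℂ) • v = P 1 v := by
    intro v
    have h1 : ∑ lam : AddChar F ℂ, P lam v = P 1 v :=
      sum_eq_single 1 (fun lam _ hlam => (Submodule.eq_bot_iff _).1 (hc lam hlam) _ (hmem lam v))
        (by simp)
    rw [← h1, sum_comm, sum_eq_single (0 : F)]
    · rw [← sum_smul, AddChar.sum_apply_eq_ite, if_pos rfl, tr_zero, map_one, Module.End.one_apply]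
    · intro b _ hb
      rw [← sum_smul, AddChar.sum_apply_eq_ite, if_neg hb, zero_smul]
    · simp
  have hne : (Fintype.card F : ℂ) ≠ 0 := Nat.cast_ne_zero.2 Fintype.card_ne_zero
  have hfix : ρ (tr hF 0 1) = 1 := by
    apply LinearMap.ext
    intro v
    apply smul_right_injective _ hne
    show (Fintype.card F : ℂ) • ρ (tr hF 0 1) v = (Fintype.card F : ℂ) • v
    rw [← map_smul, hone, hmem 1 v 1, AddChar.one_apply, one_smul]
  rw [← map_one ρ] at hfix
  have h2 := hρ hfix
  rw [← tr_zero hF] at h2
  exact one_ne_zero (tr_injective hF h2).2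

include hm in
theorem faithful_of_irreducible [ρ.IsIrreducible] (hk : 2 ≤ k) : Function.Injective ρ := by
  haveI := isSimple (m := m) hm hF
  let φ : Cfsg.Sz F m →* (Module.End ℂ (Fin k → ℂ))ˣ := ρ.toHomUnits
  rcases φ.normal_ker.eq_bot_or_eq_top with h | h
  · rw [MonoidHom.ker_eq_bot_iff] at h
    intro g g' hg
    exact h (Units.ext hg)
  · exfalso
    have htriv : ∀ g, ρ g = 1 := fun g => by
      have : g ∈ φ.ker := h ▸ Subgroup.mem_top g
      exact congrArg Units.val (MonoidHom.mem_ker.1 this)
    obtain ⟨-, hU⟩ := (Cfsg.Agent.Characters.isIrreducible_iff ρ).1 inferInstance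
    let v : Fin k → ℂ := Pi.single ⟨0, by omega⟩ 1
    rcases hU (Submodule.span ℂ {v}) (fun g w hw => by rw [htriv]; exact hw) with h1 | h1
    · rw [Submodule.span_singleton_eq_bot] at h1
      exact one_ne_zero (by simpa [v] using congrFun h1 ⟨0, by omega⟩ : (1 : ℂ) = 0)
    · have h2 := finrank_span_le_card ({v} : Set (Fin k → ℂ)) (R := ℂ)
      rw [h1, finrank_top, Module.finrank_fintype_fun_eq_card, Fintype.card_fin] at h2
      simp at h2
      omega

include hm in
theorem min_degree [ρ.IsIrreducible] (hk : 2 ≤ k) : 2 ^ m * (2 ^ (2 * m + 1) - 1) ≤ k := by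
  classical
  obtain ⟨lam, hlam, hW⟩ := exists_weight hF ρ (faithful_of_irreducible hm hF ρ hk)
  let μ : Fˣ → AddChar F ℂ := fun s =>
    AddChar.mulShift lam ((s : F) ^ 2 ^ (m + 1) * (s : F) ^ 2)
  have hcne : ∀ s : Fˣ, (s : F) ^ 2 ^ (m + 1) * (s : F) ^ 2 ≠ 0 := fun s =>
    mul_ne_zero (pow_ne_zero _ s.ne_zero) (pow_ne_zero _ s.ne_zero)
  have hμinj : Function.Injective μ := by
    intro s t h
    have h1 := mulShift_injective' hF hlam h
    simp only [← theta_def] at h1
    apply Units.ext
    refine (div_eq_one_iff_eq t.ne_zero).1 (eq_one_of_theta_mul_sq hF (u := (s : F) / (t : F)) ?_)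
    rw [map_div₀, div_pow, div_mul_div_comm, div_eq_one_iff_eq]
    · exact h1
    · rw [theta_def]; exact hcne t
  have hμne : ∀ s, μ s ≠ 1 := fun s h =>
    hcne s (mulShift_injective' hF hlam (h.trans (AddChar.mulShift_zero lam).symm))
  have hμW : ∀ s, centralWeight hF ρ (μ s) ≠ ⊥ := by
    intro s
    obtain ⟨v, hv, hv0⟩ := (Submodule.ne_bot_iff _).1 hW
    refine (Submodule.ne_bot_iff _).2 ⟨ρ (tor hF s)⁻¹ v, ?_, ?_⟩
    · intro b
      rw [← Module.End.mul_apply, ← map_mul]
      have h1 : tr hF 0 b * (tor hF s)⁻¹ = (tor hF s)⁻¹ *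
          tr hF 0 ((s : F) ^ 2 ^ (m + 1) * (s : F) ^ 2 * b) := by
        rw [eq_inv_mul_iff_mul_eq, ← mul_assoc, conj_tr hF, mul_zero]
      rw [h1, map_mul, Module.End.mul_apply, hv, map_smul]
      rfl
    · intro h
      apply hv0
      have h2 := congrArg (ρ (tor hF s)) h
      rwa [← Module.End.mul_apply, ← map_mul, mul_inv_cancel, map_one, Module.End.one_apply,
        map_zero] at h2
  let χ : Fˣ → (Multiplicative F →* ℂ) := fun s => (μ s).toMonoidHom
  have hχ : Function.Injective χ := fun s t h => hμinj (DFunLike.ext _ _ fun x =>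
    DFunLike.congr_fun h (Multiplicative.ofAdd x))
  let sumMap : ((s : Fˣ) → centralWeight hF ρ (μ s)) →ₗ[ℂ] (Fin k → ℂ) :=
    { toFun := fun w => ∑ s, (w s : Fin k → ℂ)
      map_add' := fun w w' => by simp [sum_add_distrib]
      map_smul' := fun c w => by simp [smul_sum] }
  have hinj : Function.Injective sumMap := by
    rw [injective_iff_map_eq_zero]
    intro w hw
    funext s
    apply Subtype.ext
    refine eq_zero_of_char_combination χ hχ (fun s => (w s : Fin k → ℂ)) (fun b => ?_) s
    have h1 := congrArg (ρ (tr hF 0 b.toAdd)) (show ∑ s, (w s : Fin k → ℂ) = 0 from hw)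
    rw [map_sum, map_zero] at h1
    refine Eq.trans (sum_congr rfl fun s _ => ?_) h1
    exact ((w s).2 b.toAdd).symm
  have h2 := LinearMap.finrank_le_finrank_of_injective hinj
  rw [Module.finrank_pi_fintype, Module.finrank_fintype_fun_eq_card, Fintype.card_fin] at h2
  refine le_trans ?_ h2
  have h3 := card_nsmul_le_sum (univ : Finset Fˣ) (fun s => Module.finrank ℂ (centralWeight hF ρ (μ s)))
    (2 ^ m) (fun s _ => pow_le_finrank_weight hF ρ (hμne s) (hμW s))
  rw [card_univ, Fintype.card_units, hF, smul_eq_mul, mul_comm] at h3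
  exact h3

end Cfsg.Agent.Suzuki
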