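import Cfsg.Agent.Lib.Suzuki.Matrices

/-!
# A projectivity of the ovoid fixing two points lies in the torus
-/

set_option autoImplicit false
set_option linter.unusedSectionVars false

namespace Cfsg.Agent.Suzuki

open Matrix

variable {F : Type*} [Field F] [Fintype F] [CharP F 2] {m : ℕ}

theorem coeff_eq_zero (hm : 1 ≤ m) (hF : Fintype.card F = 2 ^ (2 * m + 1)) {A B C D : F}
    (h : ∀ y : F, A * y + B * theta F m y + C * y ^ 2 + D * (theta F m y * y ^ 2) = 0) :
    A = 0 ∧ B = 0 ∧ C = 0 ∧ D = 0 := by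
  classical
  set n := 2 ^ (m + 1) with hn
  have h4 : 4 ≤ n := le_trans (by norm_num) (Nat.pow_le_pow_right (by norm_num) (show 2 ≤ m + 1 by omega))
  have hlt : n + 2 < Fintype.card F := by
    have h1 : 2 * n ≤ Fintype.card F := by
      rw [hF, hn, ← pow_succ']
      exact Nat.pow_le_pow_right (by norm_num) (by omega)
    omega
  set P : Polynomial F := Polynomial.monomial 1 A + Polynomial.monomial n B + Polynomial.monomial 2 C +
    Polynomial.monomial (n + 2) D with hP
  have hdeg : P.natDegree ≤ n + 2 := by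
    refine Polynomial.natDegree_le_iff_coeff_eq_zero.2 fun k hk => ?_
    simp [hP, Polynomial.coeff_monomial]
    rw [if_neg (by omega), if_neg (by omega), if_neg (by omega), if_neg (by omega)]
    simp
  have hP0 : P = 0 := by
    refine Polynomial.eq_zero_of_natDegree_lt_card_of_eval_eq_zero' P Finset.univ (fun y _ => ?_)
      (by rw [Finset.card_univ]; omega)
    simp only [hP, Polynomial.eval_add, Polynomial.eval_monomial, pow_one, pow_add]
    rw [← h y, theta_def]
  have key : ∀ k, P.coeff k = 0 := fun k => by rw [hP0, Polynomial.coeff_zero]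
  refine ⟨?_, ?_, ?_, ?_⟩
  · have := key 1
    simpa [hP, Polynomial.coeff_monomial, show ¬n = 1 by omega, show ¬n + 2 = 1 by omega] using this
  · have := key n
    simpa [hP, Polynomial.coeff_monomial, show ¬(1 : ℕ) = n by omega, show ¬(2 : ℕ) = n by omega,
      show ¬n + 2 = n by omega] using this
  · have := key 2
    simpa [hP, Polynomial.coeff_monomial, show ¬n = 2 by omega, show ¬n + 2 = 2 by omega, show ¬n = 0 by omega] using this
  · have := key (n + 2)
    simpa [hP, Polynomial.coeff_monomial, show ¬(1 : ℕ) = n + 2 by omega,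
      show ¬(2 : ℕ) = n + 2 by omega, show ¬n = n + 2 by omega, show ¬n = 0 by omega] using this

theorem exists_torus (hm : 1 ≤ m) (hF : Fintype.card F = 2 ^ (2 * m + 1))
    {g : SpecialLinearGroup (Fin 4) F} (hg : g ∈ Cfsg.Sz F m)
    (hi : g • (infty (F := F) m).1 = (infty (F := F) m).1)
    (h0 : g • (point (F := F) m 0 0).1 = (point (F := F) m 0 0).1) :
    ∃ s : Fˣ, g = torusSL m s := by
  set M := (g : Matrix (Fin 4) (Fin 4) F) with hM
  have hmul : ∀ v : Fin 4 → F, g • v = M *ᵥ v := fun _ => rfl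
  simp only [infty, point, Projectivization.smul_mk, Projectivization.mk_eq_mk_iff', hmul] at hi h0
  obtain ⟨α, hα⟩ := hi
  obtain ⟨δ, hδ⟩ := h0
  have c0 : ∀ i, M i 0 = α * (![1, 0, 0, 0] : Fin 4 → F) i := fun i => by
    simpa [Matrix.mulVec, dotProduct, Fin.sum_univ_four] using (congrFun hα i).symm
  have c3 : ∀ i, M i 3 = δ * (![0, 0, 0, 1] : Fin 4 → F) i := fun i => by
    simpa [vec, ovf_zero, Matrix.mulVec, dotProduct, Fin.sum_univ_four] using (congrFun hδ i).symm
  have hdet : M.det = 1 := g.2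
  have hα0 : α ≠ 0 := by
    rintro rfl
    rw [Matrix.det_eq_zero_of_column_eq_zero 0 (fun i => by rw [c0, zero_mul])] at hdet
    exact zero_ne_one hdet
  have hδ0 : δ ≠ 0 := by
    rintro rfl
    rw [Matrix.det_eq_zero_of_column_eq_zero 3 (fun i => by rw [c3, zero_mul])] at hdet
    exact zero_ne_one hdet
  -- images of the affine points
  have himg : ∀ x y : F, ∃ c x' y' : F, c ≠ 0 ∧ M *ᵥ vec m x y = c • vec m x' y' := by
    intro x y
    have hmem : g • (point (F := F) m x y).1 ∈ Cfsg.suzukiOvoid F m := by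
      have := (MulAction.mem_stabilizer_set (s := Cfsg.suzukiOvoid F m)).1 hg (point (F := F) m x y).1
      exact this.2 (point (F := F) m x y).2
    rcases cases_point (⟨_, hmem⟩ : Cfsg.suzukiOvoid F m) with h | ⟨x', y', h⟩
    · exfalso
      have hgi : g • (infty (F := F) m).1 = (infty (F := F) m).1 := by
        simp only [infty, Projectivization.smul_mk, Projectivization.mk_eq_mk_iff']
        exact ⟨α, hα⟩
      exact point_ne_infty x y
        (Subtype.ext (smul_left_cancel g ((congrArg Subtype.val h).trans hgi.symm)))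
    · have h1 := congrArg Subtype.val h
      simp only [point, Projectivization.smul_mk, Projectivization.mk_eq_mk_iff', hmul] at h1
      obtain ⟨c, hc⟩ := h1
      refine ⟨c, x', y', ?_, hc.symm⟩
      rintro rfl
      rw [zero_smul] at hc
      have hinv : IsUnit M.det := by rw [hdet]; exact isUnit_one
      exact vec_ne_zero m x y (Matrix.mulVec_injective_iff_isUnit.2
        ((Matrix.isUnit_iff_isUnit_det M).2 hinv) (hc.symm.trans (Matrix.mulVec_zero M).symm))
  have hexp : ∀ x y : F, M *ᵥ vec m x y = ![α * ovf m x y + M 0 1 * y + M 0 2 * x,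
      M 1 1 * y + M 1 2 * x, M 2 1 * y + M 2 2 * x, δ + M 3 1 * y + M 3 2 * x] := by
    intro x y
    funext i
    fin_cases i <;>
      simp [vec, Matrix.mulVec, dotProduct, Fin.sum_univ_four, c0, c3] <;> ring
  have hne : ∀ x y : F, δ + M 3 1 * y + M 3 2 * x ≠ 0 := by
    intro x y hh
    obtain ⟨c, x', y', hc, he⟩ := himg x y
    rw [hexp] at he
    have := congrFun he 3
    simp [vec, hh] at this
    exact hc this.symm
  have h31 : M 3 1 = 0 := by
    by_contra h
    refine hne 0 (-(δ / M 3 1)) ?_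
    field_simp
    ring
  have h32 : M 3 2 = 0 := by
    by_contra h
    refine hne (-(δ / M 3 2)) 0 ?_
    field_simp
    ring
  have key : ∀ x y : F, α * ovf m x y + M 0 1 * y + M 0 2 * x =
      δ * ovf m ((M 2 1 * y + M 2 2 * x) / δ) ((M 1 1 * y + M 1 2 * x) / δ) := by
    intro x y
    obtain ⟨c, x', y', -, he⟩ := himg x y
    rw [hexp] at he
    have e3 : δ = c := by simpa [vec, h31, h32] using congrFun he 3
    have e2 : M 2 1 * y + M 2 2 * x = c * x' := by simpa [vec] using congrFun he 2
    have e1 : M 1 1 * y + M 1 2 * x = c * y' := by simpa [vec] using congrFun he 1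
    have e0 : α * ovf m x y + M 0 1 * y + M 0 2 * x = c * ovf m x' y' := by
      simpa [vec] using congrFun he 0
    rw [e0, e1, e2, ← e3, mul_div_cancel_left₀ _ hδ0, mul_div_cancel_left₀ _ hδ0]
  obtain ⟨R, hR⟩ : ∃ R, M 2 1 = δ * R := ⟨M 2 1 / δ, (mul_div_cancel₀ _ hδ0).symm⟩
  obtain ⟨R', hR'⟩ : ∃ R, M 2 2 = δ * R := ⟨M 2 2 / δ, (mul_div_cancel₀ _ hδ0).symm⟩
  obtain ⟨S, hS⟩ : ∃ R, M 1 1 = δ * R := ⟨M 1 1 / δ, (mul_div_cancel₀ _ hδ0).symm⟩
  obtain ⟨S', hS'⟩ : ∃ R, M 1 2 = δ * R := ⟨M 1 2 / δ, (mul_div_cancel₀ _ hδ0).symm⟩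
  simp only [hR, hR', hS, hS', mul_assoc, ← mul_add, mul_div_cancel_left₀ _ hδ0] at key
  simp only [ovf_eq] at key
  obtain ⟨hp, hy1, hy2, hy3⟩ := coeff_eq_zero hm hF (A := M 0 1) (B := α - δ * theta F m S)
    (C := -(δ * (R * S))) (D := -(δ * (theta F m R * R ^ 2))) (fun y => by
      have := key 0 y
      simp only [map_zero, mul_zero, zero_mul, add_zero, zero_add, map_mul] at this
      linear_combination this)
  obtain ⟨hp', hx1, hx2, hx3⟩ := coeff_eq_zero hm hF (A := M 0 2) (B := -(δ * theta F m S'))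
    (C := -(δ * (R' * S'))) (D := α - δ * (theta F m R' * R' ^ 2)) (fun x => by
      have := key x 0
      simp only [map_zero, mul_zero, zero_mul, add_zero, zero_add, map_mul] at this
      linear_combination this)
  have hR0 : R = 0 := by
    rcases mul_eq_zero.1 (neg_eq_zero.1 hy3) with h | h
    · exact absurd h hδ0
    rcases mul_eq_zero.1 h with h | h
    · exact (map_eq_zero _).1 h
    · exact pow_eq_zero_iff two_ne_zero |>.1 h
  have hS'0 : S' = 0 := by
    rcases mul_eq_zero.1 (neg_eq_zero.1 hx1) with h | h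
    · exact absurd h hδ0
    · exact (map_eq_zero _).1 h
  rw [sub_eq_zero] at hy1 hx3
  have hxy : α = δ * (R' * S) := by
    have h := key 1 1
    simp only [hR0, hS'0, hp, hp', map_one, mul_one, one_pow, zero_add, add_zero, zero_mul,
      mul_zero] at h
    linear_combination h - hy1 - hx3
  have hR'0 : R' ≠ 0 := by
    rintro rfl
    simp [hxy] at hα0
  have hSval : S = theta F m R' * R' := by
    refine mul_left_cancel₀ (mul_ne_zero hδ0 hR'0) ?_
    linear_combination hx3 - hxy
  obtain ⟨s₀, hs₀⟩ := exists_theta hF R'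
  have hs0 : s₀ ≠ 0 := by rintro rfl; exact hR'0 (by rw [← hs₀, map_zero])
  refine ⟨Units.mk0 s₀ hs0, ?_⟩
  have hMdiag : M = Matrix.diagonal ![α, δ * S, δ * R', δ] := by
    ext i j
    fin_cases j <;> fin_cases i <;> simp [c0, c3, h31, h32, hR, hR', hS, hS', hR0, hS'0, hp, hp']
  have hdet' : α * (δ * S) * (δ * R') * δ = 1 := by
    rw [hMdiag, Matrix.det_diagonal, Fin.prod_univ_four] at hdet
    simpa using hdet
  have hθR : theta F m R' = s₀ ^ 2 := by rw [← hs₀, theta_theta hF]
  have hsq : (δ * (theta F m s₀ * s₀)) ^ 2 * (δ * (theta F m s₀ * s₀)) ^ 2 = 1 := by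
    rw [← hdet', hx3, hSval, hθR, ← hs₀]
    ring
  have hδval : δ * (theta F m s₀ * s₀) = 1 := by
    have h1 : ∀ z : F, z ^ 2 = 1 → z = 1 := fun z hz => by
      rcases sq_eq_one_iff.1 hz with h | h
      · exact h
      · rw [h, CharTwo.neg_eq]
    exact h1 _ (h1 _ (by linear_combination hsq))
  apply Subtype.ext
  show M = torusMat m _
  rw [hMdiag, torusMat]
  congr 1
  have hδi : δ = (theta F m s₀ * s₀)⁻¹ := eq_inv_of_mul_eq_one_left hδval
  funext i
  fin_cases i <;> simp [← theta_def]
  · rw [hx3, hθR, ← hs₀]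
    linear_combination (theta F m s₀ * s₀) * hδval
  · rw [hSval, hθR, ← hs₀]
    linear_combination s₀ * hδval
  · rw [← hs₀]
    field_simp
    linear_combination hδval
  · rw [hδi, mul_inv]; ring

end Cfsg.Agent.Suzuki
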