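import Mathlib

/-!
# Arithmetic behind the classification of the subgroups of the Suzuki groups
-/

set_option autoImplicit false

namespace Cfsg.Agent.Suzuki

/-- One extra class of index two, large Sylow subgroup: impossible. -/
theorem no_single_class {n t a q0 : ℕ} (hn : 2 ≤ n) (ha : 7 ≤ a) (hq : q0 = (a + 1) ^ 2) :
    t * (n * (q0 - 2) + 2) ≠ n * q0 * a := by
  intro h
  obtain ⟨r, hr⟩ : ∃ r, q0 = r + 2 := ⟨q0 - 2, by
    have : 2 ≤ (a + 1) ^ 2 := by nlinarith
    omega⟩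
  subst hr
  rw [Nat.add_sub_cancel] at h
  have hr' : r + 2 = (a + 1) ^ 2 := hq
  rcases Nat.lt_or_ge t (a + 1) with ht | ht
  · have h1 : t * (n * r + 2) ≤ a * (n * r + 2) := Nat.mul_le_mul_right _ (by omega)
    nlinarith
  · have h1 : (a + 1) * (n * r + 2) ≤ t * (n * r + 2) := Nat.mul_le_mul_right _ ht
    have h2 : n * (2 * a + 1) ≤ n * r := Nat.mul_le_mul_left n (by nlinarith)
    nlinarith

/-- One extra class of index two, elementary abelian Sylow subgroup: forces divisibility by three. -/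
theorem single_class_elementary {n t a : ℕ} (hn : 2 ≤ n) (hodd : Odd n) (ha : 4 ≤ a)
    (h : t * (n * (a - 1) + 2) = n * (a + 1) * a) : n = a + 2 := by
  obtain ⟨r, rfl⟩ : ∃ r, a = r + 1 := ⟨a - 1, by omega⟩
  rw [Nat.add_sub_cancel] at h
  rcases Nat.lt_or_ge t (r + 2) with h1 | h1
  · exfalso
    have h2 : t * (n * r + 2) ≤ (r + 1) * (n * r + 2) := Nat.mul_le_mul_right _ (by omega)
    nlinarith
  rcases eq_or_lt_of_le h1 with h2 | h2
  · subst h2
    exfalso
    have : n = 2 := by nlinarith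
    subst this
    exact absurd hodd (by decide)
  rcases eq_or_lt_of_le (Nat.succ_le_of_lt h2) with h3 | h3
  · subst h3
    nlinarith
  · exfalso
    have h4 : (r + 4) * (n * r + 2) ≤ t * (n * r + 2) := Nat.mul_le_mul_right _ (by omega)
    nlinarith

/-- Two extra classes of index four: the permutation degree is `q0 + 1`. -/
theorem two_classes {n t₁ t₂ a q0 j : ℕ} (ha : 7 ≤ a) (haodd : Odd a) (hq : q0 = (a + 1) ^ 2)
    (hj : n = 1 + j * q0) (ht₁ : Odd t₁) (ht₂ : Odd t₂) (h1 : 1 < t₁) (h2 : 1 < t₂)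
    (hco : Nat.Coprime t₁ t₂) (hdvd : t₁ * t₂ ∣ n)
    (heq : (t₁ + t₂) * (n * q0 * a) = 2 * (t₁ * t₂) * (n * (q0 - 2) + 2)) : n = q0 + 1 := by
  have hq0even : Even q0 := by
    rw [hq]; exact (haodd.add_odd odd_one).pow_of_ne_zero two_ne_zero
  obtain ⟨r, hr⟩ : ∃ r, q0 = r + 2 := ⟨q0 - 2, by
    have : 2 ≤ (a + 1) ^ 2 := by nlinarith
    omega⟩
  rw [hr, Nat.add_sub_cancel] at heq
  rw [← hr] at heq
  have hn0 : 0 < n := by omega
  obtain ⟨ρ, hρ⟩ := hdvd
  have hN : 0 < t₁ * t₂ := by positivity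
  have heq1 : (t₁ + t₂) * (ρ * q0 * a) = 2 * (n * r + 2) := by
    refine Nat.eq_of_mul_eq_mul_left hN ?_
    calc t₁ * t₂ * ((t₁ + t₂) * (ρ * q0 * a)) = (t₁ + t₂) * (t₁ * t₂ * ρ * q0 * a) := by ring
      _ = 2 * (t₁ * t₂) * (n * r + 2) := by rw [← hρ, heq]
      _ = t₁ * t₂ * (2 * (n * r + 2)) := by ring
  have hρ4 : ρ ∣ 4 := by
    have h3 : ρ ∣ 2 * (n * r + 2) := heq1 ▸ ((dvd_mul_right ρ (q0 * a)).mul_left (t₁ + t₂)).trans (by
      rw [mul_assoc])
    have h4 : ρ ∣ 2 * (n * r) := ((hρ ▸ dvd_mul_left ρ _ : ρ ∣ n).mul_right r).mul_left 2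
    rw [mul_add] at h3
    exact (Nat.dvd_add_right h4).1 h3
  have hnodd : Odd n := by
    rw [hj, add_comm]
    exact ((hq0even.mul_left j)).add_one
  have hρ1 : ρ = 1 := by
    have hρodd : Odd ρ := (Nat.odd_mul.1 (hρ ▸ hnodd)).2
    obtain ⟨i, hi, e⟩ := (Nat.dvd_prime_pow (p := 2) Nat.prime_two (m := 2)).1 hρ4
    interval_cases i
    · exact e
    all_goals (rw [e] at hρodd; exact absurd hρodd (by decide))
  subst hρ1
  rw [mul_one] at hρ
  rw [one_mul] at heq1
  -- reduce modulo `a`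
  have heq2 : (t₁ + t₂) * a = 2 * (j * r) + 2 := by
    refine Nat.eq_of_mul_eq_mul_left (show 0 < q0 by omega) ?_
    rw [hj] at heq1
    calc q0 * ((t₁ + t₂) * a) = (t₁ + t₂) * (q0 * a) := by ring
      _ = 2 * ((1 + j * q0) * r + 2) := heq1
      _ = q0 * (2 * (j * r) + 2) := by rw [hr]; ring
  have hj0 : j ≠ 0 := by
    rintro rfl
    nlinarith
  obtain ⟨i, hi⟩ : a ∣ j - 1 := by
    have hz : ((t₁ + t₂ : ℤ)) * a = 2 * (j * ((a + 1) ^ 2 - 2 : ℤ)) + 2 := by
      have hr' : ((r : ℤ)) = (a + 1) ^ 2 - 2 := by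
        have : ((r + 2 : ℕ) : ℤ) = ((a + 1) ^ 2 : ℕ) := by rw [← hr, hq]
        push_cast at this
        linarith
      rw [← hr']; exact_mod_cast heq2
    have h3 : (a : ℤ) ∣ 2 * ((j : ℤ) - 1) := ⟨2 * j * (a + 2) - (t₁ + t₂), by linear_combination hz⟩
    have h4 : (a : ℤ) ∣ ((2 * (j - 1) : ℕ) : ℤ) := by
      push_cast [Nat.one_le_iff_ne_zero.2 hj0]; exact h3
    exact (Nat.coprime_two_right.2 haodd).dvd_of_dvd_mul_left (Int.natCast_dvd_natCast.1 h4)
  have hjeq : j = a * i + 1 := by omega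
  subst hjeq
  have hS : t₁ + t₂ = 2 * (a + 2) + 2 * i * r := by
    refine Nat.eq_of_mul_eq_mul_right (show 0 < a by omega) ?_
    rw [heq2]
    have hr' : r + 2 = (a + 1) ^ 2 := hr ▸ hq
    nlinarith
  suffices hi0 : i = 0 by
    subst hi0
    rw [hj]; ring
  by_contra hi0
  have hi1 : 1 ≤ i := Nat.one_le_iff_ne_zero.2 hi0
  have main : ∀ u v : ℕ, u ≤ v → Odd u → u + v = 2 * (a + 2) + 2 * i * r →
      u * v = 1 + (a * i + 1) * q0 → False := by
    intro u v huv hu hsum hprod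
    have hr' : r + 2 = (a + 1) ^ 2 := hr ▸ hq
    rcases Nat.lt_or_ge u (a + 3) with hu3 | hu3
    · rcases Nat.lt_or_ge (2 * u) (a + 1) with h5 | h5
      · -- the product is too small
        have h6 : 2 * u + 1 ≤ a := by
          obtain ⟨c, hc⟩ := haodd
          omega
        nlinarith [Nat.mul_le_mul_left u (show v ≤ 2 * (a + 2) + 2 * i * r by omega),
          Nat.mul_le_mul_right (2 * (a + 2) + 2 * i * r) h6]
      rcases eq_or_lt_of_le h5 with h6 | h6
      · -- `2 u = a + 1` is impossible as `u` is odd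
        have h7 : (a + 1) % 4 = 2 := by
          obtain ⟨c, hc⟩ := hu
          omega
        have hz : (u : ℤ) * ((2 * (a + 2) + 2 * i * r : ℕ) : ℤ) - (u : ℤ) ^ 2 =
            1 + ((a * i + 1 : ℕ) : ℤ) * ((r : ℤ) + 2) := by
          have hs : ((u + v : ℕ) : ℤ) = ((2 * (a + 2) + 2 * i * r : ℕ) : ℤ) := by rw [hsum]
          have hp : ((u * v : ℕ) : ℤ) = ((1 + (a * i + 1) * q0 : ℕ) : ℤ) := by rw [hprod]
          rw [hr] at hp
          push_cast at hs hp ⊢
          linear_combination (-(u : ℤ)) * hs + hp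
        push_cast at hz
        have hu' : ((2 * u : ℕ) : ℤ) = ((a + 1 : ℕ) : ℤ) := by rw [← h6]
        have hr'' : ((r + 2 : ℕ) : ℤ) = (((a + 1) ^ 2 : ℕ) : ℤ) := by rw [hr']
        push_cast at hu' hr''
        have e : 4 * (i : ℤ) * (r - 2 * a) = (2 * (u : ℤ) - 2 * (a + 2)) ^ 2 - 8 * a - 8 := by
          linear_combination 4 * hz + (-4 * (i : ℤ) * r) * hu' + 4 * hr''
        have e2 : (2 * (u : ℤ) - 2 * (a + 2)) = -(a + 3) := by linear_combination hu'
        rw [e2] at e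
        have hbig : (4 : ℤ) * (r - 2 * a) ≤ 4 * i * (r - 2 * a) := by
          have : (0 : ℤ) ≤ r - 2 * a := by nlinarith
          have : (1 : ℤ) ≤ i := by exact_mod_cast hi1
          nlinarith
        nlinarith
      · have hz : (i : ℤ) * (2 * (r : ℤ) * u - a * ((r : ℤ) + 2)) =
            (u : ℤ) ^ 2 - 2 * (a + 2) * u + 1 + ((r : ℤ) + 2) := by
          have hs : ((u + v : ℕ) : ℤ) = ((2 * (a + 2) + 2 * i * r : ℕ) : ℤ) := by rw [hsum]
          have hp : ((u * v : ℕ) : ℤ) = ((1 + (a * i + 1) * q0 : ℕ) : ℤ) := by rw [hprod]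
          rw [hr] at hp
          push_cast at hs hp ⊢
          linear_combination (-(u : ℤ)) * hs + hp
        have hu2 : (a : ℤ) + 3 ≤ 2 * u := by
          obtain ⟨c, hc⟩ := haodd
          have : a + 3 ≤ 2 * u := by omega
          exact_mod_cast this
        have hu4 : (u : ℤ) ≤ a + 2 := by
          have : u ≤ a + 2 := by omega
          exact_mod_cast this
        have hr'' : ((r + 2 : ℕ) : ℤ) = (((a + 1) ^ 2 : ℕ) : ℤ) := by rw [hr']
        push_cast at hr''
        have hA : (a : ℤ) * (a + 1) ≤ 2 * r * u - a * ((r : ℤ) + 2) := by nlinarith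
        have hi' : (1 : ℤ) ≤ i := by exact_mod_cast hi1
        have hB : (a : ℤ) * (a + 1) ≤ i * (2 * r * u - a * ((r : ℤ) + 2)) := by
          nlinarith
        have hC : ((u : ℤ) - (a + 2)) ^ 2 ≤ (a + 1) ^ 2 / 1 := by
          rw [Int.ediv_one]
          nlinarith
        nlinarith
    · have h5 : (a + 3) * (u + v) ≤ 2 * (u * v) := by
        calc (a + 3) * (u + v) ≤ u * (v + v) := Nat.mul_le_mul hu3 (by omega)
          _ = 2 * (u * v) := by ring
      rw [hsum, hprod] at h5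
      nlinarith [Nat.mul_le_mul_right r (show 1 ≤ i from hi1)]
  rcases le_total t₁ t₂ with h | h
  · exact main t₁ t₂ h ht₁ hS (by rw [← hρ, hj])
  · exact main t₂ t₁ h ht₂ (by rw [add_comm]; exact hS) (by rw [mul_comm, ← hρ, hj])

end Cfsg.Agent.Suzuki
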