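import Cfsg.Agent.Lib.Suzuki.SubgroupClasses
import Cfsg.Agent.Lib.Suzuki.SubgroupArith

/-!
# The subgroups of the Suzuki groups
-/

set_option autoImplicit false
set_option linter.unusedSectionVars false

namespace Cfsg.Agent.Suzuki

open Matrix MulAction

variable {F : Type*} [Field F] [Fintype F] [CharP F 2] {m : ℕ}
variable (hm : 1 ≤ m) (hF : Fintype.card F = 2 ^ (2 * m + 1))

/-- The three possibilities for a subgroup. -/
def SubgroupShape (hm : 1 ≤ m) (hF : Fintype.card F = 2 ^ (2 * m + 1))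
    (H : Subgroup (Cfsg.Sz F m)) : Prop :=
  (∃ p : Cfsg.suzukiOvoid F m, ∀ h ∈ H, h • p = p) ∨
  (∃ T : Subgroup (Cfsg.Sz F m), IsTor T ∧ H ≤ Subgroup.normalizer (T : Set (Cfsg.Sz F m))) ∨
  ∃ (K : Type) (_ : Field K) (_ : Fintype K) (_ : CharP K 2) (k : ℕ) (hk : 1 ≤ k)
    (hK : Fintype.card K = 2 ^ (2 * k + 1)) (hdiv : 2 * k + 1 ∣ 2 * m + 1) (φ : K →+* F)
    (g : Cfsg.Sz F m),
      H.map (MulAut.conj g).toMonoidHom = (subfieldHom hm hF hk hK hdiv φ).range

include hm hF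

theorem shape_of_conj {H : Subgroup (Cfsg.Sz F m)} (g : Cfsg.Sz F m)
    (h : SubgroupShape hm hF (H.map (MulAut.conj g).toMonoidHom)) : SubgroupShape hm hF H := by
  rcases h with ⟨p, hp⟩ | ⟨T, hT, hle⟩ | ⟨K, _, _, _, k, hk, hK, hdiv, φ, g', hg'⟩
  · refine Or.inl ⟨g⁻¹ • p, fun h hh => ?_⟩
    rw [eq_inv_smul_iff]
    have := hp _ ⟨h, hh, rfl⟩
    change (g * h * g⁻¹) • p = p at this
    rwa [mul_smul, mul_smul] at this
  · refine Or.inr (Or.inl ⟨T.map (MulAut.conj g⁻¹).toMonoidHom, hT.map_conj hm hF g⁻¹, fun h hh => ?_⟩)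
    rw [← Subgroup.map_equiv_normalizer_eq]
    exact ⟨g * h * g⁻¹, hle ⟨h, hh, rfl⟩, show g⁻¹ * (g * h * g⁻¹) * g⁻¹⁻¹ = h by group⟩
  · refine Or.inr (Or.inr ⟨K, inferInstance, inferInstance, inferInstance, k, hk, hK, hdiv, φ, g' * g, ?_⟩)
    rw [← hg', Subgroup.map_map, map_mul]
    rfl

/-- A subgroup without involutions normalizes a torus. -/
theorem shape_of_odd {H : Subgroup (Cfsg.Sz F m)} (hodd : ∀ y ∈ H, orderOf y ≠ 2) :
    SubgroupShape hm hF H := by
  classical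
  by_cases hbot : H = ⊥
  · exact Or.inl ⟨infty m, fun h hh => by
      rw [hbot, Subgroup.mem_bot] at hh; rw [hh, one_smul]⟩
  have htr : ∀ y ∈ H, ¬ IsTrType hF y := by
    intro y hy ht
    rcases ht.order_cases hm hF with e | e
    · exact hodd y hy e
    · refine hodd (y ^ 2) (H.pow_mem hy 2) ?_
      rw [orderOf_pow' _ two_ne_zero, e]; rfl
  have key : ∀ T, IsTor T → H ⊓ T ≠ ⊥ → (cls H T).ncard * Nat.card (H ⊓ T : Subgroup (Cfsg.Sz F m)) =
      Nat.card H * (Nat.card (H ⊓ T : Subgroup (Cfsg.Sz F m)) - 1) := by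
    intro T hT hne
    obtain ⟨j, hj, hjc, -, -, hj2⟩ := exists_index hm hF (H := H) hT
    have hj1 : j = 1 := by
      rcases hjc with e | e | e
      · exact e
      all_goals
        obtain ⟨y, hy, hyN, hyT⟩ := hj2 (by simp [e])
        exact absurd (hT.trType_of_notMem hm hF hyN hyT) (htr y hy)
    rw [← ncard_cls hm hF hT hne, hj, hj1, one_mul]
  obtain ⟨y, hy, hy1⟩ := H.bot_or_exists_ne_one.resolve_left hbot
  obtain ⟨T, hT, hne, -⟩ := exists_torus_of hm hF hy hy1 (htr y hy)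
  set t := Nat.card (H ⊓ T : Subgroup (Cfsg.Sz F m)) with ht
  have ht5 := five_le_inf hm hF hT hne
  have hbound : ∀ {T'}, IsTor T' → H ⊓ T' ≠ ⊥ → 4 * Nat.card H ≤ 5 * (cls H T').ncard := by
    intro T' hT' hne'
    have h1 := key T' hT' hne'
    obtain ⟨d, hd⟩ : ∃ d, Nat.card (H ⊓ T' : Subgroup (Cfsg.Sz F m)) = d + 5 :=
      ⟨_, (Nat.sub_add_cancel (five_le_inf hm hF hT' hne')).symm⟩
    rw [hd, show d + 5 - 1 = d + 4 by omega] at h1
    nlinarith
  have hsub : ∀ T', cls H T' ⊆ (H : Set (Cfsg.Sz F m)) \ {1} := fun T' y hy => ⟨hy.2.1, hy.1⟩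
  have hH1 : ((H : Set (Cfsg.Sz F m)) \ {1}).ncard + 1 = Nat.card H := by
    rw [← Set.ncard_singleton (1 : Cfsg.Sz F m), Set.ncard_sdiff_add_ncard_of_subset
      (Set.singleton_subset_iff.2 H.one_mem), ← Nat.card_coe_set_eq]
    rfl
  have hall : (H : Set (Cfsg.Sz F m)) \ {1} ⊆ cls H T := by
    rintro w ⟨hw, hw1⟩
    by_contra hwT
    obtain ⟨T', hT', hne', hw'⟩ := exists_torus_of hm hF hw hw1 (htr w hw)
    have hd : Disjoint (cls H T) (cls H T') := by
      rw [Set.disjoint_left]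
      exact fun v hv hv' => hwT (cls_inter hm hF hT hT' hv hv' w hw')
    have h1 := Set.ncard_le_ncard (Set.union_subset (hsub T) (hsub T'))
    rw [Set.ncard_union_eq hd] at h1
    have := hbound hT hne
    have := hbound hT' hne'
    omega
  have hc : (cls H T).ncard + 1 = Nat.card H := by
    rw [← hH1, Set.Subset.antisymm (hsub T) hall]
  have h1 := key T hT hne
  rw [← ht] at h1
  obtain ⟨d, hd⟩ : ∃ d, t = d + 1 := ⟨t - 1, by omega⟩
  rw [hd, Nat.add_sub_cancel, ← hc] at h1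
  have hle : H ≤ H ⊓ T := by
    refine le_of_eq (Subgroup.eq_of_le_of_card_ge inf_le_left ?_).symm
    rw [← ht, hd, ← hc]
    nlinarith
  exact Or.inr (Or.inl ⟨T, hT, fun h hh => Subgroup.le_normalizer (hle hh).2⟩)

omit hm in
theorem inv_tr_tor (a b : F) (s : Fˣ) :
    ∃ a' b', ((tr hF a b * tor hF s)⁻¹ : Cfsg.Sz F m) = tr hF a' b' * tor hF s⁻¹ := by
  refine ⟨((s⁻¹ : Fˣ) : F) ^ 2 ^ (m + 1) * a,
    ((s⁻¹ : Fˣ) : F) ^ 2 ^ (m + 1) * ((s⁻¹ : Fˣ) : F) ^ 2 * (b + a ^ 2 ^ (m + 1) * a), ?_⟩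
  rw [_root_.mul_inv_rev, tor_inv, tr_inv, tor_mul_tr]

omit hm in
theorem mul_tr_tor (a b c d : F) (s t : Fˣ) :
    ∃ a' b', (tr hF a b * tor hF s * (tr hF c d * tor hF t) : Cfsg.Sz F m) =
      tr hF a' b' * tor hF (s * t) := by
  refine ⟨a + (s : F) ^ 2 ^ (m + 1) * c, b + (s : F) ^ 2 ^ (m + 1) * (s : F) ^ 2 * d +
    a ^ 2 ^ (m + 1) * ((s : F) ^ 2 ^ (m + 1) * c), ?_⟩
  rw [mul_assoc, ← mul_assoc (tor hF s), tor_mul_tr, mul_assoc, ← tor_mul, ← mul_assoc, tr_mul]

omit hm in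
/-- The torus parts of the elements of `H` fixing the point at infinity. -/
def torusParts (H : Subgroup (Cfsg.Sz F m)) : Subgroup Fˣ where
  carrier := {s | ∃ a b, tr hF a b * tor hF s ∈ H}
  one_mem' := ⟨0, 0, by rw [tr_zero, tor_one, one_mul]; exact H.one_mem⟩
  mul_mem' := by
    rintro s t ⟨a, b, h1⟩ ⟨c, d, h2⟩
    obtain ⟨a', b', e⟩ := mul_tr_tor hF a b c d s t
    exact ⟨a', b', e ▸ H.mul_mem h1 h2⟩
  inv_mem' := by
    rintro s ⟨a, b, h1⟩
    obtain ⟨a', b', e⟩ := inv_tr_tor hF a b s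
    exact ⟨a', b', e ▸ H.inv_mem h1⟩

theorem exists_other {H : Subgroup (Cfsg.Sz F m)}
    (hne : ∀ p : Cfsg.suzukiOvoid F m, ∃ g ∈ H, g • p ≠ p) :
    ∃ g ∈ H, g • infty (F := F) m ≠ infty m := hne _

theorem orderOf_eq_two_center {b : F} (hb : b ≠ 0) : orderOf (tr hF 0 b : Cfsg.Sz F m) = 2 :=
  orderOf_center_tr hF hb

/-- The involutions of `H` fixing infinity are fused by the torus parts. -/
theorem exists_part {H : Subgroup (Cfsg.Sz F m)}
    (hne : ∀ p : Cfsg.suzukiOvoid F m, ∃ g ∈ H, g • p ≠ p) (hone : tr hF 0 1 ∈ H) {b : F}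
    (hb : tr hF 0 b ∈ H) (hb0 : b ≠ 0) :
    ∃ s ∈ torusParts hF H, theta F m (s : F) * (s : F) ^ 2 = b := by
  obtain ⟨g, hg, hgi⟩ := hne (infty m)
  have ho1 : orderOf (tr hF 0 1 : Cfsg.Sz F m) = 2 := orderOf_center_tr hF one_ne_zero
  set z := g * tr hF 0 1 * g⁻¹ with hz
  have hzH : z ∈ H := H.mul_mem (H.mul_mem hg hone) (H.inv_mem hg)
  have hzo : orderOf z = 2 := by rw [hz, orderOf_conj_eq, ho1]
  have hzfix : z • (g • infty (F := F) m) = g • infty m := by
    rw [hz, mul_smul, mul_smul, inv_smul_smul, tr_smul_infty]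
  obtain ⟨c₁, hc₁, e₁⟩ := involutions_conj hm hF hone hzH ho1 hzo (tr_smul_infty hF 0 1) hzfix
    fun e => hgi e.symm
  obtain ⟨c₂, hc₂, e₂⟩ := involutions_conj hm hF hzH hb hzo (orderOf_center_tr hF hb0) hzfix
    (tr_smul_infty hF 0 b) hgi
  have hx : c₂ * c₁ * tr hF 0 1 * (c₂ * c₁)⁻¹ = tr hF 0 b := by
    rw [← e₂, ← e₁]; group
  obtain ⟨c, d, s, e, -, hb'⟩ := exists_of_conj_tr hm hF (Or.inr one_ne_zero) hx
  refine ⟨s, ⟨c, d, e ▸ H.mul_mem hc₂ hc₁⟩, ?_⟩
  rw [hb', theta_def]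
  simp

theorem part_central {H : Subgroup (Cfsg.Sz F m)} (hone : tr hF 0 1 ∈ H) {s : Fˣ}
    (hs : s ∈ torusParts hF H) : tr hF 0 (theta F m (s : F) * (s : F) ^ 2) ∈ H := by
  obtain ⟨c, d, h⟩ := hs
  have := H.mul_mem (H.mul_mem h hone) (H.inv_mem h)
  rw [conj_mul_tr] at this
  simpa [theta_def] using this

/-- The central coordinates form a subfield. -/
theorem exists_centre_field {H : Subgroup (Cfsg.Sz F m)}
    (hne : ∀ p : Cfsg.suzukiOvoid F m, ∃ g ∈ H, g • p ≠ p) (hone : tr hF 0 1 ∈ H) :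
    ∃ Z : Subfield F, (∀ b, b ∈ Z ↔ tr hF 0 b ∈ H) ∧
      Nat.card (torusParts hF H) + 1 = Nat.card Z ∧
      ∃ e, Nat.card Z = 2 ^ (2 * e + 1) ∧ 2 * e + 1 ∣ 2 * m + 1 := by
  classical
  let Z : Subfield F :=
    { carrier := {b | tr hF 0 b ∈ H}
      one_mem' := hone
      zero_mem' := by show tr hF 0 0 ∈ H; rw [tr_zero]; exact H.one_mem
      add_mem' := fun {b c} hb hc => by
        have h := H.mul_mem hb hc
        rw [tr_mul] at h
        show tr hF 0 (b + c) ∈ H
        simpa using h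
      neg_mem' := fun {b} hb => by rwa [CharTwo.neg_eq]
      mul_mem' := fun {b c} hb hc => by
        show tr hF 0 (b * c) ∈ H
        by_cases h0 : b * c = 0
        · rw [h0, tr_zero]; exact H.one_mem
        obtain ⟨hb0, hc0⟩ := mul_ne_zero_iff.1 h0
        obtain ⟨s, hs, es⟩ := exists_part hm hF hne hone hb hb0
        obtain ⟨t, ht, et⟩ := exists_part hm hF hne hone hc hc0
        have := part_central hm hF hone ((torusParts hF H).mul_mem hs ht)
        rwa [Units.val_mul, map_mul, mul_pow, mul_mul_mul_comm, es, et] at this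
      inv_mem' := fun b hb => by
        show tr hF 0 b⁻¹ ∈ H
        by_cases h0 : b = 0
        · rw [h0, _root_.inv_zero, tr_zero]; exact H.one_mem
        obtain ⟨s, hs, es⟩ := exists_part hm hF hne hone hb h0
        have := part_central hm hF hone ((torusParts hF H).inv_mem hs)
        rwa [Units.val_inv_eq_inv_val, map_inv₀, inv_pow, ← mul_inv, es] at this }
  refine ⟨Z, fun b => Iff.rfl, ?_, ?_⟩
  · have h1 : Nat.card Zˣ + 1 = Nat.card Z := by
      rw [Nat.card_units]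
      exact Nat.sub_add_cancel Nat.card_pos
    rw [← h1]
    congr 1
    let f : torusParts hF H → Zˣ := fun s =>
      Units.mk0 ⟨_, part_central hm hF hone s.2⟩ fun e => by
        have e' : theta F m ((s : Fˣ) : F) * ((s : Fˣ) : F) ^ 2 = 0 := congrArg Subtype.val e
        exact mul_ne_zero ((map_ne_zero _).2 (Units.ne_zero _)) (pow_ne_zero _ (Units.ne_zero _)) e'
    refine Nat.card_eq_of_bijective f ⟨fun s t e => ?_, fun u => ?_⟩
    · exact Subtype.ext (Units.ext (theta_mul_sq_injective (m := m) hF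
        (congrArg (fun z : Zˣ => ((z : Z) : F)) e)))
    · obtain ⟨s, hs, es⟩ := exists_part hm hF hne hone (u : Z).2 fun e => u.ne_zero (Subtype.ext e)
      exact ⟨⟨s, hs⟩, Units.ext (Subtype.ext es)⟩
  · have h1 := Module.natCard_eq_pow_finrank (K := Z) (V := F)
    rw [Nat.card_eq_fintype_card (α := F), hF] at h1
    have hr : Module.finrank Z F ≠ 0 := Module.finrank_pos.ne'
    obtain ⟨i, -, hi⟩ := (Nat.dvd_prime_pow Nat.prime_two).1 (h1 ▸ dvd_pow_self (Nat.card Z) hr)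
    rw [hi, ← pow_mul] at h1
    have h2 : 2 * m + 1 = i * Module.finrank Z F := Nat.pow_right_injective le_rfl h1
    obtain ⟨e, he⟩ : Odd i := (Nat.odd_mul.1 (show Odd (i * Module.finrank Z F) from ⟨m, h2.symm⟩)).1
    exact ⟨e, he ▸ hi, he ▸ ⟨_, h2⟩⟩

/-- Normalise: every torus part becomes diagonal. -/
theorem exists_normalize_torus {H : Subgroup (Cfsg.Sz F m)}
    (hne : ∀ p : Cfsg.suzukiOvoid F m, ∃ g ∈ H, g • p ≠ p) (hone : tr hF 0 1 ∈ H) :
    ∃ g : Cfsg.Sz F m, tr hF 0 1 ∈ H.map (MulAut.conj g).toMonoidHom ∧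
      ∀ s ∈ torusParts hF (H.map (MulAut.conj g).toMonoidHom),
        tor hF s ∈ H.map (MulAut.conj g).toMonoidHom := by
  classical
  obtain ⟨⟨σ, hσ⟩, hgen⟩ := IsCyclic.exists_generator (α := torusParts hF H)
  by_cases hσ1 : σ = 1
  · have htriv : ∀ s ∈ torusParts hF H, s = 1 := fun s hs => by
      obtain ⟨i, hi⟩ := Subgroup.mem_zpowers_iff.1 (hgen ⟨s, hs⟩)
      have := congrArg Subtype.val hi
      simpa [hσ1] using this.symm
    have hid : H.map (MulAut.conj (1 : Cfsg.Sz F m)).toMonoidHom = H := by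
      rw [map_one]
      exact Subgroup.map_id H
    refine ⟨1, by rw [hid]; exact hone, fun s hs => ?_⟩
    rw [hid] at hs ⊢
    rw [htriv s hs, tor_one]
    exact H.one_mem
  obtain ⟨a, b, hx⟩ := hσ
  obtain ⟨c, d, hcd⟩ := exists_conj_tor hF a b hσ1
  set g : Cfsg.Sz F m := (tr hF c d)⁻¹ with hg
  set H' := H.map (MulAut.conj g).toMonoidHom with hH'
  have hfix : ∀ u : F, g * tr hF 0 u * g⁻¹ = tr hF 0 u := fun u => by
    rw [hg, tr_inv, mul_inv_eq_iff_eq_mul, tr_mul, tr_mul]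
    congr 1
    · ring
    · rw [zero_pow (by positivity)]; ring
  have hcentre : ∀ u : F, tr hF 0 u ∈ H ↔ tr hF 0 u ∈ H' := fun u => by
    constructor
    · exact fun h => ⟨_, h, hfix u⟩
    · rintro ⟨y, hy, hy'⟩
      have : y = tr hF 0 u := (MulAut.conj g).injective (hy'.trans (hfix u).symm)
      exact this ▸ hy
  have hone' := (hcentre 1).1 hone
  have hne' : ∀ p : Cfsg.suzukiOvoid F m, ∃ y ∈ H', y • p ≠ p := fun p => by
    obtain ⟨y, hy, hyp⟩ := hne (g⁻¹ • p)
    refine ⟨g * y * g⁻¹, ⟨y, hy, rfl⟩, fun e => hyp ?_⟩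
    rw [mul_smul, mul_smul] at e
    rw [eq_inv_smul_iff, e]
  have hσH' : tor hF σ ∈ H' := ⟨_, hx, by
    show g * (tr hF a b * tor hF σ) * g⁻¹ = tor hF σ
    rw [← hcd, hg]; group⟩
  refine ⟨g, hone', fun s hs => ?_⟩
  obtain ⟨Z, hZ, hc1, -⟩ := exists_centre_field hm hF hne hone
  obtain ⟨Z', hZ', hc2, -⟩ := exists_centre_field hm hF hne' hone'
  have hZZ : Nat.card Z = Nat.card Z' := Nat.card_congr (Equiv.subtypeEquivRight fun u => by
    rw [hZ u, hZ' u]; exact hcentre u)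
  have hle : Subgroup.zpowers σ ≤ torusParts hF H' :=
    Subgroup.zpowers_le.2 ⟨0, 0, by rw [tr_zero, one_mul]; exact hσH'⟩
  have hcardσ : Nat.card (Subgroup.zpowers σ) = Nat.card (torusParts hF H) := by
    rw [Nat.card_zpowers, ← orderOf_eq_card_of_forall_mem_zpowers hgen]
    exact Subgroup.orderOf_coe ⟨σ, _⟩
  have heq : Subgroup.zpowers σ = torusParts hF H' :=
    Subgroup.eq_of_le_of_card_ge hle (by omega)
  rw [← heq] at hs
  obtain ⟨i, rfl⟩ := Subgroup.mem_zpowers_iff.1 hs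
  show (MonoidHom.mk' (tor hF) (tor_mul hF) : Fˣ →* Cfsg.Sz F m) (σ ^ i) ∈ H'
  rw [map_zpow]
  exact zpow_mem hσH' i

/-- The main case. -/
theorem shape_normalized {H : Subgroup (Cfsg.Sz F m)}
    (hne : ∀ p : Cfsg.suzukiOvoid F m, ∃ g ∈ H, g • p ≠ p) (hone : tr hF 0 1 ∈ H)
    (htor : ∀ s ∈ torusParts hF H, tor hF s ∈ H) : SubgroupShape hm hF H := by
  classical
  have h2 : (2 : F) = 0 := CharTwo.two_eq_zero
  obtain ⟨Z, hZ, hLcard, e, hZcard, hediv⟩ := exists_centre_field hm hF hne hone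
  set L := torusParts hF H with hL
  set a := Nat.card L with ha
  let O : Set (Cfsg.suzukiOvoid F m) := {p | ∃ g ∈ H, g • infty (F := F) m = p}
  haveI : Finite (Cfsg.suzukiOvoid F m) := Nat.finite_of_card_ne_zero (by rw [ovoid_equiv hF]; omega)
  set n := O.ncard with hn
  let Qs : Set (F × F) := {u | tr hF u.1 u.2 ∈ H}
  set q0 := Qs.ncard with hq0
  set h := Nat.card H with hh
  have ho1 : orderOf (tr hF 0 1 : Cfsg.Sz F m) = 2 := orderOf_center_tr hF one_ne_zero
  have hinfO : infty (F := F) m ∈ O := ⟨1, H.one_mem, one_smul _ _⟩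
  -- the order of `H`
  have hstab : Nat.card (H ⊓ stabilizer (Cfsg.Sz F m) (infty (F := F) m) : Subgroup (Cfsg.Sz F m)) =
      q0 * a := by
    rw [hq0, ← Nat.card_coe_set_eq, ha, ← Nat.card_prod]
    refine (Nat.card_eq_of_bijective (fun x : Qs × L => (⟨tr hF x.1.1.1 x.1.1.2 * tor hF (x.2 : Fˣ),
      H.mul_mem x.1.2 (htor _ x.2.2), by
        show (tr hF x.1.1.1 x.1.1.2 * tor hF (x.2 : Fˣ)) • infty (F := F) m = infty m
        rw [mul_smul, tor_smul_infty, tr_smul_infty]⟩ :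
      (H ⊓ stabilizer (Cfsg.Sz F m) (infty (F := F) m) : Subgroup (Cfsg.Sz F m)))) ⟨?_, ?_⟩).symm
    · rintro ⟨⟨⟨u1, u2⟩, hu⟩, s⟩ ⟨⟨⟨v1, v2⟩, hv⟩, t⟩ e
      obtain ⟨e1, e2, e3⟩ := tr_tor_injective hF (congrArg Subtype.val e)
      exact Prod.ext (Subtype.ext (Prod.ext e1 e2)) (Subtype.ext e3)
    · rintro ⟨y, hyH, hyB⟩
      obtain ⟨c, d, s, rfl⟩ := exists_tr_to hm hF hyB
      have hs : s ∈ L := ⟨c, d, hyH⟩
      have hu : tr hF c d ∈ H := by simpa using H.mul_mem hyH (H.inv_mem (htor s hs))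
      exact ⟨(⟨(c, d), hu⟩, ⟨s, hs⟩), rfl⟩
  have horder : h = n * (q0 * a) := by
    have horb : orbit H (infty (F := F) m) = O := by
      ext p
      constructor
      · rintro ⟨g, rfl⟩; exact ⟨g, g.2, rfl⟩
      · rintro ⟨g, hg, rfl⟩; exact ⟨⟨g, hg⟩, rfl⟩
    rw [hh, ← Subgroup.card_mul_index (stabilizer H (infty (F := F) m)), index_stabilizer, horb, ← hn,
      mul_comm, ← hstab]
    congr 1
    exact Nat.card_congr
      { toFun := fun y => ⟨((y : H) : Cfsg.Sz F m), (y : H).2, y.2⟩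
        invFun := fun y => ⟨⟨y, y.2.1⟩, y.2.2⟩
        left_inv := fun y => rfl
        right_inv := fun y => rfl }
  -- the first coordinates of the Sylow subgroup
  have hsq : ∀ {c d : F}, tr hF c d ∈ H → theta F m c * c ∈ Z := fun {c d} hcd => by
    rw [hZ]
    have := H.mul_mem hcd hcd
    rwa [tr_mul, CharTwo.add_self_eq_zero, CharTwo.add_self_eq_zero, zero_add, ← theta_def] at this
  have hdiff : ∀ {c x y : F}, tr hF c x ∈ H → tr hF c y ∈ H → x - y ∈ Z := fun {c x y} hx hy => by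
    rw [hZ]
    have := H.mul_mem hx (H.inv_mem hy)
    rw [tr_inv, tr_mul, CharTwo.add_self_eq_zero] at this
    convert this using 2
    rw [CharTwo.sub_eq_add]
    linear_combination -(c ^ 2 ^ (m + 1) * c) * h2
  have hshift : ∀ {c x z : F}, tr hF c x ∈ H → z ∈ Z → tr hF c (x + z) ∈ H := fun {c x z} hx hz => by
    have := H.mul_mem hx ((hZ z).1 hz)
    rwa [tr_mul, add_zero, mul_zero, add_zero] at this
  -- all translation type elements of `H` fix a point of `O`
  have hfixO : ∀ y ∈ H, IsTrType hF y → ∀ p, y • p = p → p ∈ O := by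
    intro y hy ht p hp
    obtain ⟨p₀, -, huniq⟩ := ht.exists_fixed hm hF
    obtain ⟨w, hw, hwo, hwp⟩ : ∃ w ∈ H, orderOf w = 2 ∧ w • p = p := by
      rcases ht.order_cases hm hF with e | e
      · exact ⟨y, hy, e, hp⟩
      · exact ⟨y ^ 2, H.pow_mem hy 2, by rw [orderOf_pow' _ two_ne_zero, e]; rfl,
          by rw [sq, mul_smul, hp, hp]⟩
    by_cases hpi : p = infty m
    · rw [hpi]; exact hinfO
    obtain ⟨g, hg, rfl⟩ := involutions_conj hm hF hone hw ho1 hwo (tr_smul_infty hF 0 1) hwp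
      fun e => hpi e.symm
    refine ⟨g, hg, ?_⟩
    rw [mul_smul, mul_smul] at hwp
    rw [← inv_smul_eq_iff.1 (eq_infty_of_tr_fixed hF (Or.inr one_ne_zero)
      (smul_left_cancel g (hwp.trans (smul_inv_smul g p).symm))) ]
  choose γ hγH hγ using fun p : O => p.2
  have hn1 : 2 ≤ n := by
    obtain ⟨g, hg, hgi⟩ := hne (infty m)
    rw [hn]
    refine le_trans (le_of_eq (Set.ncard_pair hgi).symm) (Set.ncard_le_ncard ?_ (Set.toFinite _))
    rintro p (rfl | rfl)
    exacts [⟨g, hg, rfl⟩, hinfO]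
  -- elements of translation type
  set X2 : Set (Cfsg.Sz F m) := {y | y ∈ H ∧ IsTrType hF y} with hX2
  have hQs0 : (0, 0) ∈ Qs := by show tr hF 0 0 ∈ H; rw [tr_zero]; exact H.one_mem
  have hX2card : X2.ncard = n * (q0 - 1) := by
    rw [hn, hq0, ← Set.ncard_sdiff_singleton_of_mem hQs0, ← Nat.card_coe_set_eq, ← Nat.card_coe_set_eq,
      ← Nat.card_coe_set_eq, ← Nat.card_prod]
    have hu0 : ∀ u : ↥(Qs \ {((0 : F), (0 : F))}), u.1.1 ≠ 0 ∨ u.1.2 ≠ 0 := fun u => by
      by_contra hc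
      push Not at hc
      exact u.2.2 (Prod.ext hc.1 hc.2)
    refine (Nat.card_eq_of_bijective (fun x : O × ↥(Qs \ {((0 : F), (0 : F))}) =>
      (⟨γ x.1 * tr hF x.2.1.1 x.2.1.2 * (γ x.1)⁻¹,
        H.mul_mem (H.mul_mem (hγH _) x.2.2.1) (H.inv_mem (hγH _)),
        ⟨(γ x.1)⁻¹, _, _, hu0 x.2, by group⟩⟩ : X2)) ⟨?_, ?_⟩).symm
    · rintro ⟨p, u⟩ ⟨p', u'⟩ e
      have e' : γ p * tr hF u.1.1 u.1.2 * (γ p)⁻¹ = γ p' * tr hF u'.1.1 u'.1.2 * (γ p')⁻¹ :=
        congrArg Subtype.val e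
      have hp : p = p' := by
        apply Subtype.ext
        have h1 : tr hF u'.1.1 u'.1.2 • ((γ p')⁻¹ • (p : Cfsg.suzukiOvoid F m)) = (γ p')⁻¹ • p.1 := by
          rw [eq_inv_smul_iff]
          calc γ p' • tr hF u'.1.1 u'.1.2 • (γ p')⁻¹ • (p : Cfsg.suzukiOvoid F m)
              = (γ p' * tr hF u'.1.1 u'.1.2 * (γ p')⁻¹) • p.1 := by rw [mul_smul, mul_smul]
            _ = (γ p * tr hF u.1.1 u.1.2 * (γ p)⁻¹) • p.1 := by rw [e']
            _ = p.1 := by
              rw [mul_smul, mul_smul, show (γ p)⁻¹ • (p : Cfsg.suzukiOvoid F m) = infty (F := F) m from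
                inv_smul_eq_iff.2 (hγ p).symm, tr_smul_infty, hγ]
        have h3 := eq_infty_of_tr_fixed hF (hu0 u') h1
        rw [inv_smul_eq_iff, hγ] at h3
        exact h3
      subst hp
      obtain ⟨e1, e2⟩ := tr_injective hF (mul_left_cancel (mul_right_cancel e'))
      exact Prod.ext rfl (Subtype.ext (Prod.ext e1 e2))
    · rintro ⟨y, hy, ht⟩
      obtain ⟨p, hp, -⟩ := ht.exists_fixed hm hF
      set P : O := ⟨p, hfixO y hy ht p hp⟩
      set y' := (γ P)⁻¹ * y * γ P with hy'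
      have hy'fix : y' • infty (F := F) m = infty m := by
        rw [hy', mul_smul, mul_smul, hγ, show y • p = p from hp, inv_smul_eq_iff, hγ]
      obtain ⟨c, d, s, hs⟩ := exists_tr_to hm hF hy'fix
      have hy'H : y' ∈ H := H.mul_mem (H.mul_mem (H.inv_mem (hγH _)) hy) (hγH _)
      have hs1 : s = 1 := by
        by_contra hs1
        obtain ⟨c', d', hc'⟩ := exists_conj_tor hF c d hs1
        have h1 : orderOf y = orderOf (tor hF s : Cfsg.Sz F m) := by
          rw [← orderOf_conj_eq (γ P)⁻¹ y, inv_inv, ← hy', hs, ← hc', orderOf_conj_eq]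
        have h3 := ht.even_orderOf hm hF
        rw [h1] at h3
        exact Nat.not_even_iff_odd.2 (odd_orderOf_tor' hm hF s) (even_iff_two_dvd.2 h3)
      rw [hs1, tor_one, mul_one] at hs
      refine ⟨⟨P, ⟨(c, d), (hs ▸ hy'H : tr hF c d ∈ H), fun e => ?_⟩⟩, Subtype.ext ?_⟩
      · have e1 := congrArg Prod.fst e
        have e2 := congrArg Prod.snd e
        simp only at e1 e2
        rw [e1, e2, tr_zero, hy'] at hs
        exact ht.ne_one hm hF (by
          calc y = γ P * ((γ P)⁻¹ * y * γ P) * (γ P)⁻¹ := by group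
            _ = 1 := by rw [hs]; group)
      · show γ P * tr hF c d * (γ P)⁻¹ = y
        rw [← hs, hy']; group
  have hH1 : ((H : Set (Cfsg.Sz F m)) \ {1}).ncard + 1 = h := by
    rw [← Set.ncard_singleton (1 : Cfsg.Sz F m), Set.ncard_sdiff_add_ncard_of_subset
      (Set.singleton_subset_iff.2 H.one_mem), ← Nat.card_coe_set_eq]
    rfl
  have hclsX : ∀ {T}, IsTor T → Disjoint X2 (cls H T) := by
    intro T hT
    rw [Set.disjoint_left]
    rintro y ⟨-, ht⟩ ⟨-, -, g, -, hgT⟩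
    refine hT.not_trType hm hF hgT ?_
    obtain ⟨c, u, v, huv, hc⟩ := ht
    exact ⟨c * g⁻¹, u, v, huv, by rw [← hc]; group⟩
  -- bound for each class
  have hbound : ∀ {T}, IsTor T → H ⊓ T ≠ ⊥ → ∀ j,
      Nat.card (H ⊓ Subgroup.normalizer (T : Set (Cfsg.Sz F m)) : Subgroup (Cfsg.Sz F m)) =
        j * Nat.card (H ⊓ T : Subgroup (Cfsg.Sz F m)) → 4 * h ≤ 5 * j * (cls H T).ncard := by
    intro T hT hTne j hj
    have h1 := ncard_cls hm hF hT hTne
    rw [hj] at h1
    obtain ⟨d, hd⟩ : ∃ d, Nat.card (H ⊓ T : Subgroup (Cfsg.Sz F m)) = d + 5 :=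
      ⟨_, (Nat.sub_add_cancel (five_le_inf hm hF hT hTne)).symm⟩
    rw [hd, show d + 5 - 1 = d + 4 by omega, ← hh] at h1
    nlinarith
  have hbound5 : ∀ {T}, IsTor T → H ⊓ T ≠ ⊥ → h ≤ 5 * (cls H T).ncard := by
    intro T hT hTne
    obtain ⟨j, hj, hjc, -⟩ := exists_index hm hF (H := H) hT
    have := hbound hT hTne j hj
    rcases hjc with e | e | e <;> subst e <;> omega
  rcases Nat.eq_zero_or_pos e with he0 | hepos
  · -- the centre has order two
    subst he0
    have hZ2 : Nat.card Z = 2 := by simpa using hZcard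
    have ha1 : a = 1 := by omega
    have hZ01 : ∀ z ∈ Z, z = 0 ∨ z = 1 := by
      intro z hz
      by_contra hcon
      push Not at hcon
      have h3 : ({0, 1, z} : Set F).ncard ≤ Set.ncard (Z : Set F) :=
        Set.ncard_le_ncard (by rintro w (rfl | rfl | rfl); exacts [Z.zero_mem, Z.one_mem, hz]) (Set.toFinite _)
      rw [← Nat.card_coe_set_eq (s := (Z : Set F))] at h3
      rw [Set.ncard_eq_three.2 ⟨0, 1, z, zero_ne_one, hcon.1.symm, hcon.2.symm, rfl⟩] at h3
      have : Nat.card (Z : Set F) = 2 := hZ2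
      omega
    have hfst : ∀ {c d : F}, tr hF c d ∈ H → c = 0 ∨ c = 1 := fun {c d} hcd => by
      rcases hZ01 _ (hsq hcd) with e | e
      · rw [mul_eq_zero, map_eq_zero, or_self] at e; exact Or.inl e
      · exact Or.inr (eq_one_of_theta_mul hF (m := m) e)
    by_cases hQ : ∃ d, tr hF 1 d ∈ H
    · -- cyclic of order four
      obtain ⟨d₁, hd₁⟩ := hQ
      have hq4 : q0 = 4 := by
        have hQeq : Qs = {(0, 0), (0, 1), (1, d₁), (1, d₁ + 1)} := by
          ext ⟨c, d⟩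
          constructor
          · intro hcd
            rcases hfst hcd with rfl | rfl
            · rcases hZ01 d ((hZ d).2 hcd) with rfl | rfl <;> simp
            · rcases hZ01 _ (hdiff hcd hd₁) with e' | e'
              · rw [sub_eq_zero] at e'; subst e'; simp
              · rw [sub_eq_iff_eq_add, add_comm] at e'; subst e'; simp
          · intro hcd
            simp only [Set.mem_insert_iff, Set.mem_singleton_iff, Prod.mk.injEq] at hcd
            rcases hcd with ⟨rfl, rfl⟩ | ⟨rfl, rfl⟩ | ⟨rfl, rfl⟩ | ⟨rfl, rfl⟩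
            exacts [hQs0, hone, hd₁, hshift hd₁ Z.one_mem]
        rw [hq0, hQeq]
        repeat rw [Set.ncard_insert_of_notMem _ (Set.toFinite _)]
        · simp
        all_goals simp
      rw [hq4, ha1, mul_one] at horder
      rw [hq4] at hX2card
      obtain ⟨y, ⟨hyH, hy1⟩, hyX⟩ : ∃ y ∈ (H : Set (Cfsg.Sz F m)) \ {1}, y ∉ X2 :=
        Set.exists_mem_notMem_of_ncard_lt_ncard (by omega) (Set.toFinite _)
      obtain ⟨T, hT, hTne, hyT⟩ := exists_torus_of hm hF hyH hy1 fun h' => hyX ⟨hyH, h'⟩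
      obtain ⟨j, hj, hjc, -, -, -⟩ := exists_index hm hF (H := H) hT
      have hbd := hbound hT hTne j hj
      have hsub : X2 ∪ cls H T ⊆ (H : Set (Cfsg.Sz F m)) \ {1} := by
        rintro w (hw | hw)
        exacts [⟨hw.1, hw.2.ne_one hm hF⟩, ⟨hw.2.1, hw.1⟩]
      have hle := Set.ncard_le_ncard hsub (Set.toFinite _)
      rw [Set.ncard_union_eq (hclsX hT)] at hle
      have hj4 : j = 4 := by rcases hjc with e | e | e <;> subst e <;> omega
      subst hj4
      have hall : (H : Set (Cfsg.Sz F m)) \ {1} = X2 ∪ cls H T := by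
        refine (Set.Subset.antisymm ?_ hsub)
        rintro w ⟨hwH, hw1⟩
        by_contra hcon
        rw [Set.mem_union] at hcon
        push Not at hcon
        obtain ⟨T', hT', hTne', hwT'⟩ := exists_torus_of hm hF hwH hw1 fun h' => hcon.1 ⟨hwH, h'⟩
        have hd : Disjoint (X2 ∪ cls H T) (cls H T') := by
          rw [Set.disjoint_union_left]
          refine ⟨hclsX hT', Set.disjoint_left.2 fun v hv hv' => hcon.2 (cls_inter hm hF hT hT' hv hv' w hwT')⟩
        have hle' := Set.ncard_le_ncard (Set.union_subset hsub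
          (fun v (hv : v ∈ cls H T') => (⟨hv.2.1, hv.1⟩ : v ∈ (H : Set (Cfsg.Sz F m)) \ {1})))
          (Set.toFinite _)
        rw [Set.ncard_union_eq hd, Set.ncard_union_eq (hclsX hT)] at hle'
        have := hbound5 hT' hTne'
        omega
      rw [hall, Set.ncard_union_eq (hclsX hT), hX2card] at hH1
      have h1 := ncard_cls hm hF hT hTne
      rw [hj, ← hh] at h1
      obtain ⟨c, hc⟩ : ∃ c, n = c + 1 := ⟨n - 1, by omega⟩
      obtain ⟨t, ht⟩ : ∃ t, Nat.card (H ⊓ T : Subgroup (Cfsg.Sz F m)) = t + 1 :=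
        ⟨_, (Nat.sub_add_cancel Nat.card_pos).symm⟩
      have hcls : (cls H T).ncard = c := by omega
      rw [hcls, ht, Nat.add_sub_cancel, horder, hc] at h1
      have htc : t = c := by nlinarith
      refine Or.inr (Or.inl ⟨T, hT, ?_⟩)
      have : H ⊓ Subgroup.normalizer (T : Set (Cfsg.Sz F m)) = H :=
        Subgroup.eq_of_le_of_card_ge inf_le_left (by rw [hj, ht, ← hh, horder, htc, hc, mul_comm])
      exact this ▸ inf_le_right
    · -- order two
      push Not at hQ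
      have hq2 : q0 = 2 := by
        have hQeq : Qs = {(0, 0), (0, 1)} := by
          ext ⟨c, d⟩
          constructor
          · intro hcd
            rcases hfst hcd with rfl | rfl
            · rcases hZ01 d ((hZ d).2 hcd) with rfl | rfl <;> simp
            · exact absurd hcd (hQ d)
          · intro hcd
            simp only [Set.mem_insert_iff, Set.mem_singleton_iff, Prod.mk.injEq] at hcd
            rcases hcd with ⟨rfl, rfl⟩ | ⟨rfl, rfl⟩
            exacts [hQs0, hone]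
        rw [hq0, hQeq]
        exact Set.ncard_pair (by simp)
      rw [hq2, ha1, mul_one] at horder
      rw [hq2] at hX2card
      have hno4 : ∀ y ∈ H, orderOf y ≠ 4 := by
        intro y hy hyo
        have ht := trType_of_order hm hF (Or.inr hyo)
        obtain ⟨p, hp, -⟩ := ht.exists_fixed hm hF
        set P : O := ⟨p, hfixO y hy ht p hp⟩
        have hfix : ((γ P)⁻¹ * y * γ P) • infty (F := F) m = infty m := by
          rw [mul_smul, mul_smul, hγ, show y • p = p from hp, inv_smul_eq_iff, hγ]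
        obtain ⟨c, d, s, hs⟩ := exists_tr_to hm hF hfix
        have hyH' : (γ P)⁻¹ * y * γ P ∈ H :=
          H.mul_mem (H.mul_mem (H.inv_mem (hγH _)) hy) (hγH _)
        rw [hs] at hyH'
        have hsL : s ∈ L := ⟨c, d, hyH'⟩
        haveI : Subsingleton L := (Nat.card_eq_one_iff_unique.1 ha1).1
        have hs1 : s = 1 := congrArg Subtype.val (Subsingleton.elim (⟨s, hsL⟩ : L) 1)
        rw [hs1, tor_one, mul_one] at hs hyH'
        rcases hfst hyH' with rfl | rfl
        · have h4 : orderOf ((γ P)⁻¹ * y * (γ P)⁻¹⁻¹) = 4 := by rw [orderOf_conj_eq, hyo]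
          rw [inv_inv, hs] at h4
          exact absurd rfl ((orderOf_tr_zero_iff hF).2.1 h4)
        · exact hQ d hyH'
      obtain ⟨y, ⟨hyH, hy1⟩, hyX⟩ : ∃ y ∈ (H : Set (Cfsg.Sz F m)) \ {1}, y ∉ X2 :=
        Set.exists_mem_notMem_of_ncard_lt_ncard (by omega) (Set.toFinite _)
      obtain ⟨T, hT, hTne, hyT⟩ := exists_torus_of hm hF hyH hy1 fun h' => hyX ⟨hyH, h'⟩
      obtain ⟨j, hj, hjc, -, hj4', -⟩ := exists_index hm hF (H := H) hT
      have hbd := hbound hT hTne j hj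
      have hsub : X2 ∪ cls H T ⊆ (H : Set (Cfsg.Sz F m)) \ {1} := by
        rintro w (hw | hw)
        exacts [⟨hw.1, hw.2.ne_one hm hF⟩, ⟨hw.2.1, hw.1⟩]
      have hle := Set.ncard_le_ncard hsub (Set.toFinite _)
      rw [Set.ncard_union_eq (hclsX hT)] at hle
      have hj2 : j = 2 := by
        rcases hjc with e | e | e
        · subst e; omega
        · exact e
        · obtain ⟨w, hw, hwo⟩ := hj4' e
          exact absurd hwo (hno4 w hw)
      subst hj2
      have hall : (H : Set (Cfsg.Sz F m)) \ {1} = X2 ∪ cls H T := by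
        refine (Set.Subset.antisymm ?_ hsub)
        rintro w ⟨hwH, hw1⟩
        by_contra hcon
        rw [Set.mem_union] at hcon
        push Not at hcon
        obtain ⟨T', hT', hTne', hwT'⟩ := exists_torus_of hm hF hwH hw1 fun h' => hcon.1 ⟨hwH, h'⟩
        obtain ⟨j', hj', hjc', -, hj4'', -⟩ := exists_index hm hF (H := H) hT'
        have hd : Disjoint (X2 ∪ cls H T) (cls H T') := by
          rw [Set.disjoint_union_left]
          refine ⟨hclsX hT', Set.disjoint_left.2 fun v hv hv' => hcon.2 (cls_inter hm hF hT hT' hv hv' w hwT')⟩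
        have hle' := Set.ncard_le_ncard (Set.union_subset hsub
          (fun v (hv : v ∈ cls H T') => (⟨hv.2.1, hv.1⟩ : v ∈ (H : Set (Cfsg.Sz F m)) \ {1})))
          (Set.toFinite _)
        rw [Set.ncard_union_eq hd, Set.ncard_union_eq (hclsX hT)] at hle'
        have := hbound hT' hTne' j' hj'
        rcases hjc' with e | e | e
        · subst e; omega
        · subst e; omega
        · obtain ⟨v, hv, hvo⟩ := hj4'' e
          exact hno4 v hv hvo
      rw [hall, Set.ncard_union_eq (hclsX hT), hX2card] at hH1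
      have h1 := ncard_cls hm hF hT hTne
      rw [hj, ← hh] at h1
      obtain ⟨c, hc⟩ : ∃ c, n = c + 1 := ⟨n - 1, by omega⟩
      obtain ⟨t, ht⟩ : ∃ t, Nat.card (H ⊓ T : Subgroup (Cfsg.Sz F m)) = t + 1 :=
        ⟨_, (Nat.sub_add_cancel Nat.card_pos).symm⟩
      have hcls : (cls H T).ncard = c := by omega
      rw [hcls, ht, Nat.add_sub_cancel, horder, hc] at h1
      have htc : t = c := by nlinarith
      refine Or.inr (Or.inl ⟨T, hT, ?_⟩)
      have : H ⊓ Subgroup.normalizer (T : Set (Cfsg.Sz F m)) = H :=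
        Subgroup.eq_of_le_of_card_ge inf_le_left (by rw [hj, ht, ← hh, horder, htc, hc, mul_comm])
      exact this ▸ inf_le_right
  -- the centre is a subfield with at least eight elements
  obtain ⟨K, iK1, iK2, iK3, hKcard⟩ : ∃ (K : Type) (_ : Field K) (_ : Fintype K) (_ : CharP K 2),
      Fintype.card K = 2 ^ (2 * e + 1) := by
    haveI : Fintype (GaloisField 2 (2 * e + 1)) := Fintype.ofFinite _
    exact ⟨GaloisField 2 (2 * e + 1), inferInstance, inferInstance, inferInstance, by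
      rw [← Nat.card_eq_fintype_card, GaloisField.card 2 _ (by omega)]⟩
  obtain ⟨φ⟩ := exists_ringHom (F := F) (K := K) hediv hF hKcard
  have hθ : ∀ x : K, φ (theta K e x) = theta F m (φ x) := theta_map hediv φ hKcard
  have hZφ : ∀ z, z ∈ Z ↔ ∃ x, φ x = z := by
    have hsub : Set.range φ = (Z : Set F) := by
      have hroot : ∀ z : F, (z ∈ Set.range φ ∨ z ∈ Z) → z ^ (2 ^ (2 * e + 1)) = z := by
        rintro z (⟨x, rfl⟩ | hz)
        · rw [← map_pow, ← hKcard, FiniteField.pow_card]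
        · haveI : Fintype Z := Fintype.ofFinite _
          have hc : Fintype.card Z = 2 ^ (2 * e + 1) := by rw [← Nat.card_eq_fintype_card, hZcard]
          rw [← hc]
          exact congrArg Subtype.val (FiniteField.pow_card (⟨z, hz⟩ : Z))
      have hroots : {z : F | z ^ (2 ^ (2 * e + 1)) = z}.ncard ≤ 2 ^ (2 * e + 1) := by
        have h8 : 1 < 2 ^ (2 * e + 1) := Nat.one_lt_two_pow (by omega)
        have hP : (Polynomial.X ^ (2 ^ (2 * e + 1)) - Polynomial.X : Polynomial F) ≠ 0 :=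
          FiniteField.X_pow_card_sub_X_ne_zero F h8
        refine le_trans (le_trans (Set.ncard_le_ncard (t :=
          ((Polynomial.X ^ (2 ^ (2 * e + 1)) - Polynomial.X : Polynomial F).roots.toFinset : Set F)) ?_
          (Set.toFinite _)) ?_) (le_of_eq (FiniteField.X_pow_card_sub_X_natDegree_eq F h8))
        · intro z hz
          rw [Finset.mem_coe, Multiset.mem_toFinset, Polynomial.mem_roots hP]
          simp [sub_eq_zero, show z ^ (2 ^ (2 * e + 1)) = z from hz]
        · rw [Set.ncard_coe_finset]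
          exact (Multiset.toFinset_card_le _).trans (Polynomial.card_roots' _)
      have c1 : (Set.range φ).ncard = 2 ^ (2 * e + 1) := by
        rw [← Set.image_univ, Set.ncard_image_of_injective _ φ.injective, Set.ncard_univ,
          Nat.card_eq_fintype_card, hKcard]
      have c2 : (Z : Set F).ncard = 2 ^ (2 * e + 1) := by rw [← Nat.card_coe_set_eq]; exact hZcard
      rw [Set.eq_of_subset_of_ncard_le (fun z hz => hroot z (Or.inl hz)) (by rw [c1]; exact hroots)
        (Set.toFinite _)]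
      exact (Set.eq_of_subset_of_ncard_le (fun z hz => hroot z (Or.inr hz)) (by rw [c2]; exact hroots)
        (Set.toFinite _)).symm
    intro z
    rw [← SetLike.mem_coe, ← hsub]
    exact Iff.rfl
  have hLK : ∀ u : Kˣ, Units.map φ.toMonoidHom u ∈ L := by
    intro u
    obtain ⟨s, hs, es⟩ := exists_part hm hF hne hone (b := φ (theta K e u * (u : K) ^ 2))
      ((hZ _).1 ((hZφ _).2 ⟨_, rfl⟩))
      ((map_ne_zero _).2 (mul_ne_zero ((map_ne_zero _).2 u.ne_zero) (pow_ne_zero _ u.ne_zero)))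
    convert hs
    refine Units.ext (theta_mul_sq_injective (m := m) hF ?_)
    show theta F m (φ u) * φ u ^ 2 = theta F m (s : F) * (s : F) ^ 2
    rw [es, map_mul, map_pow, hθ]
  have hconj : ∀ (u : Kˣ) {c d : F}, tr hF c d ∈ H →
      tr hF (φ (theta K e u) * c) (φ (theta K e u * (u : K) ^ 2) * d) ∈ H := fun u c d hcd => by
    have := H.mul_mem (H.mul_mem (htor _ (hLK u)) hcd) (H.inv_mem (htor _ (hLK u)))
    rw [conj_tr] at this
    simpa [← theta_def, hθ, map_mul, map_pow] using this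
  have hz8 : 8 ≤ 2 ^ (2 * e + 1) := le_trans (by norm_num) (Nat.pow_le_pow_right two_pos (show 3 ≤ 2 * e + 1 by omega))
  have haz : a + 1 = 2 ^ (2 * e + 1) := hLcard.trans hZcard
  have haodd : Odd a := by
    obtain ⟨c, hc⟩ : Even (2 ^ (2 * e + 1)) := even_two.pow_of_ne_zero (by omega)
    exact ⟨c - 1, by omega⟩
  -- either elementary abelian or all of the smaller Sylow subgroup
  have hQcases : (q0 = a + 1 ∧ ∀ c d, tr hF c d ∈ H → c = 0) ∨
      (q0 = (a + 1) ^ 2 ∧ ∀ x y : K, tr hF (φ x) (φ y) ∈ H) := by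
    by_cases hall : ∀ c d, tr hF c d ∈ H → c = 0
    · refine Or.inl ⟨?_, hall⟩
      rw [hq0, haz, ← hZcard, ← Nat.card_coe_set_eq]
      exact Nat.card_congr
        { toFun := fun u => ⟨u.1.2, (hZ _).2 (by
            have h' : tr hF u.1.1 u.1.2 ∈ H := u.2
            rwa [hall _ _ h'] at h')⟩
          invFun := fun z => ⟨(0, (z : F)), (hZ _).1 z.2⟩
          left_inv := fun u => Subtype.ext (Prod.ext (hall _ _ u.2).symm rfl)
          right_inv := fun z => rfl }
    right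
    push Not at hall
    obtain ⟨c₀, d₀, hcd₀, hc₀⟩ := hall
    have hfst : ∀ {c d : F}, tr hF c d ∈ H → ∃ x, c = φ x := fun {c d} hcd => by
      obtain ⟨y, hy⟩ := (hZφ _).1 (hsq hcd)
      obtain ⟨x, hx⟩ := Finite.surjective_of_injective (theta_mul_injective (m := e) hKcard) y
      refine ⟨x, theta_mul_injective (m := m) hF ?_⟩
      show theta F m c * c = theta F m (φ x) * φ x
      rw [← hθ, ← map_mul, show theta K e x * x = y from hx, hy]
    obtain ⟨x₀, rfl⟩ := hfst hcd₀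
    have hx₀ : x₀ ≠ 0 := fun e => hc₀ (by rw [e, map_zero])
    obtain ⟨b₁, hb₁⟩ : ∃ b₁, tr hF 1 b₁ ∈ H := by
      obtain ⟨u, hu⟩ := exists_theta hKcard (m := e) x₀⁻¹
      have hu0 : u ≠ 0 := fun e' => inv_ne_zero hx₀ (by rw [← hu, e', map_zero])
      have h1 := hconj (Units.mk0 u hu0) hcd₀
      rw [Units.val_mk0, hu, ← map_mul, inv_mul_cancel₀ hx₀, map_one] at h1
      exact ⟨_, h1⟩
    obtain ⟨y₁, hy₁⟩ : ∃ y, φ y = b₁ := by
      obtain ⟨u, hu⟩ := exists_unit_ne_one (F := K) hepos hKcard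
      set c := theta K e (u : K) with hc
      have hc1 : c ≠ 1 := fun e' => hu (Units.ext ((theta K e).injective (by
        rw [Units.val_one, map_one]; exact e')))
      have hc0 : c + 1 ≠ 0 := fun e' => hc1 (CharTwo.add_eq_zero.1 e')
      obtain ⟨v, hv⟩ := exists_theta hKcard (m := e) (c + 1)
      have hv0 : v ≠ 0 := fun e' => hc0 (by rw [← hv, e', map_zero])
      have h1 := H.mul_mem hb₁ (hconj u hb₁)
      rw [tr_mul, mul_one, one_pow, one_mul] at h1
      have huv : theta K e (u : K) * (u : K) ^ 2 = theta K e (u : K) * theta K e (theta K e (u : K)) := by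
        rw [theta_theta hKcard]
      have hvv : theta K e v * v ^ 2 = (c + 1) * theta K e (c + 1) := by rw [← theta_theta hKcard v, hv]
      have h3 := hconj (Units.mk0 v hv0) hb₁
      rw [Units.val_mk0, hvv, hv, mul_one, map_add φ c 1, map_one φ, add_comm (φ c) 1] at h3
      rw [huv, ← hc] at h1
      obtain ⟨z, hz⟩ := (hZφ _).1 (hdiff h1 h3)
      set d := c + theta K e c with hd
      have hd0 : d ≠ 0 := fun e' => by
        rcases eq_zero_or_one_of_theta hKcard (m := e) (x := c) (CharTwo.add_eq_zero.1 e').symm with e'' | e''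
        · exact u.ne_zero ((theta K e).injective (by rw [map_zero]; exact e''))
        · exact hc1 e''
      have e' : b₁ * φ d = φ (z + c) := by
        rw [map_add φ z c, hz]
        simp only [hd, map_add, map_mul, map_one]
        linear_combination (b₁ * (φ c + φ (theta K e c)) - φ c) * h2
      exact ⟨(z + c) / d, by rw [map_div₀, ← e', mul_div_cancel_right₀ _ ((map_ne_zero _).2 hd0)]⟩
    have h10 : tr hF 1 0 ∈ H := by
      have h1 := hshift hb₁ ((hZφ _).2 ⟨y₁, hy₁⟩)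
      rwa [CharTwo.add_self_eq_zero] at h1
    have hmem : ∀ x y : K, tr hF (φ x) (φ y) ∈ H := by
      intro x y
      by_cases hx : x = 0
      · rw [hx, map_zero]; exact (hZ _).1 ((hZφ _).2 ⟨y, rfl⟩)
      obtain ⟨u, hu⟩ := exists_theta hKcard (m := e) x
      have hu0 : u ≠ 0 := fun e' => hx (by rw [← hu, e', map_zero])
      have h1 := hconj (Units.mk0 u hu0) h10
      rw [Units.val_mk0, hu, mul_one, mul_zero] at h1
      have h3 := hshift h1 ((hZφ _).2 ⟨y, rfl⟩)
      rwa [zero_add] at h3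
    refine ⟨?_, hmem⟩
    rw [hq0, haz, ← hKcard, ← Nat.card_eq_fintype_card, sq, ← Nat.card_prod, ← Nat.card_coe_set_eq]
    refine (Nat.card_eq_of_bijective (fun p : K × K => (⟨(φ p.1, φ p.2), hmem p.1 p.2⟩ : Qs))
      ⟨fun p p' e' => ?_, ?_⟩).symm
    · have e'' := congrArg Subtype.val e'
      exact Prod.ext (φ.injective (congrArg Prod.fst e'')) (φ.injective (congrArg Prod.snd e''))
    · rintro ⟨⟨c, d⟩, hcd⟩
      obtain ⟨x, rfl⟩ := hfst hcd
      obtain ⟨y, hy⟩ := (hZφ _).1 (hdiff hcd (hmem x 0))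
      exact ⟨(x, y), Subtype.ext (Prod.ext rfl (by rw [map_zero, sub_zero] at hy; exact hy))⟩
  have hQge : a + 1 ≤ q0 := by
    rcases hQcases with ⟨e', -⟩ | ⟨e', -⟩ <;> rw [e']
    exact Nat.le_self_pow two_ne_zero _
  -- the torus through infinity and zero
  set T0 := torusSubgroup (m := m) hF with hT0def
  have hT0 : IsTor T0 := isTor_torusSubgroup hm hF
  have hT0card : Nat.card (H ⊓ T0 : Subgroup (Cfsg.Sz F m)) = a := by
    rw [ha]
    refine (Nat.card_eq_of_bijective (fun s : L => (⟨tor hF (s : Fˣ), htor _ s.2,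
      (mem_torusSubgroup hF).2 ⟨_, rfl⟩⟩ : (H ⊓ T0 : Subgroup (Cfsg.Sz F m)))) ⟨?_, ?_⟩).symm
    · exact fun s t e' => Subtype.ext (tor_injective hF (congrArg Subtype.val e'))
    · rintro ⟨y, hyH, hyT⟩
      obtain ⟨s, rfl⟩ := (mem_torusSubgroup hF).1 hyT
      exact ⟨⟨s, 0, 0, by rw [tr_zero, one_mul]; exact hyH⟩, rfl⟩
  have ha7 : 7 ≤ a := by omega
  have hT0ne : H ⊓ T0 ≠ ⊥ := fun e' => by
    rw [Subgroup.card_eq_one.2 e'] at hT0card
    omega
  obtain ⟨j0, hj0, hj0c, hj0q, -, hj0w⟩ := exists_index hm hF (H := H) hT0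
  have hj04 : j0 ≠ 4 := hj0q (card_torusSubgroup hF)
  have hcls0 := ncard_cls hm hF hT0 hT0ne
  rw [hj0, hT0card, ← hh] at hcls0
  have hsub0 : X2 ∪ cls H T0 ⊆ (H : Set (Cfsg.Sz F m)) \ {1} := by
    rintro w (hw | hw)
    exacts [⟨hw.1, hw.2.ne_one hm hF⟩, ⟨hw.2.1, hw.1⟩]
  set R : Set (Cfsg.Sz F m) := ((H : Set (Cfsg.Sz F m)) \ {1}) \ (X2 ∪ cls H T0) with hR
  have hRcard : R.ncard + X2.ncard + (cls H T0).ncard + 1 = h := by
    rw [← hH1, ← Set.ncard_sdiff_add_ncard_of_subset hsub0 (Set.toFinite _),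
      Set.ncard_union_eq (hclsX hT0), ← hR]
    ring
  have hclsR : ∀ {T}, IsTor T → H ⊓ T ≠ ⊥ → ∀ y ∈ cls H T, y ∈ R → cls H T ⊆ R := by
    intro T hT hTne y hy hyR v hv
    refine ⟨⟨hv.2.1, hv.1⟩, fun hv' => ?_⟩
    rcases hv' with hv' | hv'
    · exact Set.disjoint_left.1 (hclsX hT) hv' hv
    · exact hyR.2 (Or.inr (cls_inter hm hF hT0 hT hv' hv y hy))
  have hexR : ∀ S : Set (Cfsg.Sz F m), S ⊆ R → S.ncard < R.ncard →
      ∃ T, IsTor T ∧ H ⊓ T ≠ ⊥ ∧ cls H T ⊆ R ∧ ∃ y ∈ cls H T, y ∉ S := by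
    intro S _ hlt
    obtain ⟨y, hyR, hyS⟩ := Set.exists_mem_notMem_of_ncard_lt_ncard hlt (Set.toFinite _)
    obtain ⟨T, hT, hTne, hyT⟩ := exists_torus_of hm hF hyR.1.1 hyR.1.2
      fun h' => hyR.2 (Or.inl ⟨hyR.1.1, h'⟩)
    exact ⟨T, hT, hTne, hclsR hT hTne y hyT hyR, y, hyT, hyS⟩
  obtain ⟨q1, hq1⟩ : ∃ q1, q0 = q1 + 2 := ⟨q0 - 2, by omega⟩
  obtain ⟨a1, ha1'⟩ : ∃ a1, a = a1 + 1 := ⟨a - 1, by omega⟩
  have hn0 : 0 < n := by omega
  -- the index is two
  have hj2 : j0 = 2 := by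
    rcases hj0c with e' | e' | e'
    · exfalso
      subst e'
      have hc0 : (cls H T0).ncard = n * q0 * a1 := by
        refine Nat.eq_of_mul_eq_mul_right (show 0 < a by omega) ?_
        rw [show a - 1 = a1 by omega, one_mul] at hcls0
        rw [hcls0, horder]; ring
      have hR1 : R.ncard + 1 = n := by
        rw [hX2card, hc0, horder, hq1, ha1', show q1 + 2 - 1 = q1 + 1 by omega] at hRcard
        nlinarith
      obtain ⟨T, hT, hTne, hTR, -⟩ := hexR ∅ (Set.empty_subset _) (by rw [Set.ncard_empty]; omega)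
      have h5 := hbound5 hT hTne
      have hle := Set.ncard_le_ncard hTR (Set.toFinite _)
      have : 6 * n ≤ h := by
        rw [horder, mul_comm 6 n]
        exact Nat.mul_le_mul_left n (by nlinarith)
      omega
    · exact e'
    · exact absurd e' hj04
  subst hj2
  have hR2 : 2 * R.ncard + 2 + n * q0 = h + 2 * n := by
    have hc0 : 2 * (cls H T0).ncard = n * q0 * a1 := by
      refine Nat.eq_of_mul_eq_mul_right (show 0 < a by omega) ?_
      rw [show a - 1 = a1 by omega] at hcls0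
      rw [show 2 * (cls H T0).ncard * a = (cls H T0).ncard * (2 * a) by ring, hcls0, horder]; ring
    rw [hX2card, hq1, show q1 + 2 - 1 = q1 + 1 by omega] at hRcard
    rw [hq1] at hc0 ⊢
    have := horder
    rw [hq1, ha1'] at this
    nlinarith
  obtain ⟨w, hwH, hwN, hwT⟩ := hj0w dvd_rfl
  have hnd : n ∣ Nat.card (Cfsg.Sz F m) :=
    (horder ▸ dvd_mul_right n (q0 * a) : n ∣ h).trans (Subgroup.card_subgroup_dvd_card H)
  -- `n ≡ 1` modulo `q0`
  obtain ⟨jn, hjn⟩ : ∃ j, n = 1 + j * q0 := by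
    let Q : Subgroup (Cfsg.Sz F m) := H ⊓ U hF
    have hQcard : Nat.card Q = q0 := by
      rw [hq0, ← Nat.card_coe_set_eq]
      refine (Nat.card_eq_of_bijective (fun u : Qs => (⟨tr hF u.1.1 u.1.2, u.2, u.1.1, u.1.2, rfl⟩ : Q))
        ⟨fun u v e' => ?_, ?_⟩).symm
      · obtain ⟨e1, e2⟩ := tr_injective hF (congrArg Subtype.val e')
        exact Subtype.ext (Prod.ext e1 e2)
      · rintro ⟨y, hyH, c, d, rfl⟩
        exact ⟨⟨(c, d), hyH⟩, rfl⟩
    let O' : Set (Cfsg.suzukiOvoid F m) := O \ {infty m}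
    have hmem : ∀ (u : Q) (p : O'), (u : Cfsg.Sz F m) • (p : Cfsg.suzukiOvoid F m) ∈ O' := by
      rintro ⟨u, huH, c, d, rfl⟩ ⟨p, ⟨g, hg, rfl⟩, hp⟩
      refine ⟨⟨tr hF c d * g, H.mul_mem huH hg, by rw [mul_smul]⟩, fun e' => hp ?_⟩
      rw [Set.mem_singleton_iff] at e' ⊢
      exact smul_left_cancel _ (e'.trans (tr_smul_infty hF c d).symm)
    letI : MulAction Q O' :=
      { smul := fun u p => ⟨(u : Cfsg.Sz F m) • (p : Cfsg.suzukiOvoid F m), hmem u p⟩
        one_smul := fun p => Subtype.ext (one_smul _ (p : Cfsg.suzukiOvoid F m))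
        mul_smul := fun u v p => Subtype.ext (mul_smul (u : Cfsg.Sz F m) v (p : Cfsg.suzukiOvoid F m)) }
    have hfree : ∀ p : O', stabilizer Q p = ⊥ := by
      intro p
      rw [eq_bot_iff]
      rintro ⟨u, huH, c, d, rfl⟩ hu
      rw [Subgroup.mem_bot]
      apply Subtype.ext
      show tr hF c d = 1
      by_contra hne1
      have hcd : c ≠ 0 ∨ d ≠ 0 := by
        by_contra hc
        push Not at hc
        exact hne1 (by rw [hc.1, hc.2, tr_zero])
      exact p.2.2 (eq_infty_of_tr_fixed hF hcd (congrArg Subtype.val hu))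
    haveI : Fintype (Quotient (orbitRel Q O')) := Fintype.ofFinite _
    have hcard : Nat.card O' = Fintype.card (Quotient (orbitRel Q O')) * q0 := by
      rw [Nat.card_congr (selfEquivSigmaOrbitsQuotientStabilizer Q O'), Nat.card_sigma]
      rw [Finset.sum_const_nat (m := q0) fun x _ => by
        rw [← Subgroup.index_eq_card, hfree, Subgroup.index_bot, hQcard], Finset.card_univ]
    refine ⟨Fintype.card (Quotient (orbitRel Q O')), ?_⟩
    rw [← hcard, Nat.card_coe_set_eq, hn, add_comm,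
      Set.ncard_sdiff_singleton_add_one hinfO (Set.toFinite _)]
  have hnodd : Odd n := by
    have : Even q0 := by
      rcases hQcases with ⟨e', -⟩ | ⟨e', -⟩ <;> rw [e']
      · exact haodd.add_odd odd_one
      · exact (haodd.add_odd odd_one).pow_of_ne_zero two_ne_zero
    rw [hjn, add_comm]
    exact (this.mul_left jn).add_one
  obtain ⟨T1, hT1, hT1ne, hT1R, -⟩ := hexR ∅ (Set.empty_subset _) (by
    rw [Set.ncard_empty]
    have : n * 7 * q0 ≤ h := by rw [horder, mul_assoc]; exact Nat.mul_le_mul_left n (by nlinarith)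
    nlinarith)
  obtain ⟨j1, hj1, hj1c, -, hj14, -⟩ := exists_index hm hF (H := H) hT1
  set t1 := Nat.card (H ⊓ T1 : Subgroup (Cfsg.Sz F m)) with ht1
  have hb1 := hbound hT1 hT1ne j1 hj1
  have hle1 := Set.ncard_le_ncard hT1R (Set.toFinite _)
  have hcls1 := ncard_cls hm hF hT1 hT1ne
  rw [hj1, ← hh, ← ht1] at hcls1
  have ht15 : 5 ≤ t1 := five_le_inf hm hF hT1 hT1ne
  have h2R : 2 * R.ncard < h := by nlinarith
  have h4R : h < 4 * R.ncard := by
    have : n * 7 * q0 ≤ h := by rw [horder, mul_assoc]; exact Nat.mul_le_mul_left n (by nlinarith)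
    nlinarith
  rcases hj1c with e' | e' | e' <;> subst e'
  · exfalso; omega
  · -- one class of index two
    have hRT1 : R = cls H T1 := by
      refine (Set.Subset.antisymm (fun y hy => ?_) hT1R)
      by_contra hyT
      obtain ⟨T2, hT2, hT2ne, hyT2⟩ := exists_torus_of hm hF hy.1.1 hy.1.2
        fun h' => hy.2 (Or.inl ⟨hy.1.1, h'⟩)
      have hd : Disjoint (cls H T1) (cls H T2) := Set.disjoint_left.2 fun v hv hv' =>
        hyT (cls_inter hm hF hT1 hT2 hv hv' y hyT2)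
      have hle := Set.ncard_le_ncard (Set.union_subset hT1R (hclsR hT2 hT2ne y hyT2 hy)) (Set.toFinite _)
      rw [Set.ncard_union_eq hd] at hle
      have := hbound5 hT2 hT2ne
      omega
    rw [← hRT1] at hcls1
    have key : t1 * (n * (q0 - 2) + 2) = n * q0 * a := by
      rw [hq1, Nat.add_sub_cancel]
      obtain ⟨t, ht⟩ : ∃ t, t1 = t + 1 := ⟨t1 - 1, by omega⟩
      rw [ht, Nat.add_sub_cancel] at hcls1
      rw [ht]
      rw [hq1] at hR2 horder
      nlinarith
    rcases hQcases with ⟨eq0, -⟩ | ⟨eq0, -⟩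
    · exfalso
      rw [eq0, show a + 1 - 2 = a - 1 by omega] at key
      have e3 := single_class_elementary hn1 hnodd (by omega) key
      refine not_three_dvd_card hm hF (Nat.dvd_trans ?_ hnd)
      rw [e3, show a + 2 = a + 1 + 1 by omega, haz, pow_succ, pow_mul]
      have : ((2 ^ 2) ^ e * 2 + 1) % 3 = 0 := by
        rw [Nat.add_mod, Nat.mul_mod, Nat.pow_mod]; norm_num
      exact Nat.dvd_of_mod_eq_zero this
    · exact absurd key (no_single_class hn1 ha7 eq0)
  -- two classes of index four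
  obtain ⟨T2, hT2, hT2ne, hT2R, y2, hy2T, hy2⟩ := hexR (cls H T1) hT1R (by
    have : 4 * (cls H T1).ncard * t1 ≤ h * t1 := by
      rw [show 4 * (cls H T1).ncard * t1 = (cls H T1).ncard * (4 * t1) by ring, hcls1]
      exact Nat.mul_le_mul_left h (Nat.sub_le _ _)
    have := Nat.le_of_mul_le_mul_right this (by omega)
    omega)
  have hd12 : Disjoint (cls H T1) (cls H T2) := Set.disjoint_left.2 fun v hv hv' =>
    hy2 (cls_inter hm hF hT1 hT2 hv hv' y2 hy2T)
  obtain ⟨j2, hj2', hj2c, -, -, -⟩ := exists_index hm hF (H := H) hT2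
  set t2 := Nat.card (H ⊓ T2 : Subgroup (Cfsg.Sz F m)) with ht2
  have hb2 := hbound hT2 hT2ne j2 hj2'
  have hle12 := Set.ncard_le_ncard (Set.union_subset hT1R hT2R) (Set.toFinite _)
  rw [Set.ncard_union_eq hd12] at hle12
  have hj24 : j2 = 4 := by rcases hj2c with e' | e' | e' <;> subst e' <;> omega
  subst hj24
  have hR12 : R = cls H T1 ∪ cls H T2 := by
    refine Set.Subset.antisymm (fun y hy => ?_) (Set.union_subset hT1R hT2R)
    by_contra hyT
    rw [Set.mem_union] at hyT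
    push Not at hyT
    obtain ⟨T3, hT3, hT3ne, hyT3⟩ := exists_torus_of hm hF hy.1.1 hy.1.2
      fun h' => hy.2 (Or.inl ⟨hy.1.1, h'⟩)
    have hd : Disjoint (cls H T1 ∪ cls H T2) (cls H T3) := by
      rw [Set.disjoint_union_left]
      exact ⟨Set.disjoint_left.2 fun v hv hv' => hyT.1 (cls_inter hm hF hT1 hT3 hv hv' y hyT3),
        Set.disjoint_left.2 fun v hv hv' => hyT.2 (cls_inter hm hF hT2 hT3 hv hv' y hyT3)⟩
    have hle := Set.ncard_le_ncard (Set.union_subset (Set.union_subset hT1R hT2R)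
      (hclsR hT3 hT3ne y hyT3 hy)) (Set.toFinite _)
    rw [Set.ncard_union_eq hd, Set.ncard_union_eq hd12] at hle
    have := hbound5 hT3 hT3ne
    omega
  have hcls2 := ncard_cls hm hF hT2 hT2ne
  rw [hj2', ← hh, ← ht2] at hcls2
  have ht25 : 5 ≤ t2 := five_le_inf hm hF hT2 hT2ne
  obtain ⟨v4, hv4, hv4o⟩ := hj14 rfl
  rcases hQcases with ⟨-, hQ0⟩ | ⟨eq0, hmem⟩
  · -- no element of order four
    exfalso
    have ht4 := trType_of_order hm hF (Or.inr hv4o)
    obtain ⟨p, hp, -⟩ := ht4.exists_fixed hm hF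
    set P : O := ⟨p, hfixO v4 hv4 ht4 p hp⟩
    have hfix : ((γ P)⁻¹ * v4 * γ P) • infty (F := F) m = infty m := by
      rw [mul_smul, mul_smul, hγ, show v4 • p = p from hp, inv_smul_eq_iff, hγ]
    obtain ⟨c, d, s, hs⟩ := exists_tr_to hm hF hfix
    have hyH' : (γ P)⁻¹ * v4 * γ P ∈ H :=
      H.mul_mem (H.mul_mem (H.inv_mem (hγH _)) hv4) (hγH _)
    rw [hs] at hyH'
    have hu : tr hF c d ∈ H := by
      simpa using H.mul_mem hyH' (H.inv_mem (htor s ⟨c, d, hyH'⟩))
    obtain rfl := hQ0 c d hu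
    have h4 : orderOf ((γ P)⁻¹ * v4 * (γ P)⁻¹⁻¹) = 4 := by rw [orderOf_conj_eq, hv4o]
    rw [inv_inv, hs] at h4
    by_cases hs1 : s = 1
    · rw [hs1, tor_one, mul_one] at h4
      exact absurd rfl ((orderOf_tr_zero_iff hF).2.1 h4)
    · obtain ⟨c', d', hc'⟩ := exists_conj_tor hF 0 d hs1
      rw [← hc', orderOf_conj_eq] at h4
      have := odd_orderOf_tor' (m := m) hm hF s
      rw [h4] at this
      exact absurd this (by decide)
  have hco12 : Nat.Coprime t1 t2 := coprime_of_disjoint hm hF hT1 hT2 hd12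
  have ht1odd : Odd t1 := hT1.2.2.1.of_dvd_nat (Subgroup.card_dvd_of_le inf_le_right)
  have ht2odd : Odd t2 := hT2.2.2.1.of_dvd_nat (Subgroup.card_dvd_of_le inf_le_right)
  have hqpow : q0 = 2 ^ ((2 * e + 1) * 2) := by rw [eq0, haz, ← pow_mul]
  have hcop : ∀ {T}, IsTor T → Disjoint (cls H T0) (cls H T) →
      Odd (Nat.card (H ⊓ T : Subgroup (Cfsg.Sz F m))) →
      Nat.Coprime (Nat.card (H ⊓ T : Subgroup (Cfsg.Sz F m))) (q0 * a) := by
    intro T hT hd hod
    refine Nat.Coprime.mul_right ?_ ?_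
    · rw [hqpow]; exact coprime_of_two_pow hod
    · rw [← hT0card]; exact (coprime_of_disjoint hm hF hT0 hT hd).symm
  have hdis : ∀ {T}, cls H T ⊆ R → Disjoint (cls H T0) (cls H T) := fun hTR =>
    Set.disjoint_left.2 fun v hv hv' => (hTR hv').2 (Or.inr hv)
  have hdvd12 : t1 * t2 ∣ n := by
    refine Nat.Coprime.dvd_of_dvd_mul_right
      ((hcop hT1 (hdis hT1R) ht1odd).mul_left (hcop hT2 (hdis hT2R) ht2odd)) ?_
    rw [← horder]
    exact hco12.mul_dvd_of_dvd_of_dvd (Subgroup.card_dvd_of_le inf_le_left)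
      (Subgroup.card_dvd_of_le inf_le_left)
  have heq : (t1 + t2) * (n * q0 * a) = 2 * (t1 * t2) * (n * (q0 - 2) + 2) := by
    rw [hR12, Set.ncard_union_eq hd12] at hR2
    obtain ⟨u1, hu1⟩ : ∃ u, t1 = u + 1 := ⟨t1 - 1, by omega⟩
    obtain ⟨u2, hu2⟩ : ∃ u, t2 = u + 1 := ⟨t2 - 1, by omega⟩
    rw [hu1, Nat.add_sub_cancel] at hcls1
    rw [hu2, Nat.add_sub_cancel] at hcls2
    rw [hu1, hu2, hq1, Nat.add_sub_cancel]
    rw [hq1] at hR2 horder
    zify at hcls1 hcls2 hR2 horder ⊢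
    linear_combination (-(((u1 : ℤ) + 1) + ((u2 : ℤ) + 1))) * horder +
      (-2 * ((u1 : ℤ) + 1) * ((u2 : ℤ) + 1)) * hR2 +
      ((u2 : ℤ) + 1) * hcls1 + ((u1 : ℤ) + 1) * hcls2
  have hneq := two_classes ha7 haodd eq0 hjn ht1odd ht2odd (by omega) (by omega) hco12 hdvd12 heq
  -- the orbit of infinity consists of the points of the subfield
  obtain ⟨uσ, huσ⟩ := exists_unit_ne_one (F := K) hepos hKcard
  set σ : Fˣ := Units.map φ.toMonoidHom uσ with hσ
  have hσ1 : σ ≠ 1 := fun e' => huσ (Units.map_injective φ.injective (e'.trans (map_one _).symm))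
  have hσT : tor hF σ ∈ T0 := (mem_torusSubgroup hF).2 ⟨σ, rfl⟩
  have hmoves : ∀ p : Cfsg.suzukiOvoid F m, (∀ t, tor hF t • p = p) →
      w • p = infty m ∨ w • p = point m 0 0 := by
    intro p hp
    refine tor_fixed hF hσ1 ?_
    have hmem' : w⁻¹ * tor hF σ * w ∈ T0 := (Subgroup.mem_set_normalizer_iff''.1 hwN _).1 hσT
    obtain ⟨t, ht⟩ := (mem_torusSubgroup hF).1 hmem'
    rw [← mul_smul, show tor hF σ * w = w * (w⁻¹ * tor hF σ * w) by group, ht, mul_smul, hp]
  have hne00 := point_ne_infty (F := F) (m := m) 0 0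
  have e0 := hmoves _ (tor_smul_infty hF)
  have e1 := hmoves _ (tor_smul_zero hF)
  have hw1 : w • infty (F := F) m = point m 0 0 := e0.resolve_left fun e' => by
    obtain ⟨t, ht⟩ := exists_to hm hF e'
      (e1.resolve_left fun e'' => hne00 (smul_left_cancel w (e''.trans e'.symm)))
    exact hwT ((mem_torusSubgroup hF).2 ⟨t, ht⟩)
  have hw0 : w • point (F := F) m 0 0 = infty m := e1.resolve_right fun e' =>
    hne00 (smul_left_cancel w (e'.trans hw1.symm))
  obtain ⟨t, ht⟩ := exists_to hm hF (g := sw hF * w) (by rw [mul_smul, hw1, sw_smul_zero])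
    (by rw [mul_smul, hw0, sw_smul_infty])
  have hwe : w = sw hF * tor hF t := by rw [← ht, ← mul_assoc, sw_mul_self, one_mul]
  have hOK : O = insert (infty (F := F) m) (Set.range fun p : K × K => point m (φ p.1) (φ p.2)) := by
    refine (Set.eq_of_subset_of_ncard_le ?_ ?_ (Set.toFinite _)).symm
    · rintro p (rfl | ⟨⟨x, y⟩, rfl⟩)
      · exact hinfO
      · refine ⟨tr hF (φ x) (φ y) * w, H.mul_mem (hmem x y) hwH, ?_⟩
        rw [mul_smul, hw1, tr_smul_zero]
    · have hinj : Function.Injective fun p : K × K => point (F := F) m (φ p.1) (φ p.2) := fun p p' e' =>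
        Prod.ext (φ.injective (point_injective e').1) (φ.injective (point_injective e').2)
      rw [← hn, hneq, eq0, haz, Set.ncard_insert_of_notMem ?_ (Set.toFinite _), ← Set.image_univ,
        Set.ncard_image_of_injective _ hinj, Set.ncard_univ, Nat.card_prod, Nat.card_eq_fintype_card,
        hKcard, ← sq]
      rintro ⟨p, hp⟩
      exact point_ne_infty _ _ hp
  set c := theta F m (t : F) * (t : F) ^ 2 with hc
  have hc0 : c ≠ 0 := mul_ne_zero ((map_ne_zero _).2 t.ne_zero) (pow_ne_zero _ t.ne_zero)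
  obtain ⟨ξ, hξ⟩ : ∃ ξ, c / theta F m c = φ ξ := by
    have hpt : point (F := F) m 0 1 ∈ O := by
      rw [hOK]; exact Or.inr ⟨(0, 1), by simp⟩
    obtain ⟨g, hg, hgp⟩ := hpt
    have himg : (w * g) • infty (F := F) m = point m (c / theta F m c) 0 := by
      rw [mul_smul, hgp, hwe, mul_smul, tor_smul_point, ← theta_def, ← hc, mul_zero, mul_one,
        sw_smul_point hF (by rw [ovf_eq]; simpa using hc0)]
      simp [ovf_eq]
    have hin : point m (c / theta F m c) 0 ∈ O := ⟨w * g, H.mul_mem hwH hg, himg⟩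
    rw [hOK] at hin
    rcases hin with hin | ⟨⟨x, y⟩, hxy⟩
    · exact absurd hin (point_ne_infty _ _)
    · exact ⟨x, (point_injective hxy).1.symm⟩
  have hξ0 : ξ ≠ 0 := fun e' => by
    rw [e', map_zero, div_eq_zero_iff] at hξ
    exact hξ.elim hc0 ((map_ne_zero _).2 hc0)
  obtain ⟨c', hc'0, hc'⟩ : ∃ c' : K, c' ≠ 0 ∧ c' / theta K e c' = ξ := by
    let g' : Kˣ → Kˣ := fun u => u / Units.map (theta K e).toMonoidHom u
    have hg' : Function.Injective g' := by
      intro u v e'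
      have e'' : ((u / v : Kˣ) : K) = theta K e ((u / v : Kˣ) : K) := by
        have e3 : u / v = Units.map (theta K e).toMonoidHom (u / v) := by
          rw [map_div]
          exact div_eq_div_iff_div_eq_div.1 e'
        exact congrArg Units.val e3
      rcases eq_zero_or_one_of_theta hKcard (m := e) e''.symm with h' | h'
      · exact absurd h' (Units.ne_zero _)
      · exact div_eq_one.1 (Units.ext h')
    obtain ⟨u, hu⟩ := Finite.surjective_of_injective hg' (Units.mk0 ξ hξ0)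
    refine ⟨u, u.ne_zero, ?_⟩
    have := congrArg Units.val hu
    simpa [g', Units.val_div_eq_div_val] using this
  have hce : c = φ c' := by
    have hφc : φ c' ≠ 0 := (map_ne_zero _).2 hc'0
    have e2 : c / theta F m c = φ c' / theta F m (φ c') := by rw [hξ, ← hc', map_div₀, hθ]
    have e3 : theta F m (c / φ c') = c / φ c' := by
      rw [map_div₀, div_eq_div_iff ((map_ne_zero _).2 hφc) hφc]
      rw [div_eq_div_iff ((map_ne_zero _).2 hc0) ((map_ne_zero _).2 hφc)] at e2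
      linear_combination -e2
    rcases eq_zero_or_one_of_theta hF (m := m) e3 with h' | h'
    · exact absurd h' (div_ne_zero hc0 hφc)
    · exact (div_eq_one_iff_eq hφc).1 h'
  obtain ⟨v, hv⟩ := Finite.surjective_of_injective (theta_mul_sq_injective (m := e) hKcard) c'
  have hv' : theta K e v * v ^ 2 = c' := hv
  have hv0 : v ≠ 0 := fun e' => hc'0 (by rw [← hv', e']; simp)
  have hte : Units.map φ.toMonoidHom (Units.mk0 v hv0) = t := by
    refine Units.ext (theta_mul_sq_injective (m := m) hF ?_)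
    show theta F m (φ v) * φ v ^ 2 = theta F m (t : F) * (t : F) ^ 2
    rw [← hθ, ← map_pow, ← map_mul, hv', ← hc, hce]
  have hswH : sw hF ∈ H := by
    have := H.mul_mem hwH (H.inv_mem (htor _ (hte ▸ hLK (Units.mk0 v hv0))))
    rwa [hwe, mul_inv_cancel_right] at this
  refine Or.inr (Or.inr ⟨K, iK1, iK2, iK3, e, hepos, hKcard, hediv, φ, 1, ?_⟩)
  rw [show (MulAut.conj (1 : Cfsg.Sz F m)).toMonoidHom = MonoidHom.id _ by rw [map_one]; rfl,
    Subgroup.map_id]
  refine (Subgroup.eq_of_le_of_card_ge ?_ (le_of_eq ?_)).symm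
  · rintro _ ⟨g, rfl⟩
    rcases bruhat hepos hKcard g with ⟨x, y, s, rfl⟩ | ⟨x, y, x', y', s, rfl⟩
    · rw [map_mul, subfieldHom_tr, subfieldHom_tor]
      exact H.mul_mem (hmem x y) (htor _ (hLK s))
    · rw [map_mul, map_mul, map_mul, subfieldHom_tr, subfieldHom_tr, subfieldHom_tor, subfieldHom_sw]
      exact H.mul_mem (H.mul_mem (hmem x y) hswH) (H.mul_mem (hmem x' y') (htor _ (hLK s)))
  · rw [← hh, ← Nat.card_congr (MonoidHom.ofInjective (subfieldHom_injective hm hF hepos hKcard hediv φ)).toEquiv,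
      card_eq hepos hKcard, horder, hneq, eq0, hKcard, show a = 2 ^ (2 * e + 1) - 1 by omega,
      Nat.sub_add_cancel (by omega)]
    ring

/-- Every subgroup fixes a point, normalizes a torus, or is a subfield subgroup. -/
theorem subgroup_shape (H : Subgroup (Cfsg.Sz F m)) : SubgroupShape hm hF H := by
  classical
  by_cases hodd : ∀ y ∈ H, orderOf y ≠ 2
  · exact shape_of_odd hm hF hodd
  push Not at hodd
  obtain ⟨z, hz, hzo⟩ := hodd
  by_cases hfix : ∀ p : Cfsg.suzukiOvoid F m, ∃ g ∈ H, g • p ≠ p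
  swap
  · push Not at hfix
    exact Or.inl hfix
  obtain ⟨g₁, a, b, -, he⟩ := trType_of_order hm hF (Or.inl hzo)
  have hab : orderOf (tr hF a b : Cfsg.Sz F m) = 2 := by rw [← he, orderOf_conj_eq, hzo]
  obtain ⟨ha, hb⟩ := (orderOf_tr_zero_iff hF).1.1 hab
  subst ha
  obtain ⟨lam, hlam⟩ := Finite.surjective_of_injective (theta_mul_sq_injective (m := m) hF) b⁻¹
  have hlam' : theta F m lam * lam ^ 2 = b⁻¹ := hlam
  have hlam0 : lam ≠ 0 := fun e => inv_ne_zero hb (by rw [← hlam', e]; simp)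
  set g₂ : Cfsg.Sz F m := tor hF (Units.mk0 lam hlam0) * g₁ with hg₂
  set H₂ := H.map (MulAut.conj g₂).toMonoidHom with hH₂
  have hne₂ : ∀ p : Cfsg.suzukiOvoid F m, ∃ g ∈ H₂, g • p ≠ p := fun p => by
    obtain ⟨y, hy, hyp⟩ := hfix (g₂⁻¹ • p)
    refine ⟨g₂ * y * g₂⁻¹, ⟨y, hy, rfl⟩, fun e => hyp ?_⟩
    rw [mul_smul, mul_smul] at e
    rw [eq_inv_smul_iff, e]
  have hone₂ : tr hF 0 1 ∈ H₂ := by
    refine ⟨z, hz, ?_⟩
    show g₂ * z * g₂⁻¹ = tr hF 0 1
    rw [hg₂, show tor hF (Units.mk0 lam hlam0) * g₁ * z * (tor hF (Units.mk0 lam hlam0) * g₁)⁻¹ =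
      tor hF (Units.mk0 lam hlam0) * (g₁ * z * g₁⁻¹) * (tor hF (Units.mk0 lam hlam0))⁻¹ by group, he,
      conj_tr, mul_zero, Units.val_mk0, ← theta_def, hlam', inv_mul_cancel₀ hb]
  obtain ⟨g₃, hone₃, htor₃⟩ := exists_normalize_torus hm hF hne₂ hone₂
  refine shape_of_conj hm hF g₂ (shape_of_conj hm hF g₃ (shape_normalized hm hF (fun p => ?_) hone₃ htor₃))
  obtain ⟨y, hy, hyp⟩ := hne₂ (g₃⁻¹ • p)
  refine ⟨g₃ * y * g₃⁻¹, ⟨y, hy, rfl⟩, fun e => hyp ?_⟩
  rw [mul_smul, mul_smul] at e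
  rw [eq_inv_smul_iff, e]

/-- Proper subgroups lie in the standard maximal subgroups. -/
theorem proper_subgroup_cases (M : Subgroup (Cfsg.Sz F m)) (hM : M ≠ ⊤) :
    (∃ P : Sylow 2 (Cfsg.Sz F m), M ≤ Subgroup.normalizer ((P : Subgroup (Cfsg.Sz F m)) : Set (Cfsg.Sz F m))) ∨
    (∃ V : Subgroup (Cfsg.Sz F m), IsCyclic V ∧ Nat.card V ∈ ({2 ^ (2 * m + 1) - 1,
        2 ^ (2 * m + 1) + 2 ^ (m + 1) + 1, 2 ^ (2 * m + 1) - 2 ^ (m + 1) + 1} : Set ℕ) ∧
      M ≤ Subgroup.normalizer (V : Set (Cfsg.Sz F m))) ∨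
    (∃ (K : Type) (_ : Field K) (_ : Fintype K) (k : ℕ), 1 ≤ k ∧ k < m ∧
      Fintype.card K = 2 ^ (2 * k + 1) ∧ 2 * k + 1 ∣ 2 * m + 1 ∧
      ∃ S : Subgroup (Cfsg.Sz F m), Nonempty (S ≃* Cfsg.Sz K k) ∧ M ≤ S) := by
  rcases subgroup_shape hm hF M with ⟨p, hp⟩ | ⟨T, hT, hle⟩ |
    ⟨K, iK1, iK2, iK3, k, hk, hK, hdiv, φ, g, hg⟩
  · left
    haveI := pretransitive (m := m) hF
    obtain ⟨P₀, hP₀⟩ := exists_sylow hm hF
    obtain ⟨g, rfl⟩ := MulAction.exists_smul_eq (Cfsg.Sz F m) (infty (F := F) m) p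
    refine ⟨g • P₀, fun h hh => ?_⟩
    rw [Sylow.coe_subgroup_smul, hP₀]
    show h ∈ Subgroup.normalizer (((U hF).map (MulAut.conj g).toMonoidHom : Subgroup _) : Set (Cfsg.Sz F m))
    rw [← Subgroup.map_equiv_normalizer_eq, normalizer_U hm hF]
    refine ⟨g⁻¹ * h * g, ?_, show g * (g⁻¹ * h * g) * g⁻¹ = h by group⟩
    show (g⁻¹ * h * g) • infty (F := F) m = infty m
    rw [mul_smul, mul_smul, hp h hh, inv_smul_smul]
  · refine Or.inr (Or.inl ⟨T, hT.2.1, ?_, hle⟩)
    rcases hT.cases hm hF with ⟨e, -, -⟩ | ⟨e | e, -, -⟩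
    · rw [e, hF]; exact Or.inl rfl
    · exact Or.inr (Or.inl e)
    · exact Or.inr (Or.inr e)
  · refine Or.inr (Or.inr ⟨K, iK1, iK2, k, hk, ?_, hK, hdiv, M, ⟨?_⟩, le_rfl⟩)
    · rcases Nat.lt_or_ge k m with hlt | hge
      · exact hlt
      exfalso
      have hkm : k = m := le_antisymm (by have := Nat.le_of_dvd (by omega) hdiv; omega) hge
      subst hkm
      refine hM (Subgroup.eq_top_of_card_eq M ?_)
      rw [← Subgroup.card_map_of_injective (K := M) (f := (MulAut.conj g).toMonoidHom) (MulAut.conj g).injective]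
      show Nat.card (M.map (MulAut.conj g).toMonoidHom) = _
      rw [hg, ← Nat.card_congr (MonoidHom.ofInjective (subfieldHom_injective hm hF hk hK hdiv φ)).toEquiv,
        card_eq hk hK, card_eq hm hF, hK, hF]
    · exact ((M.equivMapOfInjective (MulAut.conj g).toMonoidHom (MulAut.conj g).injective).trans
        (MulEquiv.subgroupCongr hg)).trans
        (MonoidHom.ofInjective (subfieldHom_injective hm hF hk hK hdiv φ)).symm

end Cfsg.Agent.Suzuki
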