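import Mathlib

/-!
# Arithmetic of `q ± r + 1` for `q = 2 ^ (2 m + 1)`, `r = 2 ^ (m + 1)`
-/

set_option autoImplicit false

namespace Cfsg.Agent.Suzuki

/-- `q + r + 1`. -/
def kPlus (m : ℕ) : ℕ := 2 ^ (2 * m + 1) + 2 ^ (m + 1) + 1

/-- `q - r + 1`. -/
def kMinus (m : ℕ) : ℕ := 2 ^ (2 * m + 1) - 2 ^ (m + 1) + 1

variable {m : ℕ}

theorem r_sq (m : ℕ) : 2 ^ (m + 1) * 2 ^ (m + 1) = 2 * 2 ^ (2 * m + 1) := by
  rw [← pow_add, ← pow_succ']; ring_nf

theorem four_le_r (hm : 1 ≤ m) : 4 ≤ 2 ^ (m + 1) :=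
  le_trans (by norm_num) (Nat.pow_le_pow_right (by norm_num) (show 2 ≤ m + 1 by omega))

theorem two_mul_r_le (hm : 1 ≤ m) : 2 * 2 ^ (m + 1) ≤ 2 ^ (2 * m + 1) := by
  have := r_sq m
  have := four_le_r hm
  nlinarith

theorem five_le_kMinus (hm : 1 ≤ m) : 5 ≤ kMinus m := by
  have := two_mul_r_le hm
  have := four_le_r hm
  unfold kMinus
  omega

theorem five_le_kPlus (hm : 1 ≤ m) : 5 ≤ kPlus m := by
  have := four_le_r hm
  have := two_mul_r_le hm
  unfold kPlus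
  omega

theorem kPlus_mul_kMinus (hm : 1 ≤ m) : kPlus m * kMinus m = (2 ^ (2 * m + 1)) ^ 2 + 1 := by
  have h1 := r_sq m
  have h2 := two_mul_r_le hm
  unfold kPlus kMinus
  obtain ⟨d, hd⟩ : ∃ d, 2 ^ (2 * m + 1) = 2 ^ (m + 1) + d := ⟨2 ^ (2 * m + 1) - 2 ^ (m + 1), by omega⟩
  rw [hd, Nat.add_sub_cancel_left]
  rw [hd] at h1
  nlinarith

theorem odd_kPlus (hm : 1 ≤ m) : Odd (kPlus m) := by
  have h : Odd (kPlus m * kMinus m) := by
    rw [kPlus_mul_kMinus hm]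
    exact ((even_two.pow_of_ne_zero (by omega)).pow_of_ne_zero two_ne_zero).add_one
  exact (Nat.odd_mul.1 h).1

theorem odd_kMinus (hm : 1 ≤ m) : Odd (kMinus m) := by
  have h : Odd (kPlus m * kMinus m) := by
    rw [kPlus_mul_kMinus hm]
    exact ((even_two.pow_of_ne_zero (by omega)).pow_of_ne_zero two_ne_zero).add_one
  exact (Nat.odd_mul.1 h).2

theorem coprime_of_two_pow {k j : ℕ} (hk : Odd k) : Nat.Coprime k (2 ^ j) :=
  (Nat.coprime_two_right.2 hk).pow_right j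

theorem coprime_kPlus_kMinus (hm : 1 ≤ m) : Nat.Coprime (kPlus m) (kMinus m) := by
  refine Nat.coprime_of_dvd' fun p hp hp1 hp2 => ?_
  have h2 := two_mul_r_le hm
  have he : kPlus m = kMinus m + 2 ^ (m + 2) := by
    unfold kPlus kMinus; rw [pow_succ]; ring_nf; ring_nf at h2; omega
  have h3 : p ∣ 2 ^ (m + 2) := (Nat.dvd_add_right hp2).1 (he ▸ hp1)
  rw [← Nat.coprime_iff_gcd_eq_one.1 (coprime_of_two_pow (odd_kPlus hm) (j := m + 2))]
  exact Nat.dvd_gcd hp1 h3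

theorem eq_one_of_dvd_of_coprime (hm : 1 ≤ m) {d a : ℕ} (hd : d ∣ (2 ^ (2 * m + 1)) ^ 2 + 1)
    (ha : d ∣ a) (h1 : Nat.Coprime a (kPlus m)) (h2 : Nat.Coprime a (kMinus m)) : d = 1 := by
  rw [← kPlus_mul_kMinus hm] at hd
  exact Nat.eq_one_of_dvd_coprimes (h1.mul_right h2) ha hd

theorem order_cases (hm : 1 ≤ m) {d : ℕ} (hd : d ∣ (2 ^ (2 * m + 1)) ^ 2 + 1)
    (h : (d ∣ 1 + 2 ^ (2 * m + 1) - 2 ^ (m + 1)) ∨ (d ∣ 1 + 2 ^ (2 * m + 1) + 2 ^ (m + 1)) ∨
      (d ∣ 2 ^ (2 * m + 1) * 2 ^ (m + 1) - (1 + 2 ^ (2 * m + 1))) ∨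
      (d ∣ 2 ^ (2 * m + 1) * 2 ^ (m + 1) + (1 + 2 ^ (2 * m + 1)))) :
    d ∣ kPlus m ∨ d ∣ kMinus m := by
  have hr2 := two_mul_r_le hm
  have hr4 := four_le_r hm
  set q := 2 ^ (2 * m + 1) with hq
  set r := 2 ^ (m + 1) with hr
  rcases h with h | h | h | h
  · exact Or.inr (by rw [kMinus, ← hq, ← hr, show q - r + 1 = 1 + q - r by omega]; exact h)
  · exact Or.inl (by rw [kPlus, ← hq, ← hr, show q + r + 1 = 1 + q + r by omega]; exact h)
  · -- then `d ∣ q + r - 1`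
    have hle : 1 + q ≤ q * r := by nlinarith
    obtain ⟨e, he⟩ : ∃ e, q * r = 1 + q + e := ⟨q * r - (1 + q), by omega⟩
    rw [show q * r - (1 + q) = e by omega] at h
    obtain ⟨s, hs⟩ : ∃ s, r = s + 1 := ⟨r - 1, by omega⟩
    have h1 : q * e + (q + r - 1) = (r - 1) * (q ^ 2 + 1) := by
      have he' : q * (q * r) = q * (1 + q + e) := congrArg (q * ·) he
      rw [hs] at he' ⊢
      rw [Nat.add_sub_cancel, show q + (s + 1) - 1 = q + s by omega]
      nlinarith [he']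
    have h2 : d ∣ q + r - 1 := by
      have h3 : d ∣ (r - 1) * (q ^ 2 + 1) := Dvd.dvd.mul_left hd _
      rw [← h1] at h3
      exact (Nat.dvd_add_right (Dvd.dvd.mul_left h q)).1 h3
    refine Or.inl ?_
    rw [eq_one_of_dvd_of_coprime hm hd h2 ?_ ?_]
    · exact one_dvd _
    · refine Nat.coprime_of_dvd' fun p hp hp1 hp2 => ?_
      have h3 : p ∣ 2 := by
        rw [show kPlus m = q + r + 1 from rfl, show q + r + 1 = q + r - 1 + 2 by omega] at hp2
        exact (Nat.dvd_add_right hp1).1 hp2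
      exact absurd ((Nat.prime_dvd_prime_iff_eq hp Nat.prime_two).1 h3) fun e => by
        subst e
        exact Nat.not_even_iff_odd.2 (odd_kPlus hm) (even_iff_two_dvd.2 hp2)
    · refine Nat.coprime_of_dvd' fun p hp hp1 hp2 => ?_
      have h3 : p ∣ 2 * (r - 1) := by
        have e : q + r - 1 = kMinus m + 2 * (r - 1) := by
          rw [show kMinus m = q - r + 1 from rfl]; omega
        exact (Nat.dvd_add_right hp2).1 (e ▸ hp1)
      rcases hp.dvd_mul.1 h3 with h4 | h4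
      · exfalso
        rw [(Nat.prime_dvd_prime_iff_eq hp Nat.prime_two).1 h4] at hp2
        exact Nat.not_even_iff_odd.2 (odd_kMinus hm) (even_iff_two_dvd.2 hp2)
      · have h5 : p ∣ q := by
          have e : q + r - 1 = q + (r - 1) := by omega
          exact (Nat.dvd_add_left h4).1 (e ▸ hp1)
        exfalso
        rw [(Nat.prime_dvd_prime_iff_eq hp Nat.prime_two).1 (hp.dvd_of_dvd_pow h5)] at hp2
        exact Nat.not_even_iff_odd.2 (odd_kMinus hm) (even_iff_two_dvd.2 hp2)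
  · -- then `d ∣ q - r - 1`
    obtain ⟨f, hf⟩ : ∃ f, q = r + 1 + f := ⟨q - r - 1, by omega⟩
    have h1 : q * (q * r + (1 + q)) = (1 + r) * (q ^ 2 + 1) + f := by nlinarith [hf]
    have h2 : d ∣ f := (Nat.dvd_add_right (Dvd.dvd.mul_left hd (1 + r))).1 (h1 ▸ Dvd.dvd.mul_left h q)
    refine Or.inl ?_
    rw [eq_one_of_dvd_of_coprime hm hd h2 ?_ ?_]
    · exact one_dvd _
    · refine Nat.coprime_of_dvd' fun p hp hp1 hp2 => ?_
      have h3 : p ∣ 2 * (r + 1) := by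
        have e : kPlus m = f + 2 * (r + 1) := by
          rw [show kPlus m = q + r + 1 from rfl]; omega
        exact (Nat.dvd_add_right hp1).1 (e ▸ hp2)
      rcases hp.dvd_mul.1 h3 with h4 | h4
      · exfalso
        rw [(Nat.prime_dvd_prime_iff_eq hp Nat.prime_two).1 h4] at hp2
        exact Nat.not_even_iff_odd.2 (odd_kPlus hm) (even_iff_two_dvd.2 hp2)
      · have h5 : p ∣ q := by
          rw [hf]
          exact dvd_add h4 hp1
        exfalso
        rw [(Nat.prime_dvd_prime_iff_eq hp Nat.prime_two).1 (hp.dvd_of_dvd_pow h5)] at hp2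
        exact Nat.not_even_iff_odd.2 (odd_kPlus hm) (even_iff_two_dvd.2 hp2)
    · refine Nat.coprime_of_dvd' fun p hp hp1 hp2 => ?_
      have e : kMinus m = f + 2 := by
        rw [show kMinus m = q - r + 1 from rfl]; omega
      have h3 : p ∣ 2 := (Nat.dvd_add_right hp1).1 (e ▸ hp2)
      exfalso
      rw [(Nat.prime_dvd_prime_iff_eq hp Nat.prime_two).1 h3] at hp2
      exact Nat.not_even_iff_odd.2 (odd_kMinus hm) (even_iff_two_dvd.2 hp2)

end Cfsg.Agent.Suzuki
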