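import Cfsg.Agent.Lib.Suzuki.Equation
import Cfsg.Agent.Lib.Suzuki.TorusNumbers

/-!
# The centralizer of an element of prime order dividing `q ^ 2 + 1`
-/

set_option autoImplicit false
set_option linter.unusedSectionVars false

namespace Cfsg.Agent.Suzuki

open Matrix

variable {F : Type*} [Field F] [Fintype F] [CharP F 2] {m : ℕ}

theorem eq_four_of_dvd {p q d : ℕ} (hp : p.Prime) (hp2 : p ≠ 2) (hq : p ∣ q ^ 2 + 1)
    (hq0 : q ≠ 0) (hd : p ∣ q ^ d - 1) (hd4 : d ≤ 4) (hd0 : d ≠ 0) : d = 4 := by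
  haveI := Fact.mk hp
  have h1 : (q : ZMod p) ^ 2 = -1 := by
    have h := (ZMod.natCast_eq_zero_iff _ _).2 hq
    push_cast at h
    linear_combination h
  have h2 : (q : ZMod p) ^ d = 1 := by
    have h := (ZMod.natCast_eq_zero_iff _ _).2 hd
    rw [Nat.cast_sub (Nat.one_le_pow _ _ (Nat.pos_of_ne_zero hq0))] at h
    push_cast at h
    linear_combination h
  have hne : (1 : ZMod p) ≠ -1 := by
    intro e
    have h : ((2 : ℕ) : ZMod p) = 0 := by push_cast; linear_combination e
    exact hp2 ((Nat.prime_dvd_prime_iff_eq hp Nat.prime_two).1 ((ZMod.natCast_eq_zero_iff _ _).1 h))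
  interval_cases d
  · omega
  · rw [pow_one] at h2; rw [h2, one_pow] at h1; exact absurd h1 hne
  · exact absurd (h2.symm.trans h1) hne
  · have h3 : (q : ZMod p) = -1 := by linear_combination -h2 + (q : ZMod p) * h1
    rw [h3] at h1
    norm_num at h1
    exact absurd h1 hne
  · rfl

theorem minpoly_irreducible {M : Matrix (Fin 4) (Fin 4) F} {p : ℕ} (hp : p.Prime) (hp2 : p ≠ 2)
    (hq : p ∣ Fintype.card F ^ 2 + 1) (hM : M ^ p = 1) (hM1 : M ≠ 1) :
    Irreducible (minpoly F M) ∧ (minpoly F M).natDegree = 4 := by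
  haveI := Fact.mk hp
  set f := minpoly F M with hf
  have hne : f ≠ 0 := minpoly.ne_zero (Matrix.isIntegral M)
  have hdvd : f ∣ Polynomial.X ^ p - Polynomial.C 1 := minpoly.dvd F M (by simp [hM])
  have hdeg : f.natDegree ≤ 4 := by
    have := Polynomial.natDegree_le_of_dvd (Matrix.minpoly_dvd_charpoly M) M.charpoly_monic.ne_zero
    rwa [Matrix.charpoly_natDegree_eq_dim, Fintype.card_fin] at this
  have hp0 : (p : F) ≠ 0 := by
    intro e
    exact hp2 ((Nat.prime_dvd_prime_iff_eq Nat.prime_two hp).1 ((CharP.cast_eq_zero_iff F 2 p).1 e)).symm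
  have hsq : Squarefree f :=
    ((Polynomial.separable_X_pow_sub_C (1 : F) hp0 one_ne_zero).squarefree).squarefree_of_dvd hdvd
  -- every irreducible factor other than `X - 1` has degree four
  have hfac : ∀ g : Polynomial F, g ∣ f → Irreducible g → g.natDegree = 4 ∨
      Associated g (Polynomial.X - Polynomial.C 1) := by
    intro g hgf hg
    haveI := Fact.mk hg
    set ρ := AdjoinRoot.root g with hρ
    have hρp : ρ ^ p = 1 := by
      have h : AdjoinRoot.mk g (Polynomial.X ^ p - Polynomial.C 1) = 0 :=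
        AdjoinRoot.mk_eq_zero.2 (hgf.trans hdvd)
      rw [map_sub, map_pow, AdjoinRoot.mk_X, Polynomial.C_1, map_one, sub_eq_zero] at h
      exact h
    by_cases h1 : ρ = 1
    · right
      have h : AdjoinRoot.mk g (Polynomial.X - Polynomial.C 1) = 0 := by
        rw [map_sub, AdjoinRoot.mk_X, Polynomial.C_1, map_one, ← hρ, h1, sub_self]
      exact hg.associated_of_dvd (Polynomial.irreducible_X_sub_C 1) (AdjoinRoot.mk_eq_zero.1 h)
    · left
      have ho : orderOf ρ = p := orderOf_eq_prime hρp h1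
      haveI := (AdjoinRoot.powerBasis hg.ne_zero).finite
      haveI : Finite (AdjoinRoot g) := Module.finite_of_finite F
      have hρ0 : ρ ≠ 0 := fun e => by simp [e, zero_pow hp.ne_zero] at hρp
      have hcard : Nat.card (AdjoinRoot g) = Fintype.card F ^ g.natDegree := by
        rw [Module.natCard_eq_pow_finrank (K := F), (AdjoinRoot.powerBasis hg.ne_zero).finrank,
          AdjoinRoot.powerBasis_dim, Nat.card_eq_fintype_card]
      have hd : p ∣ Fintype.card F ^ g.natDegree - 1 := by
        have hou : orderOf (Units.mk0 ρ hρ0) = p := by rw [← orderOf_units, Units.val_mk0, ho]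
        rw [← hou, ← hcard, ← Nat.card_units]
        exact orderOf_dvd_natCard _
      exact eq_four_of_dvd hp hp2 hq Fintype.card_ne_zero hd
        ((Polynomial.natDegree_le_of_dvd hgf hne).trans hdeg) hg.natDegree_pos.ne'
  have hf1 : ¬ IsUnit f := minpoly.not_isUnit F M
  obtain ⟨g, hg, hgf⟩ := WfDvdMonoid.exists_irreducible_factor hf1 hne
  rcases hfac g hgf hg with h | h
  · obtain ⟨c, hc⟩ := hgf
    have hc0 : c ≠ 0 := right_ne_zero_of_mul (hc ▸ hne)
    have hdc : c.natDegree = 0 := by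
      have h4 := congrArg Polynomial.natDegree hc
      rw [Polynomial.natDegree_mul hg.ne_zero hc0, h] at h4
      omega
    have hu : IsUnit c := by
      rw [Polynomial.eq_C_of_natDegree_eq_zero hdc] at hc0 ⊢
      exact Polynomial.isUnit_C.2 (isUnit_iff_ne_zero.2 fun e => hc0 (by rw [e, map_zero]))
    refine ⟨?_, ?_⟩
    · rw [hc]; exact (irreducible_mul_isUnit hu).2 hg
    · rw [hc, Polynomial.natDegree_mul hg.ne_zero hc0, h, hdc]
  · obtain ⟨c, hc⟩ : Polynomial.X - Polynomial.C 1 ∣ f := h.symm.dvd.trans hgf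
    have hc0 : c ≠ 0 := right_ne_zero_of_mul (hc ▸ hne)
    by_cases hu : IsUnit c
    · exfalso
      refine hM1 ?_
      have h0 : Polynomial.aeval M f = 0 := minpoly.aeval F M
      rw [hc, map_mul] at h0
      have := (hu.map (Polynomial.aeval M)).mul_left_eq_zero.1 h0
      rwa [map_sub, Polynomial.aeval_X, Polynomial.aeval_C, map_one, sub_eq_zero] at this
    · exfalso
      obtain ⟨g', hg', hg'c⟩ := WfDvdMonoid.exists_irreducible_factor hu hc0
      have hdle : g'.natDegree + 1 ≤ 4 := by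
        have h4 := congrArg Polynomial.natDegree hc
        rw [Polynomial.natDegree_mul (Polynomial.X_sub_C_ne_zero 1) hc0, Polynomial.natDegree_X_sub_C] at h4
        have := Polynomial.natDegree_le_of_dvd hg'c hc0
        omega
      rcases hfac g' (hg'c.trans (hc ▸ dvd_mul_left c _)) hg' with h' | h'
      · omega
      · exact (Polynomial.irreducible_X_sub_C (1 : F)).not_isUnit
          (hsq _ (hc ▸ mul_dvd_mul_left _ (h'.symm.dvd.trans hg'c)))

variable (hm : 1 ≤ m) (hF : Fintype.card F = 2 ^ (2 * m + 1))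

/-- The underlying matrix. -/
def mat (g : Cfsg.Sz F m) : Matrix (Fin 4) (Fin 4) F := (g.1 : Matrix (Fin 4) (Fin 4) F)

theorem mat_mul (g h : Cfsg.Sz F m) : mat (g * h) = mat g * mat h := rfl

theorem mat_one : mat (1 : Cfsg.Sz F m) = 1 := rfl

theorem mat_injective : Function.Injective (mat (F := F) (m := m)) := fun _ _ h =>
  Subtype.ext (Subtype.ext h)

theorem mat_pow (g : Cfsg.Sz F m) (n : ℕ) : mat (g ^ n) = mat g ^ n := by
  induction n with
  | zero => rw [pow_zero, pow_zero]; rfl
  | succ n ih => rw [pow_succ, pow_succ, mat_mul, ih]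

include hm hF

theorem adj4_mat (g : Cfsg.Sz F m) : adj4 (mat g) = mat g⁻¹ := by
  calc adj4 (mat g) = adj4 (mat g) * (mat g * mat g⁻¹) := by
        rw [← mat_mul, mul_inv_cancel, mat_one, mul_one]
    _ = mat g⁻¹ := by rw [← mul_assoc, adj4_mul (m := m) (g := mat g) (Sz_mem_lie hm hF g.2), one_mul]

/-- Structure of the centralizer of an element of prime order dividing `q ^ 2 + 1`. -/
theorem torus_centralizer {x : Cfsg.Sz F m} {p : ℕ} (hp : p.Prime) (hx : orderOf x = p)
    (hq : p ∣ Fintype.card F ^ 2 + 1) :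
    IsCyclic (Subgroup.centralizer ({x} : Set (Cfsg.Sz F m))) ∧
      (∀ y ∈ Subgroup.centralizer ({x} : Set (Cfsg.Sz F m)), orderOf y ∣ kPlus m ∨ orderOf y ∣ kMinus m) ∧
      Nat.card (Subgroup.normalizer
          ((Subgroup.centralizer ({x} : Set (Cfsg.Sz F m))) : Set (Cfsg.Sz F m))) ≤
        4 * Nat.card (Subgroup.centralizer ({x} : Set (Cfsg.Sz F m))) := by
  classical
  have hp2 : p ≠ 2 := by
    rintro rfl
    rw [hF, ← even_iff_two_dvd] at hq
    exact Nat.not_even_iff_odd.2
      (((even_two.pow_of_ne_zero (by omega : 2 * m + 1 ≠ 0)).pow_of_ne_zero two_ne_zero).add_one) hq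
  have hxp : mat x ^ p = 1 := by rw [← mat_pow, ← hx, pow_orderOf_eq_one, mat_one]
  have hx1 : mat x ≠ 1 := by
    intro e
    have : x = 1 := mat_injective (e.trans mat_one.symm)
    rw [this, orderOf_one] at hx
    exact hp.ne_one hx.symm
  obtain ⟨hirr, hdeg⟩ := minpoly_irreducible hp hp2 hq hxp hx1
  haveI := Fact.mk hirr
  let L := AdjoinRoot (minpoly F (mat x))
  let φ := CyclicField.ev (mat x)
  have hφ : Function.Injective φ := CyclicField.ev_injective _ hirr
  have hroot : φ (AdjoinRoot.root (minpoly F (mat x))) = mat x := CyclicField.ev_root _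
  haveI : Module.Finite F L := (AdjoinRoot.powerBasis hirr.ne_zero).finite
  haveI : Finite L := Module.finite_of_finite F
  haveI : CharP L 2 := charP_of_injective_algebraMap' F 2
  set C := Subgroup.centralizer ({x} : Set (Cfsg.Sz F m)) with hC
  have hexists : ∀ y : C, ∃ l, φ l = mat (y : Cfsg.Sz F m) := fun y =>
    CyclicField.exists_ev_of_commute _ hirr hdeg (by
      show mat (y : Cfsg.Sz F m) * mat x = mat x * mat (y : Cfsg.Sz F m)
      rw [← mat_mul, ← mat_mul, Subgroup.mem_centralizer_singleton_iff.1 y.2])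
  choose ψ hψ using hexists
  let Ψ : C →* L :=
    { toFun := ψ
      map_one' := hφ (by rw [hψ, map_one]; rfl)
      map_mul' := fun y z => hφ (by rw [hψ, map_mul, hψ, hψ]; rfl) }
  have hΨinj : Function.Injective Ψ := fun y z h =>
    Subtype.ext (mat_injective (by rw [← hψ y, ← hψ z]; exact congrArg φ h))
  set ρ := AdjoinRoot.root (minpoly F (mat x)) with hρdef
  have hxC : x ∈ C := Subgroup.mem_centralizer_singleton_iff.2 rfl
  have hρ : Ψ ⟨x, hxC⟩ = ρ := hφ (by rw [hroot]; exact hψ _)
  -- the adjoint is the square of the Frobenius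
  have hinv : ∀ y : C, Ψ y⁻¹ = Ψ y ^ Fintype.card F ^ 2 := by
    let A₁ : L →ₐ[F] Matrix (Fin 4) (Fin 4) F :=
      φ.comp ((FiniteField.frobeniusAlgHom F L).comp (FiniteField.frobeniusAlgHom F L))
    let A₂ : L →ₐ[F] Matrix (Fin 4) (Fin 4) F :=
      AlgHom.ofLinearMap
        { toFun := fun l => adj4 (φ l)
          map_add' := fun a b => by
            simp [adj4, map_add, Matrix.transpose_add, mul_add, add_mul]
          map_smul' := fun c a => by
            simp [adj4, map_smul, Matrix.transpose_smul, mul_smul_comm, smul_mul_assoc] }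
        (by show adj4 (φ 1) = 1; simp [adj4, swapMat_mul_self])
        (fun a b => by
          show adj4 (φ (a * b)) = adj4 (φ a) * adj4 (φ b)
          rw [mul_comm a b, map_mul, adj4, adj4, adj4, Matrix.transpose_mul]
          simp only [mul_assoc, ← mul_assoc swapMat swapMat, swapMat_mul_self, one_mul])
    have hA1 : ∀ l, A₁ l = φ (l ^ Fintype.card F ^ 2) := fun l => by
      show φ ((l ^ Fintype.card F) ^ Fintype.card F) = _
      rw [← pow_mul, ← sq]
    have hA : A₁ = A₂ := by
      refine AdjoinRoot.algHom_ext ?_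
      show A₁ ρ = adj4 (φ ρ)
      rw [hA1, hroot, adj4_mat hm hF, map_pow, hroot, ← mat_pow]
      congr 1
      refine eq_inv_of_mul_eq_one_left ?_
      rw [← pow_succ, ← orderOf_dvd_iff_pow_eq_one, hx]
      exact hq
    intro y
    refine hφ ?_
    show φ (ψ y⁻¹) = _
    rw [hψ, ← hA1, hA]
    show _ = adj4 (φ (ψ y))
    rw [hψ, adj4_mat hm hF]
    rfl
  -- eigenvalue relation
  have hord : ∀ y : C, orderOf (y : Cfsg.Sz F m) ∣ kPlus m ∨ orderOf (y : Cfsg.Sz F m) ∣ kMinus m := by
    intro y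
    rw [Subgroup.orderOf_coe, ← orderOf_injective Ψ hΨinj]
    set l := Ψ y with hl
    have hl0 : l ≠ 0 := by
      intro e
      have h : Ψ (y * y⁻¹) = 1 := by rw [mul_inv_cancel, map_one]
      rw [map_mul, ← hl, e, zero_mul] at h
      exact zero_ne_one h
    have hlinv : l⁻¹ = l ^ Fintype.card F ^ 2 := by
      rw [← hinv y]
      refine inv_eq_of_mul_eq_one_right ?_
      rw [hl, ← map_mul, mul_inv_cancel, map_one]
    have hqq : l ^ (Fintype.card F ^ 2 + 1) = 1 := by rw [pow_succ, ← hlinv, inv_mul_cancel₀ hl0]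
    have hd : orderOf l ∣ (2 ^ (2 * m + 1)) ^ 2 + 1 := by
      rw [← hF]; exact orderOf_dvd_of_pow_eq_one hqq
    by_cases hl1 : l = 1
    · rw [hl1, orderOf_one]; exact Or.inl (one_dvd _)
    set T := (mat (y : Cfsg.Sz F m)).trace with hT
    set T' := algebraMap F L T with hT'
    have hla : (l + l⁻¹) * (l + l⁻¹) + T' * (l + l⁻¹) + T' ^ 2 ^ (m + 1) = 0 := by
      refine hφ ?_
      have hli : φ l⁻¹ = adj4 (mat (y : Cfsg.Sz F m)) := by
        rw [adj4_mat hm hF, hlinv, ← hinv y]
        exact hψ _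
      simp only [map_add, map_mul, map_pow, map_zero, hli,
        show φ l = mat (y : Cfsg.Sz F m) from hψ y,
        show φ T' = algebraMap F _ T from φ.commutes T]
      have := quadratic_eq (Sz_mem_lie hm hF (y : Cfsg.Sz F m).2)
      rw [← map_pow (algebraMap F (Matrix (Fin 4) (Fin 4) F)), Algebra.algebraMap_eq_smul_one,
        Algebra.algebraMap_eq_smul_one, smul_mul_assoc, one_mul]
      exact this
    set σ := FiniteField.frobeniusAlgHom F L with hσ
    have hσa : ∀ z, σ z = z ^ Fintype.card F := fun z => rfl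
    set z := l ^ Fintype.card F with hz
    have hzb : σ (l + l⁻¹) = z + z⁻¹ := by rw [map_add, hσa, hσa, inv_pow]
    have hlb : (z + z⁻¹) * (z + z⁻¹) + T' * (z + z⁻¹) + T' ^ 2 ^ (m + 1) = 0 := by
      have := congrArg σ hla
      rwa [map_add, map_add, map_mul, map_mul, map_pow, map_zero, hzb, hT', AlgHom.commutes] at this
    have hne : l + l⁻¹ ≠ z + z⁻¹ := by
      intro e
      have hz0 : z ≠ 0 := pow_ne_zero _ hl0
      have h' : (l - z) * (l * z - 1) = 0 := by
        linear_combination (l * z) * e - z * (mul_inv_cancel₀ hl0) + l * (mul_inv_cancel₀ hz0)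
      rcases mul_eq_zero.1 h' with h | h
      · rw [sub_eq_zero] at h
        have h1 : l ^ Fintype.card F = l := by rw [← hz]; exact h.symm
        have h2 : l ^ (Fintype.card F ^ 2) = l := by rw [sq, pow_mul, h1, h1]
        rw [h2] at hlinv
        have h3 : l ^ 2 = 1 := by
          rw [sq]
          nth_rewrite 1 [← hlinv]
          exact inv_mul_cancel₀ hl0
        exact hl1 (CharTwo.add_eq_zero.1 ((mul_self_eq_zero (a := l + 1)).1 (by
          linear_combination h3 + (l + 1) * (CharTwo.two_eq_zero (R := L)))))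
      · rw [sub_eq_zero] at h
        have h1 : l ^ Fintype.card F = l⁻¹ := eq_inv_of_mul_eq_one_right h
        have h2 : l ^ (Fintype.card F ^ 2) = l := by rw [sq, pow_mul, h1, inv_pow, h1, inv_inv]
        rw [h2] at hlinv
        have h3 : l ^ 2 = 1 := by
          rw [sq]
          nth_rewrite 1 [← hlinv]
          exact inv_mul_cancel₀ hl0
        exact hl1 (CharTwo.add_eq_zero.1 ((mul_self_eq_zero (a := l + 1)).1 (by
          linear_combination h3 + (l + 1) * (CharTwo.two_eq_zero (R := L)))))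
    have hsum : l + l⁻¹ + (z + z⁻¹) = T' := by
      have h' : (l + l⁻¹ - (z + z⁻¹)) * (l + l⁻¹ + (z + z⁻¹) + T') = 0 := by
        linear_combination hla - hlb
      exact CharTwo.add_eq_zero.1 ((mul_eq_zero.1 h').resolve_left (sub_ne_zero.2 hne))
    have hprod : (l + l⁻¹) * (z + z⁻¹) = T' ^ 2 ^ (m + 1) := by
      have h2 : (2 : L) = 0 := CharTwo.two_eq_zero
      rw [← hsum] at hla ⊢
      linear_combination hla - (l + l⁻¹) ^ 2 * h2 -
        (l + l⁻¹ + (z + z⁻¹)) ^ 2 ^ (m + 1) * h2
    have hTpow : T' ^ (2 ^ (m + 1) * 2 ^ (m + 1)) = T' ^ 2 := by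
      rw [r_sq, hT', ← map_pow, ← map_pow, mul_comm, pow_mul, ← hF, FiniteField.pow_card]
    have h := eigen_relation ⟨m + 1, rfl⟩ hl0 (pow_ne_zero _ hl0) hTpow hsum hprod
    refine order_cases hm hd ?_
    have hq' := hF
    set q := 2 ^ (2 * m + 1) with hqdef
    rw [hq'] at h
    have hr := two_mul_r_le hm
    have hr4 := four_le_r hm
    rw [← hqdef] at hr
    set r := 2 ^ (m + 1) with hrdef
    have hsplit : ∀ a b : ℕ, b ≤ a → l ^ a = l ^ b → orderOf l ∣ a - b := fun a b hab e => by
      refine orderOf_dvd_of_pow_eq_one (mul_right_cancel₀ (pow_ne_zero b hl0) ?_)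
      rw [← pow_add, Nat.sub_add_cancel hab, e, one_mul]
    rcases h with h | h | h | h
    · exact Or.inl (hsplit (1 + q) r (by omega) (by rw [pow_add, pow_one]; exact h))
    · refine Or.inr (Or.inl (orderOf_dvd_of_pow_eq_one ?_))
      rw [pow_add, pow_add, pow_one]; exact h
    · refine Or.inr (Or.inr (Or.inl (hsplit (q * r) (1 + q) (by nlinarith) ?_)))
      rw [pow_mul, pow_add, pow_one]; exact h.symm
    · refine Or.inr (Or.inr (Or.inr (orderOf_dvd_of_pow_eq_one ?_)))
      rw [pow_add, pow_mul, pow_add, pow_one, mul_comm]; exact h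
  refine ⟨isCyclic_of_subgroup_isDomain Ψ hΨinj, fun y hy => hord ⟨y, hy⟩, ?_⟩
  -- the normalizer
  let f := minpoly F (mat x)
  let Roots := {l : L // Polynomial.aeval l f = 0}
  have hRcard : Nat.card Roots ≤ 4 := by
    have hset : ∀ l : L, Polynomial.aeval l f = 0 ↔ l ∈ (f.aroots L).toFinset := fun l => by
      rw [Multiset.mem_toFinset, Polynomial.mem_aroots]
      exact ⟨fun h => ⟨hirr.ne_zero, h⟩, fun h => h.2⟩
    rw [Nat.card_congr (Equiv.subtypeEquivRight hset), Nat.card_eq_fintype_card, Fintype.card_coe]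
    exact (Multiset.toFinset_card_le _).trans ((Polynomial.card_roots' _).trans
      (Polynomial.natDegree_map_le.trans hdeg.le))
  set N := Subgroup.normalizer (C : Set (Cfsg.Sz F m)) with hN
  have himg : ∀ n : N, Polynomial.aeval (Ψ ⟨(n : Cfsg.Sz F m) * x * (n : Cfsg.Sz F m)⁻¹,
      (Subgroup.mem_set_normalizer_iff.1 n.2 x).1 hxC⟩) f = 0 := by
    intro n
    refine hφ ?_
    have hu : mat (n : Cfsg.Sz F m) * mat (n : Cfsg.Sz F m)⁻¹ = 1 := by
      rw [← mat_mul, mul_inv_cancel, mat_one]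
    let conjA : Matrix (Fin 4) (Fin 4) F →ₐ[F] Matrix (Fin 4) (Fin 4) F :=
      AlgHom.ofLinearMap
        { toFun := fun A => mat (n : Cfsg.Sz F m) * A * mat (n : Cfsg.Sz F m)⁻¹
          map_add' := fun a b => by simp [mul_add, add_mul]
          map_smul' := fun c a => by simp [mul_smul_comm, smul_mul_assoc] }
        (by show mat (n : Cfsg.Sz F m) * 1 * mat (n : Cfsg.Sz F m)⁻¹ = 1; rw [mul_one, hu])
        (fun a b => by
          show mat (n : Cfsg.Sz F m) * (a * b) * mat (n : Cfsg.Sz F m)⁻¹ = mat (n : Cfsg.Sz F m) * a *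
            mat (n : Cfsg.Sz F m)⁻¹ * (mat (n : Cfsg.Sz F m) * b * mat (n : Cfsg.Sz F m)⁻¹)
          simp only [mul_assoc]
          rw [← mul_assoc (mat (n : Cfsg.Sz F m)⁻¹) (mat (n : Cfsg.Sz F m)),
            ← mat_mul, inv_mul_cancel, mat_one, one_mul])
    rw [← Polynomial.aeval_algHom_apply, map_zero]
    show Polynomial.aeval (φ (Ψ _)) f = 0
    rw [show φ (Ψ _) = _ from hψ _, show mat ((n : Cfsg.Sz F m) * x * (n : Cfsg.Sz F m)⁻¹) = conjA (mat x) from rfl,
      Polynomial.aeval_algHom_apply, minpoly.aeval, map_zero]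
  let β : N ⧸ C.subgroupOf N → Roots := fun c => Quotient.liftOn' c
    (fun n => ⟨_, himg n⟩) (fun n n' hnn' => by
      rw [QuotientGroup.leftRel_apply, Subgroup.mem_subgroupOf] at hnn'
      have hc := Subgroup.mem_centralizer_singleton_iff.1 hnn'
      refine Subtype.ext (congrArg Ψ (Subtype.ext ?_))
      show (n : Cfsg.Sz F m) * x * (n : Cfsg.Sz F m)⁻¹ = (n' : Cfsg.Sz F m) * x * (n' : Cfsg.Sz F m)⁻¹
      simp only [Subgroup.coe_mul, Subgroup.coe_inv] at hc
      calc (n : Cfsg.Sz F m) * x * (n : Cfsg.Sz F m)⁻¹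
          = (n : Cfsg.Sz F m) * ((x * ((n : Cfsg.Sz F m)⁻¹ * (n' : Cfsg.Sz F m))) *
              (n' : Cfsg.Sz F m)⁻¹) := by group
        _ = (n' : Cfsg.Sz F m) * x * (n' : Cfsg.Sz F m)⁻¹ := by rw [← hc]; group)
  have hβ : Function.Injective β := by
    intro c c'
    induction c using QuotientGroup.induction_on with
    | H n =>
      induction c' using QuotientGroup.induction_on with
      | H n' =>
        intro h
        have h1 : (n : Cfsg.Sz F m) * x * (n : Cfsg.Sz F m)⁻¹ =
            (n' : Cfsg.Sz F m) * x * (n' : Cfsg.Sz F m)⁻¹ :=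
          congrArg Subtype.val (hΨinj (congrArg Subtype.val h))
        rw [QuotientGroup.eq, Subgroup.mem_subgroupOf, hC, Subgroup.mem_centralizer_singleton_iff]
        simp only [Subgroup.coe_mul, Subgroup.coe_inv]
        calc (n : Cfsg.Sz F m)⁻¹ * (n' : Cfsg.Sz F m) * x
            = (n : Cfsg.Sz F m)⁻¹ * ((n' : Cfsg.Sz F m) * x * (n' : Cfsg.Sz F m)⁻¹) *
                (n' : Cfsg.Sz F m) := by group
          _ = x * ((n : Cfsg.Sz F m)⁻¹ * (n' : Cfsg.Sz F m)) := by rw [← h1]; group
  rw [← Subgroup.card_mul_index (C.subgroupOf N),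
    Nat.card_congr (Subgroup.subgroupOfEquivOfLe Subgroup.le_normalizer).toEquiv, mul_comm 4]
  exact Nat.mul_le_mul le_rfl ((Nat.card_le_card_of_injective β hβ).trans hRcard)

end Cfsg.Agent.Suzuki
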